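import Cfsg.Agent.PearlFour.Setup
import Mathlib

/-!
The case `E ≤ C_S(T (n-2))`, `E` not inside `T 1`.
-/

set_option autoImplicit false
set_option linter.style.haveILetI false

open Cfsg
open scoped commutatorElement

namespace CfsgLib.PearlFour

open Cfsg.FusionSystem CfsgLib.Fusion CfsgLib.MaxPearl

universe u

variable {Ω : Type u} [Group Ω] {S : Subgroup Ω} [Finite S] {F : Cfsg.FusionSystem S}
variable {p n : ℕ} [hp : Fact p.Prime] {T : ℕ → Subgroup S} {E : Subgroup Ω}

namespace Ctx

variable (C : Ctx F p n T E)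
include C

/-- `T (n-2)` lies in `E` when `E` centralises it. -/
theorem two_le (hM : ∀ e ∈ E.subgroupOf S, ∀ b ∈ T (n - 2), e * b = b * e) : T (n - 2) ≤ E.subgroupOf S :=
  fun b hb => C.self_cent fun v hv => (hM v hv b hb).symm

set_option maxHeartbeats 1000000 in
theorem caseB (hM : ∀ e ∈ E.subgroupOf S, ∀ b ∈ T (n - 2), e * b = b * e) (h1 : ¬ E.subgroupOf S ≤ T 1) : False := by
  classical
  have h5 := C.h5
  have c := C.c
  haveI : ∀ j, (T j).Normal := c.normal
  set E₀ := E.subgroupOf S with hE₀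
  obtain ⟨e, heE, he1⟩ := SetLike.not_le_iff_exists.1 h1
  have heC : ∀ b ∈ T (n - 2), e * b = b * e := hM e heE
  have hgenT : ∀ g : S, ∃ k : ℕ, ∃ t ∈ T 1, g = e ^ k * t := fun g => by
    obtain ⟨k, -, t, ht, hk⟩ := c.gen (j := 0) (by omega) (u := e) (by rw [c.zero]; exact Subgroup.mem_top e) he1
      (x := g) (by rw [c.zero]; exact Subgroup.mem_top g)
    exact ⟨k, t, ht, hk⟩
  -- `T 1` moves `T (n-2)`
  have hT1 : ¬ ∀ a ∈ T 1, ∀ b ∈ T (n - 2), a * b = b * a := by
    intro h
    obtain ⟨b, hb, hb'⟩ := c.exists_level (j := n - 2) (by omega)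
    have hbz : ∀ g : S, g * b = b * g := fun g => by
      obtain ⟨k, t, ht, rfl⟩ := hgenT g
      exact (Commute.pow_left (show Commute e b from heC b hb) k).mul_left (show Commute t b from h t ht b hb)
    refine hb' ?_
    obtain ⟨s, -, hs⟩ := c.exists_level (j := 0) (by omega)
    by_contra hne
    exact moves c C.hT (j := n - 2) (by omega) (by omega) (fun a ha x hx => by
      rw [commutatorElement_eq_one_iff_mul_comm.2 (h a ha x hx)]; exact one_mem _) hs hb hne
      (by rw [commutatorElement_eq_one_iff_mul_comm.2 (hbz s)]; exact one_mem _)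
  have heven : Even n := by
    by_contra h
    exact hT1 (odd_center c C.hT (Nat.not_even_iff_odd.1 h) fun j hj hjn => C.kills (by omega) hjn)
  have hn6 : 6 ≤ n := by obtain ⟨m, hm⟩ := heven; omega
  have hep : e ^ p = 1 := C.exp0 heE
  have hmv : ∀ {l : ℕ}, 1 ≤ l → l + 3 ≤ n → ∀ {u : S}, u ∈ T l → u ∉ T (l + 1) → ⁅e, u⁆ ∉ T (l + 2) :=
    fun hl hln _ hu hu' => moves c C.hT hl (by omega) (C.kills hl hln) he1 hu hu'
  have hpre : ∀ {l : ℕ}, 1 ≤ l → l + 3 ≤ n → ∃ u ∈ T l, u ∉ T (l + 1) ∧ ⁅e, u⁆ ∈ T (l + 1) ∧ ⁅e, u⁆ ∉ T (l + 2) :=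
    fun hl hln => exists_preimage c C.hT hl (by omega) (C.kills hl hln) he1
  -- the subgroups `⟨e⟩ T j`
  set P : ℕ → Subgroup S := fun j => T j ⊔ Subgroup.zpowers e with hP
  have hPe : ∀ j, e ∈ P j := fun j => Subgroup.mem_sup_right (Subgroup.mem_zpowers e)
  have hPT : ∀ j, T j ≤ P j := fun j => le_sup_left
  have hPdec : ∀ j, ∀ x ∈ P j, ∃ (k : ℕ) (t : S), t ∈ T j ∧ x = e ^ k * t := by
    intro j x hx
    obtain ⟨t, ht, q, hq, rfl⟩ := Subgroup.mem_sup_of_normal_left.1 hx
    obtain ⟨r, rfl⟩ := C.nat_of_zpowers hep hq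
    exact ⟨r, (e ^ r)⁻¹ * t * e ^ r, by simpa using (c.normal j).conj_mem t ht (e ^ r)⁻¹, by group⟩
  have hpowmem : ∀ {j : ℕ}, 1 ≤ j → ∀ k : ℕ, e ^ k ∈ T j → e ^ k = 1 := by
    intro j hj k hk
    by_cases hd : p ∣ k
    · obtain ⟨d, rfl⟩ := hd; rw [pow_mul, hep, one_pow]
    · exfalso
      apply he1
      obtain ⟨l, hl⟩ := exists_coeff (p := p) hd (p - 1)
      obtain ⟨q, hq⟩ := Nat.dvd_of_mod_eq_zero hl
      have h2 : e ^ (p - 1 + k * l) = 1 := by rw [hq, pow_mul, hep, one_pow]
      have h3 : e = (e ^ k) ^ l := by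
        refine mul_left_cancel (a := e ^ (p - 1)) ?_
        rw [← pow_mul, ← pow_add, h2, ← pow_succ, Nat.sub_add_cancel hp.out.one_lt.le, hep]
      rw [h3]
      exact c.anti hj (pow_mem hk l)
  have hPcard : ∀ j, 1 ≤ j → j ≤ n → Nat.card (P j) = p ^ (n - j + 1) := by
    intro j hj hjn
    haveI := c.normal j
    have h := CfsgLib.MaxPearlC.card_map_mk (N := T j) (H := P j) (hPT j)
    rw [C.cardT hjn] at h
    rw [← h, pow_succ]
    congr 1
    rw [hP]
    simp only [Subgroup.map_sup, QuotientGroup.map_mk'_self, bot_sup_eq, MonoidHom.map_zpowers, Nat.card_zpowers]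
    refine (hp.out.eq_one_or_self_of_dvd _ (orderOf_dvd_of_pow_eq_one (by rw [← map_pow, hep, map_one]))).resolve_left ?_
    intro h1'
    exact he1 (c.anti hj ((QuotientGroup.eq_one_iff _).1 (orderOf_eq_one_iff.1 h1')))
  have hcap : ∀ {j : ℕ}, 1 ≤ j → ∀ x ∈ P j, x ∈ T 1 → x ∈ T j := by
    intro j hj x hx hx1
    obtain ⟨k, t, ht, rfl⟩ := hPdec j x hx
    have := hpowmem le_rfl k ((Subgroup.mul_mem_cancel_right _ (c.anti hj ht)).1 hx1)
    rwa [this, one_mul]
  have hZ2 := C.two_le hM
  have hPE : P (n - 2) = E₀ := by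
    refine Subgroup.eq_of_le_of_card_ge (sup_le hZ2 (Subgroup.zpowers_le.2 heE)) ?_
    rw [hPcard (n - 2) (by omega) (by omega), C.card0, show n - (n - 2) + 1 = 3 by omega]
  -- their normalizers
  have hnorm : ∀ j, 2 ≤ j → j ≤ n - 2 → Subgroup.normalizer (P j : Set S) = P (j - 1) := by
    intro j hj2 hjn
    refine le_antisymm (fun g hg => ?_) ?_
    · obtain ⟨k, t, ht, rfl⟩ := hgenT g
      have ht' : t ∈ Subgroup.normalizer (P j : Set S) :=
        (Subgroup.mul_mem_cancel_left _ (Subgroup.pow_mem _ (Subgroup.le_normalizer (hPe j)) k)).1 hg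
      refine mul_mem (pow_mem (hPe _) k) (hPT _ ?_)
      rcases eq_or_ne t 1 with rfl | ht0
      · exact one_mem _
      obtain ⟨l, -, hl, hl'⟩ := c.level ht0
      by_contra hne
      have hl1 : 1 ≤ l := by
        by_contra h0
        obtain rfl : l = 0 := by omega
        exact hl' ht
      have hlj : l + 2 ≤ j := by
        by_contra h0
        exact hne (c.anti (by omega) hl)
      have h6 : ⁅e, t⁆ ∈ P j := by
        have h7 : t * e⁻¹ * t⁻¹ ∈ P j := (Subgroup.mem_normalizer_iff.1 ht' e⁻¹).1 (inv_mem (hPe j))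
        have h8 := (P j).mul_mem (hPe j) h7
        rwa [show e * (t * e⁻¹ * t⁻¹) = ⁅e, t⁆ by simp only [commutatorElement_def]; group] at h8
      have h9 := hcap (by omega) _ h6 (c.anti (by omega) (c.mem_step hl1 hl e))
      exact hmv hl1 (by omega) hl hl' (c.anti hlj h9)
    · refine sup_le (fun t ht => Subgroup.mem_normalizer_fintype fun x hx => ?_)
        (Subgroup.zpowers_le.2 (Subgroup.le_normalizer (hPe j)))
      obtain ⟨k, s, hs, rfl⟩ := hPdec j x hx
      rw [show t * (e ^ k * s) * t⁻¹ = (t * e * t⁻¹) ^ k * (t * s * t⁻¹) by rw [conj_pow]; group]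
      refine mul_mem (pow_mem ?_ k) (hPT j ((c.normal j).conj_mem s hs t))
      rw [show t * e * t⁻¹ = ⁅e, t⁆⁻¹ * e by simp only [commutatorElement_def]; group]
      refine mul_mem (inv_mem (hPT j ?_)) (hPe j)
      have := c.mem_step (show 1 ≤ j - 1 by omega) ht e
      rwa [Nat.sub_add_cancel (by omega : 1 ≤ j)] at this
  obtain ⟨g₀, hg₀, hg₀', hA, hA'⟩ := hpre (l := n - 3) (by omega) (by omega)
  rw [show n - 3 + 1 = n - 2 by omega] at hg₀' hA
  rw [show n - 3 + 2 = n - 1 by omega] at hA'
  set A := ⁅e, g₀⁆ with hAdef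
  have hP1M : ∀ {j : ℕ}, 2 ≤ j → ∀ z ∈ T (n - 2), ∀ u ∈ P j, z * u = u * z := by
    intro j hj z hz u hu
    obtain ⟨k, t, ht, rfl⟩ := hPdec j u hu
    exact (((show Commute z e from (heC z hz).symm)).pow_right k).mul_right
      (show Commute z t from eq_one_of_sum c (show 2 ≤ n - 2 by omega) hj (by omega) hz ht)
  have hApow : ∀ x ∈ T (n - 3), ∀ k : ℕ, ⁅e ^ k, x⁆ ∈ Subgroup.zpowers A := by
    intro x hx k
    obtain ⟨i, -, w, hw, rfl⟩ := c.gen (j := n - 3) (by omega) hg₀ (by rwa [show n - 3 + 1 = n - 2 by omega]) hx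
    rw [show n - 3 + 1 = n - 2 by omega] at hw
    have hce : ∀ z ∈ T (n - 2), Commute e z := fun z hz => heC z hz
    have hcA : Commute g₀ A := eq_one_of_sum c (show 2 ≤ n - 3 by omega) (show 2 ≤ n - 2 by omega) (by omega) hg₀ hA
    have hcw : Commute (e ^ k) w := (hce w hw).pow_left k
    have key : ∀ i : ℕ, e * g₀ ^ i * e⁻¹ = A ^ i * g₀ ^ i := fun i => by
      rw [← conj_pow, show e * g₀ * e⁻¹ = A * g₀ by simp only [hAdef, commutatorElement_def]; group]
      exact hcA.symm.mul_pow i
    have key2 : ∀ k : ℕ, e ^ k * g₀ ^ i * (e ^ k)⁻¹ = A ^ (i * k) * g₀ ^ i := by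
      intro k
      induction k with
      | zero => simp
      | succ k ih =>
        rw [pow_succ', show e * e ^ k * g₀ ^ i * (e * e ^ k)⁻¹ = e * (e ^ k * g₀ ^ i * (e ^ k)⁻¹) * e⁻¹ by group, ih,
          show e * (A ^ (i * k) * g₀ ^ i) * e⁻¹ = (e * A ^ (i * k) * e⁻¹) * (e * g₀ ^ i * e⁻¹) by group, key,
          ((hce A hA).pow_right (i * k)).eq, mul_inv_cancel_right, ← mul_assoc, ← pow_add, Nat.mul_succ]
    refine ⟨((i * k : ℕ) : ℤ), ?_⟩
    show A ^ ((i * k : ℕ) : ℤ) = _
    rw [zpow_natCast, show ⁅e ^ k, g₀ ^ i * w⁆ = (e ^ k * g₀ ^ i * (e ^ k)⁻¹) * (e ^ k * w * (e ^ k)⁻¹) * (g₀ ^ i * w)⁻¹ by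
      simp only [commutatorElement_def]; group, key2, hcw.eq]
    group
  -- the starting automorphism
  have hg₀E : g₀ ∉ E₀ := fun h => hA' (by
    rw [hAdef, commutatorElement_eq_one_iff_mul_comm.2 (C.comm0 heE h)]; exact one_mem _)
  have hNP : Subgroup.normalizer (E₀ : Set S) = P (n - 3) := by
    rw [← hPE, hnorm (n - 2) (by omega) le_rfl, show n - 2 - 1 = n - 3 by omega]
  obtain ⟨f₀, hf₀, hf₀E, hfA, hffix, hfneg, Z, hZ, hZ1, hZg, hfZ⟩ := C.base (g := g₀) (A := A)
    (by rw [hNP]; exact hPT _ hg₀) hg₀E (hZ2 hA)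
    (eq_one_of_sum c (show 2 ≤ n - 3 by omega) (show 2 ≤ n - 2 by omega) (by omega) hg₀ hA) (fun u hu => by
      replace hu : u ∈ P (n - 2) := hPE.ge hu
      obtain ⟨k, t, ht, rfl⟩ := hPdec _ u hu
      have hgt : ⁅g₀, t⁆ = 1 := commutatorElement_eq_one_iff_mul_comm.2
        (eq_one_of_sum c (show 2 ≤ n - 3 by omega) (show 2 ≤ n - 2 by omega) (by omega) hg₀ ht)
      rw [show ⁅g₀, e ^ k * t⁆ = ⁅g₀, e ^ k⁆ * (e ^ k * ⁅g₀, t⁆ * (e ^ k)⁻¹) by simp only [commutatorElement_def]; group,
        hgt, mul_one, mul_inv_cancel, mul_one, ← commutatorElement_inv]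
      exact inv_mem (hApow g₀ hg₀ k))
    (by
      rw [hNP]
      refine sup_le (fun t ht => ?_) (Subgroup.zpowers_le.2 (Subgroup.mem_sup_left heE))
      obtain ⟨i, -, w, hw, rfl⟩ := c.gen (j := n - 3) (by omega) hg₀ (by rwa [show n - 3 + 1 = n - 2 by omega]) ht
      rw [show n - 3 + 1 = n - 2 by omega] at hw
      exact mul_mem (pow_mem (Subgroup.mem_sup_right (Subgroup.mem_zpowers _)) i) (Subgroup.mem_sup_left (hZ2 hw)))
  -- climb up to `S`
  have hNE : Nat.card (Subgroup.normalizer (E₀ : Set S)) ≤ p ^ 4 := by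
    rw [hNP, hPcard _ (by omega) (by omega), show n - (n - 3) + 1 = 4 by omega]
  have hfull : ∀ j, 2 ≤ j → j ≤ n - 2 → ∀ Q, F.IsConj (amb (P j)) Q →
      Nat.card (normalizerIn S Q) ≤ p * Nat.card (P j) := by
    intro j hj hjn
    refine C.fully (Zc := T (n - 2)) (k := n - j - 2) ?_ hZ2 (by rw [C.cardT (by omega)]; congr 1; omega)
      (hP1M hj) hNE (by rw [hPcard j (by omega) (by omega)]; congr 1; omega)
    show E₀ ≤ P j
    rw [← hPE]
    exact sup_le ((c.anti (by omega)).trans (hPT j)) (Subgroup.zpowers_le.2 (hPe j))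
  have hext : ∀ d j, j + d = n - 3 → 1 ≤ j → ∃ f, AutOn F (P j) f ∧ ∀ u ∈ E₀, f u = f₀ u := by
    intro d
    induction d with
    | zero =>
      intro j hj _
      rw [show j = n - 3 by omega, ← hNP]
      exact ⟨f₀, hf₀, fun u _ => rfl⟩
    | succ d ih =>
      intro j hj hj1
      obtain ⟨f, hf, hfe⟩ := ih (j + 1) (by omega) (by omega)
      obtain ⟨i, hi⟩ : ∃ i, i = j + 1 := ⟨_, rfl⟩
      rw [← hi] at hf
      have hPN : Subgroup.normalizer (P i : Set S) = P j := by
        rw [hnorm i (by omega) (by omega), show i - 1 = j by omega]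
      have hfn : F.IsFullyNormalized (amb (P i)) := Ctx.fully_normalized C (hfull i (by omega) (by omega)) (by
        rw [hPN, hPcard i (by omega) (by omega), hPcard j hj1 (by omega), ← pow_succ']
        exact Nat.pow_le_pow_right hp.out.pos (by omega))
      -- a chain in `P i` invariant under the system
      have hinvAll : ∀ g, AutOn F (P i) g → (∀ l, i ≤ l → l ≤ n - 2 → ∀ u ∈ T l, g u ∈ T l) ∧
          (3 ≤ i → ∀ u ∈ Subgroup.zpowers A, g u ∈ Subgroup.zpowers A) ∧
          (i = 2 → ∀ u ∈ T (n - 1), g u ∈ T (n - 1)) := by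
        intro g hg
        have hTi : ∀ {l}, i ≤ l → T l ≤ P i := fun hl => (c.anti hl).trans (hPT i)
        have hsurj : ∀ y ∈ P i, ∃ u ∈ P i, g u = y := by
          intro y hy
          haveI : Finite (P i) := inferInstance
          obtain ⟨⟨u, hu⟩, he'⟩ := (Finite.injective_iff_surjective (f := fun u : P i => (⟨g u, hg.mem u.2⟩ : P i))).1
            (fun u v huv => Subtype.ext (hg.inj u.2 v.2 (congrArg Subtype.val huv))) ⟨y, hy⟩
          exact ⟨u, hu, congrArg Subtype.val he'⟩
        have hg0P : g₀ ∈ P i := hTi (show i ≤ n - 3 by omega) hg₀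
        have hcen : ∀ u ∈ T (n - 2), g u ∈ T (n - 2) := by
          intro u hu
          have huP : u ∈ P i := hTi (show i ≤ n - 2 by omega) hu
          have hcomm : ∀ y ∈ P i, g u * y = y * g u := fun y hy => by
            obtain ⟨v, hv, rfl⟩ := hsurj y hy
            rw [← hg.mul huP hv, ← hg.mul hv huP, hP1M (by omega : 2 ≤ i) u hu v hv]
          obtain ⟨k, t, ht, hk⟩ := hPdec i _ (hg.mem huP)
          have hk0 : e ^ k = 1 := by
            haveI := c.normal (n - 1)
            by_cases hd : p ∣ k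
            · obtain ⟨d, rfl⟩ := hd; rw [pow_mul, hep, one_pow]
            exfalso
            set π := QuotientGroup.mk' (T (n - 1))
            have h1 : Commute (π (e ^ k * t)) (π g₀) := (show Commute (e ^ k * t) g₀ by rw [← hk]; exact hcomm _ hg0P).map π
            have h2 : Commute (π t) (π g₀) := commute_mk.2 (c.anti (by omega)
              (c.add i (n - 3) (by omega) (by omega) (Subgroup.commutator_mem_commutator ht hg₀)))
            have h3 : Commute (π (e ^ k)) (π g₀) := by
              have := h1.mul_left h2.inv_left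
              rwa [← map_inv, ← map_mul, mul_inv_cancel_right] at this
            have h4 : ⁅e ^ k, g₀⁆ ∈ T (n - 1) := commute_mk.1 h3
            haveI : (T (n - 3 + 2)).Normal := c.normal _
            have h5 := bracket_pow c (j := n - 3) (by omega) hg₀ e (k : ℤ) 1
            rw [mul_one, zpow_one, ← map_zpow, zpow_natCast, zpow_natCast] at h5
            have h6 : ⁅e, g₀⁆ ^ k ∈ T (n - 3 + 2) := by
              have h7 : ⁅e ^ k, g₀⁆ ∈ T (n - 3 + 2) := by rwa [show n - 3 + 2 = n - 1 by omega]
              exact (QuotientGroup.eq_one_iff _).1 (h5.symm.trans ((QuotientGroup.eq_one_iff _).2 h7))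
            exact hd (by
              have := dvd_of_pow_mem c (j := n - 2) (k := (k : ℤ)) hA (by rwa [show n - 2 + 1 = n - 1 by omega])
                (by rw [zpow_natCast, show n - 2 + 1 = n - 3 + 2 by omega]; exact h6)
              exact_mod_cast this)
          rw [hk0, one_mul] at hk
          rw [hk]
          rcases eq_or_ne t 1 with rfl | ht0
          · exact one_mem _
          obtain ⟨l, -, hl, hl'⟩ := c.level ht0
          by_contra hne
          have hli : i ≤ l := by
            by_contra h0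
            exact hl' (c.anti (by omega) ht)
          have hl3 : l + 3 ≤ n := by
            by_contra h0
            exact hne (c.anti (by omega) hl)
          refine hmv (by omega) hl3 hl hl' ?_
          rw [commutatorElement_eq_one_iff_mul_comm.2 (show e * t = t * e by
            rw [← hk]; exact (hcomm e (hPe i)).symm)]
          exact one_mem _
        have hdown : ∀ (l : ℕ) (R : Subgroup S), i ≤ l → T (n - 2) ≤ R →
            (∀ y ∈ T l, ∀ x : S, x ∈ P i → ⁅g x, g y⁆ ∈ R) → ∀ d r, r + d = n - 2 → l < r → ∀ u ∈ T r, g u ∈ R := by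
          intro l R hil hR hbr d
          induction d with
          | zero => intro r hr _ u hu; exact hR (hcen u (by rwa [show n - 2 = r by omega]))
          | succ d ihd =>
            intro r hr hlr u hu
            obtain ⟨v, hv, -, hw, hw'⟩ := hpre (l := r - 1) (by omega) (by omega)
            rw [show r - 1 + 1 = r by omega] at hw
            rw [show r - 1 + 2 = r + 1 by omega] at hw'
            obtain ⟨k, -, z, hz, rfl⟩ := c.gen (j := r) (by omega) hw hw' hu
            have hvP : v ∈ P i := hTi (show i ≤ r - 1 by omega) hv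
            have hwP : ⁅e, v⁆ ∈ P i := hTi (show i ≤ r by omega) hw
            rw [hg.mul (pow_mem hwP k) (hTi (show i ≤ r + 1 by omega) hz), hg.pow hwP, hg.comm (hPe i) hvP]
            exact mul_mem (pow_mem (hbr v (c.anti (by omega) hv) e (hPe i)) k) (ihd (r + 1) (by omega) (by omega) z hz)
        have hder : ∀ x ∈ P i, ∀ y ∈ P i, ⁅x, y⁆ ∈ T (i + 1) := by
          intro x hx y hy
          obtain ⟨k, t, ht, rfl⟩ := hPdec i x hx
          obtain ⟨k', t', ht', rfl⟩ := hPdec i y hy
          haveI := c.normal (i + 1)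
          rw [← commute_mk, map_mul, map_mul, map_pow, map_pow]
          have q1 : ∀ s ∈ T i, Commute (QuotientGroup.mk' (T (i + 1)) e) (QuotientGroup.mk' (T (i + 1)) s) :=
            fun s hs => commute_mk.2 (c.mem_step (by omega) hs e)
          have q2 : Commute (QuotientGroup.mk' (T (i + 1)) t) (QuotientGroup.mk' (T (i + 1)) t') :=
            commute_mk.2 (c.mem_step (by omega) ht' t)
          exact (((Commute.refl _).pow_pow k k').mul_right ((q1 t' ht').pow_left k)).mul_left
            (((q1 t ht).symm.pow_right k').mul_right q2)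
        have hX : ∀ u ∈ T (i + 1), g u ∈ T (i + 1) := by
          intro u hu
          rcases Nat.lt_or_ge (i + 1) (n - 2) with h | h
          · exact hdown i (T (i + 1)) le_rfl (c.anti (by omega))
              (fun y hy x hx => hder _ (hg.mem hx) _ (hg.mem (hPT i hy))) (n - 2 - (i + 1)) (i + 1) (by omega) (by omega) u hu
          · rw [show i + 1 = n - 2 by omega] at hu ⊢
            exact hcen u hu
        have hTi' : ∀ u ∈ T i, g u ∈ T i := by
          intro u hu
          obtain ⟨k, t, ht, hk⟩ := hPdec i _ (hg.mem (hPT i hu))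
          rw [hk]
          by_cases hd : p ∣ k
          · obtain ⟨d, rfl⟩ := hd; rw [pow_mul, hep, one_pow, one_mul]; exact ht
          exfalso
          -- the image of `T i`
          have hmul : ∀ a ∈ T i, ∀ b ∈ T i, g (a * b) = g a * g b := fun a ha b hb => hg.mul (hPT i ha) (hPT i hb)
          let φ : ↥(T i) →* S := MonoidHom.mk' (fun a => g a) fun a b => hmul a a.2 b b.2
          set Y := φ.range with hY
          have hYc : Nat.card Y = Nat.card (T i) := (Nat.card_congr (MonoidHom.ofInjective (f := φ) fun a b hab =>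
            Subtype.ext (hg.inj (hPT i a.2) (hPT i b.2) hab)).toEquiv).symm
          have hXY : T (i + 1) ≤ Y := by
            intro y hy
            obtain ⟨⟨v, hv⟩, he'⟩ := (Finite.injective_iff_surjective
              (f := fun v : T (i + 1) => (⟨g v, hX v v.2⟩ : T (i + 1)))).1
              (fun a b hab => Subtype.ext (hg.inj (hTi (Nat.le_succ i) a.2) (hTi (Nat.le_succ i) b.2)
                (congrArg Subtype.val hab))) ⟨y, hy⟩
            exact ⟨⟨v, c.anti (Nat.le_succ i) hv⟩, congrArg Subtype.val he'⟩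
          obtain ⟨l, hl⟩ := exists_coeff (p := p) hd (p - 1)
          obtain ⟨v, hv, -, hw, hw'⟩ := hpre (l := i - 1) (by omega) (by omega)
          rw [show i - 1 + 1 = i by omega] at hw
          rw [show i - 1 + 2 = i + 1 by omega] at hw'
          obtain ⟨q, -, r, hr, hq⟩ := c.gen (j := i) (by omega) hw hw' (pow_mem ht l)
          set x := v ^ (-(q : ℤ)) with hx
          haveI := c.normal (i + 1)
          set π := QuotientGroup.mk' (T (i + 1))
          have hxe : x * e * x⁻¹ ∈ Y := by
            have h1 : (e ^ k * t) ^ l ∈ Y := pow_mem (show e ^ k * t ∈ Y from ⟨⟨u, hu⟩, hk⟩) l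
            have hcomm : Commute (π e) (π t) := commute_mk.2 (c.mem_step (by omega) ht e)
            have h2 : π ((e ^ k * t) ^ l) = π e * π t ^ l := by
              rw [map_pow, map_mul, map_pow, (hcomm.pow_left k).mul_pow, ← pow_mul]
              congr 1
              obtain ⟨d, hd'⟩ := Nat.dvd_of_mod_eq_zero hl
              refine mul_left_cancel (a := π e ^ (p - 1)) ?_
              rw [← pow_add, hd', pow_mul, ← map_pow, hep, map_one, one_pow, ← pow_succ,
                Nat.sub_add_cancel hp.out.one_lt.le, ← map_pow, hep, map_one]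
            have h3 : π (x * e * x⁻¹) = π e * π t ^ l := by
              haveI : (T (i - 1 + 2)).Normal := c.normal _
              have h4 := bracket_pow c (j := i - 1) (by omega) hv e 1 (-(q : ℤ))
              rw [one_mul, zpow_one, ← map_zpow, ← mk_eq_of] at h4
              rw [show i - 1 + 2 = i + 1 by omega] at h4
              have h5 : π ⁅e, x⁆ = (π ⁅e, v⁆) ^ (-(q : ℤ)) := by rw [← map_zpow]; exact (mk_eq_of T).1 h4
              have h6 : π t ^ l = π ⁅e, v⁆ ^ q := by
                rw [← map_pow, hq, map_mul, map_pow, (QuotientGroup.eq_one_iff r).2 hr |> fun h => (show π r = 1 from h), mul_one]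
              rw [show x * e * x⁻¹ = ⁅e, x⁆⁻¹ * e by simp only [commutatorElement_def]; group, map_mul, map_inv, h5, h6,
                zpow_neg, inv_inv, zpow_natCast]
              exact ((show Commute (π e) (π ⁅e, v⁆) from commute_mk.2 (c.mem_step (by omega) hw e)).pow_right q).eq.symm
            have h7 : (x * e * x⁻¹) * ((e ^ k * t) ^ l)⁻¹ ∈ T (i + 1) := (mk_eq_of T).2 (h3.trans h2.symm)
            have := Y.mul_mem (hXY h7) h1
            rwa [inv_mul_cancel_right] at this
          have hconj : (P (i + 1)).map (MulAut.conj x).toMonoidHom = Y := by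
            refine Subgroup.eq_of_le_of_card_ge ?_ ?_
            · rw [hP, Subgroup.map_sup, MonoidHom.map_zpowers]
              refine sup_le ?_ (Subgroup.zpowers_le.2 hxe)
              rintro _ ⟨a, ha, rfl⟩
              exact hXY ((c.normal (i + 1)).conj_mem a ha x)
            · rw [Subgroup.card_map_of_injective (MulEquiv.injective _), hYc, hPcard (i + 1) (by omega) (by omega),
                C.cardT (by omega), show n - (i + 1) + 1 = n - i by omega]
          have h8 : F.IsConj (amb (P (i + 1))) (amb Y) := by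
            refine ⟨(MulAut.conj (x : Ω)).toMonoidHom.comp (amb (P (i + 1))).subtype,
              conj_of_eq (amb_le _) x.2 (fun v => rfl), ?_⟩
            rw [MonoidHom.range_comp, Subgroup.range_subtype, ← hconj]
            simp only [amb, Subgroup.map_map]
            congr 1
          have h9 : F.IsConj (amb (T i)) (amb Y) := hg.isConj (hPT i) (fun a ha => ⟨⟨a, ha⟩, rfl⟩) hYc.le
          have h10 := hfull (i + 1) (by omega) (by omega) _ (CfsgLib.Fusion.IsConj.trans h8 (CfsgLib.Fusion.IsConj.symm h9))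
          rw [normalizerIn_amb, card_amb, Subgroup.normalizer_eq_top_iff.2 (c.normal i), Subgroup.card_top, c.hG,
            hPcard (i + 1) (by omega) (by omega), ← pow_succ', Nat.pow_le_pow_iff_right hp.out.one_lt] at h10
          omega
        have hall : ∀ l, i ≤ l → l ≤ n - 2 → ∀ u ∈ T l, g u ∈ T l := by
          intro l hl
          induction l, hl using Nat.le_induction with
          | base => intro _; exact hTi'
          | succ l hl ihl =>
            intro hln u hu
            rcases Nat.lt_or_ge (l + 1) (n - 2) with h | h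
            · exact hdown l (T (l + 1)) hl (c.anti (by omega)) (fun y hy x hx =>
                c.mem_step (by omega) (ihl (by omega) y hy) _) (n - 2 - (l + 1)) (l + 1) (by omega) (by omega) u hu
            · rw [show l + 1 = n - 2 by omega] at hu ⊢
              exact hcen u hu
        have hAimg : 3 ≤ i → ∀ u ∈ Subgroup.zpowers A, g u ∈ Subgroup.zpowers A := by
          intro h3 u hu
          obtain ⟨r, rfl⟩ := C.nat_of_zpowers (C.exp0 (hZ2 hA)) hu
          rw [hg.pow (hTi (show i ≤ n - 2 by omega) hA)]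
          refine pow_mem ?_ r
          rw [hAdef, hg.comm (hPe i) hg0P]
          obtain ⟨k, t, ht, hk⟩ := hPdec i _ (hg.mem (hPe i))
          have hx := hall (n - 3) (by omega) (by omega) g₀ hg₀
          rw [hk, show ⁅e ^ k * t, g g₀⁆ = e ^ k * ⁅t, g g₀⁆ * (e ^ k)⁻¹ * ⁅e ^ k, g g₀⁆ by
            simp only [commutatorElement_def]; group,
            commutatorElement_eq_one_iff_mul_comm.2 (eq_one_of_sum c (show 2 ≤ i by omega) (show 2 ≤ n - 3 by omega) (by omega) ht hx),
            mul_one, mul_inv_cancel, one_mul]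
          exact hApow _ hx k
        have hlast : i = 2 → ∀ u ∈ T (n - 1), g u ∈ T (n - 1) := by
          intro h2 u hu
          obtain ⟨t, ht, x, hx, htx⟩ : ∃ t ∈ T 2, ∃ x ∈ T (n - 3), t * x ≠ x * t := by
            by_contra hcon
            push Not at hcon
            apply hT1
            intro a ha b hb
            exact pair_step c C.hT he1 heC (i := 1) le_rfl (by omega)
              (by rw [show n - 2 - 1 = n - 3 by omega]; exact C.kills (by omega) (by omega))
              (fun a ha b hb => by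
                have := c.mem_step (show 1 ≤ n - 2 - 1 by omega) hb a
                rwa [show n - 2 - 1 + 1 = n - 2 by omega] at this)
              (fun a ha b hb => hcon a ha b (by rwa [show n - 2 - 1 = n - 3 by omega] at hb)) a ha b
              (by rwa [show n - 1 - 1 = n - 2 by omega])
          have hz : ⁅t, x⁆ ∈ T (n - 1) :=
            c.anti (by omega) (c.add 2 (n - 3) le_rfl (by omega) (Subgroup.commutator_mem_commutator ht hx))
          have hz' : ⁅t, x⁆ ∉ T (n - 1 + 1) := fun h => htx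
            (commutatorElement_eq_one_iff_mul_comm.1 (c.eq_one (by omega) h))
          obtain ⟨k, -, w, hw, rfl⟩ := c.gen (by omega) hz hz' hu
          rw [c.eq_one (by omega) hw, mul_one, hg.pow (hTi (show i ≤ n - 1 by omega) hz),
            hg.comm (hTi (show i ≤ 2 by omega) ht) (hTi (show i ≤ n - 3 by omega) hx)]
          exact pow_mem (c.anti (by omega) (c.add 2 (n - 3) le_rfl (by omega) (Subgroup.commutator_mem_commutator
            (hall 2 (by omega) (by omega) t ht) (hall (n - 3) (by omega) (by omega) x hx)))) k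
        exact ⟨hall, hAimg, hlast⟩
      -- the chain
      set Ln : Subgroup S := if i = 2 then T (n - 1) else Subgroup.zpowers A with hLn
      set L : ℕ → Subgroup S := fun r => if r = 0 then ⊥ else if r = 1 then Ln else if r ≤ n - i then T (n - r) else P i
        with hL
      have hLn2 : Ln ≤ T (n - 2) := by
        rw [hLn]; split_ifs
        · exact c.anti (by omega)
        · exact Subgroup.zpowers_le.2 hA
      have hAcard : Nat.card (Subgroup.zpowers A) = p := by
        rw [Nat.card_zpowers]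
        exact (hp.out.eq_one_or_self_of_dvd _ (orderOf_dvd_of_pow_eq_one (C.exp0 (hZ2 hA)))).resolve_left
          fun h => hA' (by rw [orderOf_eq_one_iff.1 h]; exact one_mem _)
      have hLnc : Nat.card Ln = p := by
        rw [hLn]; split_ifs
        · rw [C.cardT (by omega), show n - (n - 1) = 1 by omega, pow_one]
        · exact hAcard
      have hL0 : L 0 = ⊥ := by simp [hL]
      have hL1 : L 1 = Ln := by simp [hL]
      have hLT : ∀ r, 2 ≤ r → r ≤ n - i → L r = T (n - r) := fun r h2 h3 => by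
        simp only [hL]; rw [if_neg (by omega), if_neg (by omega), if_pos h3]
      have hLP : ∀ r, n - i < r → L r = P i := fun r h3 => by
        simp only [hL]; rw [if_neg (by omega), if_neg (by omega), if_neg (by omega)]
      obtain ⟨f', hf', hfe'⟩ := extend C.hS C.hF (P i) hfn L (n - i + 1)
        (monotone_nat_of_le_succ fun r => by
          rcases Nat.lt_or_ge r 1 with h0 | h0
          · rw [show r = 0 by omega, hL0]; exact bot_le
          rcases Nat.lt_or_ge r 2 with h1 | h1
          · rw [show r = 1 by omega, hL1, hLT 2 le_rfl (by omega)]; exact hLn2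
          rcases Nat.lt_or_ge r (n - i) with h2 | h2
          · rw [hLT r h1 h2.le, hLT (r + 1) (by omega) h2]; exact c.anti (by omega)
          · rw [hLP (r + 1) (by omega)]
            rcases Nat.lt_or_ge (n - i) r with h3 | h3
            · rw [hLP r h3]
            · rw [hLT r h1 h3]; exact (c.anti (by omega)).trans (hPT i))
        hL0 (hLP _ (by omega))
        (fun r hr => by
          rcases Nat.lt_or_ge r 1 with h0 | h0
          · rw [show r = 0 by omega, hL0, hL1, Subgroup.card_bot, mul_one, hLnc]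
          rcases Nat.lt_or_ge r 2 with h1 | h1
          · rw [show r = 1 by omega, hL1, hLT 2 le_rfl (by omega), hLnc, C.cardT (by omega), ← pow_two]
            congr 1; omega
          rcases Nat.lt_or_ge r (n - i) with h2 | h2
          · rw [hLT r h1 h2.le, hLT (r + 1) (by omega) h2, C.cardT (by omega), C.cardT (by omega), ← pow_succ']
            congr 1; omega
          · rw [show r = n - i by omega, hLP (n - i + 1) (by omega), hLT (n - i) (by omega) le_rfl,
              hPcard i (by omega) (by omega), C.cardT (by omega), ← pow_succ']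
            congr 1; omega)
        (fun g hg r hr u hu => by
          obtain ⟨h1, h2, h3⟩ := hinvAll g hg
          simp only [hL] at hu ⊢
          split_ifs at hu ⊢ with a b d
          · rw [Subgroup.mem_bot] at hu ⊢; rw [hu, hg.one]
          · rw [hLn] at hu ⊢
            split_ifs at hu ⊢ with e'
            · exact h3 e' u hu
            · exact h2 (by omega) u hu
          · exact h1 _ (by omega) (by omega) u hu
          · omega) hf
      rw [hPN] at hf'
      exact ⟨f', hf', fun u hu => (hfe' u (by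
        have : E₀ ≤ P i := by
          rw [← hPE]
          exact sup_le ((c.anti (by omega)).trans (hPT i)) (Subgroup.zpowers_le.2 (hPe i))
        exact this hu)).trans (hfe u hu)⟩
  obtain ⟨f, hf, hfe⟩ := hext (n - 4) 1 (by omega) le_rfl
  have hP1 : P 1 = ⊤ := by
    refine Subgroup.eq_top_of_card_eq _ ?_
    rw [hPcard 1 le_rfl (by omega), c.hG]; congr 1; omega
  have hmul : ∀ u v : S, f (u * v) = f u * f v := fun u v =>
    hf.mul (hP1.ge (Subgroup.mem_top u)) (hP1.ge (Subgroup.mem_top v))
  have hT2 : ∀ j, 2 ≤ j → ∀ u ∈ T j, f u ∈ T j := fun j hj u hu => by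
    rw [C.hT j hj] at hu ⊢; exact lcs_mapsTo hmul _ u hu
  have hsh : ∀ {l : ℕ}, 2 ≤ l → ∀ u ∈ T l, f u ∈ T l := fun hl => hT2 _ hl
  -- `e` has weight `-1`
  have hE2 : ∀ u ∈ E₀, g₀ * u = u * g₀ → u ∈ T (n - 2) := by
    intro u hu hgu
    obtain ⟨k, t, ht, rfl⟩ := hPdec (n - 2) u (hPE.ge hu)
    by_cases hd : p ∣ k
    · obtain ⟨d, rfl⟩ := hd; rwa [pow_mul, hep, one_pow, one_mul]
    exfalso
    haveI : (T (n - 3 + 2)).Normal := c.normal _
    have h5 := bracket_pow c (j := n - 3) (by omega) hg₀ e (k : ℤ) 1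
    rw [mul_one, zpow_one, ← map_zpow, zpow_natCast, zpow_natCast] at h5
    have hct : Commute t g₀ := eq_one_of_sum c (show 2 ≤ n - 2 by omega) (show 2 ≤ n - 3 by omega) (by omega) ht hg₀
    have hck : ⁅e ^ k, g₀⁆ = 1 := commutatorElement_eq_one_iff_mul_comm.2 (by
      have h' := (show Commute g₀ (e ^ k * t) from hgu).mul_right hct.symm.inv_right
      rw [mul_inv_cancel_right] at h'
      exact h'.eq.symm)
    rw [hck, map_one] at h5
    exact hd (by
      have := dvd_of_pow_mem c (j := n - 2) (k := (k : ℤ)) hA (by rwa [show n - 2 + 1 = n - 1 by omega])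
        (by rw [zpow_natCast, show n - 2 + 1 = n - 3 + 2 by omega]; exact (QuotientGroup.eq_one_iff _).1 h5.symm)
      exact_mod_cast this)
  have hfe2 : f e * (e ^ (-1 : ℤ))⁻¹ ∈ T (n - 2) := by
    rw [zpow_neg, zpow_one, inv_inv, hfe e heE]
    exact hE2 _ (mul_mem (hf₀E e heE) heE) (hfneg e heE)
  have hfA' : f A = A⁻¹ := by rw [hfe A (hZ2 hA), hfA]
  have hwA : Weight T f (n - 2) (-1) := weight_of_gen c hmul (by omega) (by omega) (hsh (by omega)) hA
    (by rwa [show n - 2 + 1 = n - 1 by omega]) (by rw [hfA', zpow_neg, zpow_one, inv_inv, inv_mul_cancel]; exact one_mem _)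
  have hse : ∀ {j : ℕ}, 1 ≤ j → ∀ x ∈ T j, ⁅f e * (e ^ (-1 : ℤ))⁻¹, x⁆ ∈ T (j + 2) := by
    intro j hj x hx
    rcases Nat.lt_or_ge j 2 with h | h
    · exact c.anti (by omega) (comm_mem_symm.1 (c.mem_step (show 1 ≤ n - 2 by omega) hfe2 x))
    · exact c.anti (by omega) (c.add (n - 2) j (by omega) h (Subgroup.commutator_mem_commutator hfe2 hx))
  have hwts : ∀ d, d + 2 ≤ n - 2 → Weight T f (n - 2 - d) ((-1) ^ (d + 1)) := by
    intro d
    induction d with
    | zero => intro _; simpa using hwA
    | succ d ihd =>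
      intro hd
      set j := n - 2 - (d + 1) with hj
      obtain ⟨m, hm⟩ := weight_exists c hmul (j := j) (by omega) (by omega) (hsh (by omega)) (hsh (by omega))
      obtain ⟨v, hv, -, hw, hw'⟩ := hpre (l := j) (by omega) (by omega)
      have h1 := weight_step c hmul (j := j) (by omega) (by omega) hv (hm v hv) (σ := -1) (hse (by omega))
        (hsh (by omega)) hw'
      have h2 := ihd (by omega)
      rw [show n - 2 - d = j + 1 by omega] at h2
      have h3 := weight_unique c (by omega) h2 h1
      obtain ⟨q, hq⟩ := h3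
      intro u hu
      have h4 := hm u hu
      haveI := c.normal (j + 1)
      rw [mk_eq_of] at h4 ⊢
      rw [h4, map_zpow, map_zpow, show m = (-1) ^ (d + 1 + 1) + (p : ℤ) * q by rw [pow_succ]; linarith, zpow_add, zpow_mul,
        zpow_natCast, show QuotientGroup.mk' (T (j + 1)) u ^ p = 1 from by
          rw [← map_pow]; exact (QuotientGroup.eq_one_iff _).2 (c.pow_mem_succ j hu), one_zpow, mul_one]
  -- an element of `T 1`
  obtain ⟨u, hu, hu', hw, hw'⟩ := hpre (l := 1) le_rfl (by omega)
  obtain ⟨b, t, ht, hbt⟩ := hgenT (f u)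
  obtain ⟨a, -, r, hr, hat⟩ := c.gen (j := 1) (by omega) hu hu' ht
  have hw2 : Weight T f 2 (-(a : ℤ)) := by
    refine weight_of_gen c hmul (by omega) (by omega) (hsh (by omega)) hw hw' ?_
    haveI := c.normal (1 + 2)
    rw [mk_eq_of]
    set π := QuotientGroup.mk' (T (1 + 2))
    have e1 : f ⁅e, u⁆ = ⁅f e, f u⁆ := map_commutatorElement (MonoidHom.mk' f hmul) e u
    have h1 : π (f e) = (π e)⁻¹ := by
      have := (QuotientGroup.eq_one_iff (N := T (1 + 2)) _).2 (c.anti (show 1 + 2 ≤ n - 2 by omega) hfe2)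
      rw [zpow_neg, zpow_one, inv_inv] at this
      exact eq_inv_of_mul_eq_one_left (((map_mul π _ _).symm).trans this)
    have h2 : π (f u) = π e ^ b * (π u ^ a * π r) := by rw [hbt, hat, map_mul, map_mul, map_pow, map_pow]
    have hr' : Commute (π e⁻¹) (π r) := commute_mk.2 (c.mem_step (by omega) hr _)
    have h3 := bracket_pow c (j := 1) le_rfl hu e (-1) (a : ℤ)
    rw [zpow_neg, zpow_one, zpow_natCast, neg_one_mul] at h3
    rw [e1, map_commutatorElement, h1, h2, map_zpow, ← h3, map_commutatorElement, map_inv, map_pow]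
    have hcen : Commute (π e ^ b) ⁅(π e)⁻¹, π u ^ a⁆ := by
      rw [← map_pow, ← map_pow, ← map_inv, ← map_commutatorElement]
      exact (layer_central c (c.mem_step le_rfl ((T 1).pow_mem hu a) _) _).symm
    rw [map_inv] at hr'
    calc ⁅(π e)⁻¹, π e ^ b * (π u ^ a * π r)⁆
        = (π e)⁻¹ * π e ^ b * π u ^ a * (π r * π e) * (π r)⁻¹ * (π u ^ a)⁻¹ * (π e ^ b)⁻¹ := by
          simp only [commutatorElement_def]; group
      _ = (π e)⁻¹ * π e ^ b * π u ^ a * π e * (π u ^ a)⁻¹ * (π e ^ b)⁻¹ := by
          rw [show π r * π e = π e * π r from (hr'.inv_left.eq.symm.trans (by rw [inv_inv])).trans rfl |> fun _ => by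
            have := hr'.inv_left; rw [inv_inv] at this; exact this.eq.symm]
          group
      _ = π e ^ b * ⁅(π e)⁻¹, π u ^ a⁆ * (π e ^ b)⁻¹ := by
          rw [((Commute.refl (π e)).pow_right b).inv_left.eq]; simp only [commutatorElement_def]; group
      _ = _ := by rw [hcen.eq, mul_inv_cancel_right]
  have h4 := hwts (n - 4) (by omega)
  rw [show n - 2 - (n - 4) = 2 by omega, Odd.neg_one_pow (by obtain ⟨m, hm⟩ := heven; exact ⟨m - 2, by omega⟩)] at h4
  have hpa : (p : ℤ) ∣ (a : ℤ) - 1 := by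
    have := weight_unique c (by omega) h4 hw2
    rwa [show (-1 : ℤ) - -(a : ℤ) = (a : ℤ) - 1 by ring] at this
  -- the centre
  obtain ⟨v₀, hv₀, hv₀'⟩ : ∃ v ∈ T (n - 2), u * v ≠ v * u ∧ f v = v⁻¹ := by
    refine ⟨A, hA, fun h => hT1 fun x hx y hy => ?_, hfA'⟩
    obtain ⟨i, -, w, hw, rfl⟩ := c.gen (j := 1) (by omega) hu hu' hx
    obtain ⟨l, -, w', hw'', rfl⟩ := c.gen (j := n - 2) (by omega) hA (by rwa [show n - 2 + 1 = n - 1 by omega]) hy
    rw [show n - 2 + 1 = n - 1 by omega] at hw''
    have q1 : Commute (u ^ i * w) A := ((show Commute u A from h).pow_left i).mul_left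
      (eq_one_of_sum c (show 2 ≤ 1 + 1 by omega) (show 2 ≤ n - 2 by omega) (by omega) hw hA)
    exact (q1.pow_right l).mul_right (center_comm c hw'' _)
  set z := ⁅u, v₀⁆ with hz
  have hz1 : z ∈ T (n - 1) := by
    have := c.mem_step (show 1 ≤ n - 2 by omega) hv₀ u
    rwa [show n - 2 + 1 = n - 1 by omega] at this
  have hz' : z ∉ T (n - 1 + 1) := fun h => hv₀'.1 (commutatorElement_eq_one_iff_mul_comm.1 (c.eq_one (by omega) h))
  have hfz : f z = z⁻¹ := by
    haveI : (T (n - 2 + 2)).Normal := c.normal _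
    rw [hz, show f ⁅u, v₀⁆ = ⁅f u, f v₀⁆ from map_commutatorElement (MonoidHom.mk' f hmul) u v₀, hv₀'.2, hbt, hat]
    set π := QuotientGroup.mk' (T (n - 2 + 2))
    have h3 := bracket_pow c (j := n - 2) (by omega) hv₀ u (a : ℤ) (-1)
    rw [zpow_natCast, zpow_neg, zpow_one, mul_neg_one, ← map_zpow, ← mk_eq_of] at h3
    rw [show n - 2 + 2 = n by omega, c.bot n le_rfl, Subgroup.mem_bot, mul_inv_eq_one] at h3
    have hzp : z ^ p = 1 := c.eq_one (by omega) (c.pow_mem_succ (n - 1) hz1)
    have h6 : ⁅u ^ a, v₀⁻¹⁆ = z⁻¹ := by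
      rw [h3]
      obtain ⟨q, hq⟩ := hpa
      rw [show -(a : ℤ) = -1 + (p : ℤ) * (-q) by linarith, zpow_add, zpow_mul, zpow_natCast, hzp, one_zpow, mul_one,
        zpow_neg, zpow_one]
    have hcv : ∀ y : S, y = e ^ b ∨ y = r → Commute y v₀⁻¹ := by
      rintro y (rfl | rfl)
      · exact ((show Commute e v₀ from heC v₀ hv₀).inv_right).pow_left b
      · exact (eq_one_of_sum c (show 2 ≤ 1 + 1 by omega) (show 2 ≤ n - 2 by omega) (by omega) hr ((T _).inv_mem hv₀))
    rw [show ⁅e ^ b * (u ^ a * r), v₀⁻¹⁆ = e ^ b * (u ^ a * (r * v₀⁻¹) * r⁻¹ * (u ^ a)⁻¹) * (e ^ b)⁻¹ * v₀ by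
      simp only [commutatorElement_def]; group, (hcv r (Or.inr rfl)).eq, show e ^ b * (u ^ a * (v₀⁻¹ * r) * r⁻¹ * (u ^ a)⁻¹) * (e ^ b)⁻¹ * v₀ = e ^ b * ⁅u ^ a, v₀⁻¹⁆ * ((v₀⁻¹ * (e ^ b)⁻¹) * v₀) by
      simp only [commutatorElement_def]; group, h6, ((hcv _ (Or.inl rfl)).inv_left).eq.symm]
    rw [center_comm c ((T _).inv_mem hz1) (e ^ b)]
    simp only [hz, commutatorElement_def]
    group
  have hneg : ∀ y ∈ T (n - 2), f y = y⁻¹ := by
    intro y hy
    obtain ⟨i, -, w, hw, rfl⟩ := c.gen (j := n - 2) (by omega) hA (by rwa [show n - 2 + 1 = n - 1 by omega]) hy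
    rw [show n - 2 + 1 = n - 1 by omega] at hw
    obtain ⟨l, -, w', hw', rfl⟩ := c.gen (by omega) hz1 hz' hw
    rw [c.eq_one (by omega) hw', mul_one] at *
    have hi : ∀ (y : S) (m : ℕ), f (y ^ m) = f y ^ m := fun y m => by
      simpa using map_pow' hmul y (m : ℤ)
    rw [hmul, hi, hi, hfA', hfz, inv_pow, inv_pow, mul_inv_rev]
    exact ((center_comm c ((T _).inv_mem (pow_mem hz1 l)) _))
  have hZT := hneg Z (hE2 Z hZ hZg)
  rw [hfe Z hZ, hfZ] at hZT
  have hZ2' : Z ^ 2 = 1 := by rw [pow_two]; nth_rewrite 2 [hZT]; exact mul_inv_cancel Z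
  obtain ⟨q, hq⟩ : Odd p := hp.out.odd_of_ne_two (by have := C.hp5; omega)
  exact hZ1 (by
    have h := C.exp0 hZ
    rw [hq, pow_add, pow_mul, hZ2', one_pow, one_mul, pow_one] at h
    exact h)

end Ctx

end CfsgLib.PearlFour
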