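import Cfsg.Agent.PearlFour.Rigid
import Cfsg.Agent.PearlFour.CaseB
import Mathlib

/-!
The case `E ≤ T 1`.
-/

set_option autoImplicit false
set_option linter.style.haveILetI false

open Cfsg
open scoped commutatorElement

namespace CfsgLib.PearlFour

open Cfsg.FusionSystem CfsgLib.Fusion CfsgLib.MaxPearl

universe u

variable {Ω : Type u} [Group Ω] {S : Subgroup Ω} [Finite S] {F : Cfsg.FusionSystem S}
variable {p n : ℕ} [hp : Fact p.Prime] {T : ℕ → Subgroup S} {E : Subgroup Ω}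

namespace Ctx

variable (C : Ctx F p n T E)
include C

theorem two_dim {K : Subgroup S} (hK : K ≤ E.subgroupOf S) (hKc : Nat.card K ≤ p ^ 2) {A c₀ : S} (hA : A ∈ K)
    (hc₀ : c₀ ∈ K) (hA1 : A ≠ 1) (hc₀A : c₀ ∉ Subgroup.zpowers A) :
    ∀ u ∈ K, ∃ i m : ℕ, u = A ^ i * c₀ ^ m := by
  have hcA : Nat.card (Subgroup.zpowers A) = p := by
    rw [Nat.card_zpowers]
    exact (hp.out.eq_one_or_self_of_dvd _ (orderOf_dvd_of_pow_eq_one (C.exp0 (hK hA)))).resolve_left
      fun h => hA1 (orderOf_eq_one_iff.1 h)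
  have hcomm : Commute A c₀ := C.comm0 (hK hA) (hK hc₀)
  have hle : Subgroup.zpowers A ⊔ Subgroup.zpowers c₀ ≤ K := sup_le (Subgroup.zpowers_le.2 hA) (Subgroup.zpowers_le.2 hc₀)
  have heq : Subgroup.zpowers A ⊔ Subgroup.zpowers c₀ = K := by
    refine Subgroup.eq_of_le_of_card_ge hle ?_
    obtain ⟨b, hb⟩ := IsPGroup.iff_card.1 (C.hS.to_subgroup (Subgroup.zpowers A ⊔ Subgroup.zpowers c₀))
    have hlt : Nat.card (Subgroup.zpowers A) < Nat.card ↥(Subgroup.zpowers A ⊔ Subgroup.zpowers c₀) :=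
      lt_of_le_of_ne (Subgroup.card_le_of_le le_sup_left) fun e => hc₀A
        ((Subgroup.eq_of_le_of_card_ge le_sup_left e.ge).ge (Subgroup.mem_sup_right (Subgroup.mem_zpowers _)))
    rw [hcA, hb] at hlt
    refine hKc.trans (hb ▸ Nat.pow_le_pow_right hp.out.pos ?_)
    by_contra hb2
    have := Nat.pow_le_pow_right hp.out.pos (show b ≤ 1 by omega)
    rw [pow_one] at this
    omega
  intro u hu
  rw [← heq] at hu
  have hn : Subgroup.zpowers c₀ ≤ Subgroup.normalizer (Subgroup.zpowers A : Set S) :=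
    Subgroup.zpowers_le.2 (Subgroup.mem_normalizer_fintype fun y hy => by
      obtain ⟨i, rfl⟩ := hy
      exact ⟨i, by show A ^ i = _; rw [((hcomm.symm).zpow_right i).eq, mul_inv_cancel_right]⟩)
  open Pointwise in
  rw [← SetLike.mem_coe, Subgroup.coe_mul_of_right_le_normalizer_left _ _ hn] at hu
  obtain ⟨x, hx, y, hy, rfl⟩ := Set.mem_mul.1 hu
  obtain ⟨i, rfl⟩ := C.nat_of_zpowers (C.exp0 (hK hA)) hx
  obtain ⟨m, rfl⟩ := C.nat_of_zpowers (C.exp0 (hK hc₀)) hy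
  exact ⟨i, m, rfl⟩

theorem zpowers_last {A : S} (hA : A ∈ T (n - 1)) (hA1 : A ∉ T (n - 1 + 1)) : T (n - 1) ≤ Subgroup.zpowers A := by
  intro u hu
  obtain ⟨k, -, w, hw, rfl⟩ := C.c.gen (by have := C.c.h4; omega) hA hA1 hu
  rw [C.c.eq_one (by omega) hw, mul_one]
  exact pow_mem (Subgroup.mem_zpowers A) k

/-- `E ≤ T 1` centralising `T (n-2)`. -/
theorem caseA (hM : ∀ e ∈ E.subgroupOf S, ∀ b ∈ T (n - 2), e * b = b * e) (h1 : E.subgroupOf S ≤ T 1) : False := by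
  classical
  have h5 := C.h5
  have c := C.c
  haveI : ∀ j, (T j).Normal := c.normal
  set E₀ := E.subgroupOf S with hE₀
  have hZ2 := C.two_le hM
  obtain ⟨v, hv, hvZ⟩ : ∃ v ∈ E₀, v ∉ T (n - 2) := SetLike.not_le_iff_exists.1 fun h => by
    have := Subgroup.card_le_of_le h
    rw [C.card0, C.cardT (by omega), Nat.pow_le_pow_iff_right hp.out.one_lt] at this
    omega
  have hEgen : T (n - 2) ⊔ Subgroup.zpowers v = E₀ := C.sup_eq hZ2 hv hvZ (by
    rw [C.card0, C.cardT (by omega), ← pow_succ']; exact le_of_eq (by congr 1; omega))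
  obtain ⟨A, hA, hA1⟩ := c.exists_level (j := n - 1) (by omega)
  obtain ⟨c₀, hc₀, hc₀1⟩ := c.exists_level (j := n - 2) (by omega)
  rw [show n - 2 + 1 = n - 1 by omega] at hc₀1
  have hAne : A ≠ 1 := fun h => hA1 (h ▸ one_mem _)
  have hZA := C.zpowers_last hA hA1
  have hc₀A : c₀ ∉ Subgroup.zpowers A := fun h => hc₀1 ((Subgroup.zpowers_le.2 hA) h)
  have hcz : ∀ u ∈ T (n - 2), ∃ i m : ℕ, u = A ^ i * c₀ ^ m :=
    C.two_dim hZ2 (le_of_eq (by rw [C.cardT (by omega)]; congr 1; omega)) (c.anti (by omega) hA) hc₀ hAne hc₀A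
  -- `g₀ ∈ T r` outside `E`
  have main : ∀ r, 2 ≤ r ∨ (r = 1 ∧ n = 5) → r + 2 ≤ n → ∀ g₀ ∈ T r, g₀ ∉ E₀ → (∀ u ∈ E₀, ⁅g₀, u⁆ ∈ T (n - 1)) →
      (∀ b ∈ T (n - 2), g₀ * b = b * g₀) → ∀ g : S, (∀ u ∈ E₀, ⁅g, u⁆ ∈ T (n - 2)) →
      g ∈ E₀ ⊔ Subgroup.zpowers g₀ := by
    intro r _ _ g₀ hg₀ hg₀E hd hcz' g hg
    refine C.rigid (A := A) (c₀ := c₀) (C.norm_of_comm fun u hu => C.last_le (hd u hu)) hg₀E (C.last_le hA)
      (center_comm c hA g₀) (fun u hu => hZA (hd u hu)) (fun u hu hgu => ?_) (hZ2 hc₀) (hcz' _ hc₀) (center_comm c hA g)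
      (hZA ?_) (fun u hu => hcz _ (hg u hu))
    · -- the fixed elements lie in `T (n-2)`
      by_contra hne
      have huZ : u ∉ T (n - 2) := fun h => hne (hcz u h)
      have hEu : T (n - 2) ⊔ Subgroup.zpowers u = E₀ := C.sup_eq hZ2 hu huZ (by
        rw [C.card0, C.cardT (by omega), ← pow_succ']; exact le_of_eq (by congr 1; omega))
      refine hg₀E (C.self_cent fun w hw => ?_)
      have hle : E₀ ≤ Subgroup.centralizer ({g₀} : Set S) := by
        rw [← hEu]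
        exact sup_le (fun b hb => Subgroup.mem_centralizer_singleton_iff.2 (hcz' b hb).symm)
          (Subgroup.zpowers_le.2 (Subgroup.mem_centralizer_singleton_iff.2 hgu.symm))
      exact (Subgroup.mem_centralizer_singleton_iff.1 (hle hw)).symm
    · have := c.mem_step (show 1 ≤ n - 2 by omega) hc₀ g
      rwa [show n - 2 + 1 = n - 1 by omega] at this
  have hupper : ∀ g₀ : S, Nat.card ↥(E₀ ⊔ Subgroup.zpowers g₀) ≤ p ^ 4 → ∀ j, j + 5 ≤ n →
      ¬ T j ≤ E₀ ⊔ Subgroup.zpowers g₀ := fun g₀ h j hj hle => by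
    have h' := (Subgroup.card_le_of_le hle).trans h
    rw [C.cardT (by omega), Nat.pow_le_pow_iff_right hp.out.one_lt] at h'
    omega
  by_cases hn6 : 6 ≤ n
  · have hk1 : ∀ j, 2 ≤ j → j + 3 ≤ n → ∀ a ∈ T 1, ∀ b ∈ T j, ⁅a, b⁆ ∈ T (j + 2) :=
      fun j hj hjn => C.kills (by omega) hjn
    have hE34 : ∀ u ∈ E₀, ∀ g ∈ T (n - 4), ⁅g, u⁆ ∈ T (n - 2) := fun u hu g hg => by
      have := hk1 (n - 4) (by omega) (by omega) u (h1 hu) g hg
      rw [show n - 4 + 2 = n - 2 by omega] at this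
      exact comm_mem_symm.1 this
    by_cases h3 : T (n - 3) ≤ E₀
    · have hEq : T (n - 3) = E₀ := Subgroup.eq_of_le_of_card_ge h3 (by
        rw [C.card0, C.cardT (by omega)]; exact le_of_eq (by congr 1; omega))
      obtain ⟨g₀, hg₀, hg₀'⟩ := c.exists_level (j := n - 4) (by omega)
      rw [show n - 4 + 1 = n - 3 by omega, hEq] at hg₀'
      have hd : ∀ u ∈ E₀, ⁅g₀, u⁆ ∈ T (n - 1) := fun u hu =>
        c.anti (by omega) (c.add (n - 4) (n - 3) (by omega) (by omega)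
          (Subgroup.commutator_mem_commutator hg₀ (hEq.ge hu)))
      have hcard : Nat.card ↥(E₀ ⊔ Subgroup.zpowers g₀) ≤ p ^ 4 := by
        rw [← hEq]
        refine (Subgroup.card_le_of_le (sup_le (c.anti (by omega)) (Subgroup.zpowers_le.2 hg₀))).trans ?_
        rw [C.cardT (by omega)]; exact Nat.pow_le_pow_right hp.out.pos (by omega)
      refine hupper g₀ hcard 1 (by omega) fun g hg => main (n - 4) (Or.inl (by omega)) (by omega) g₀ hg₀ hg₀' hd
        (fun b hb => eq_one_of_sum c (show 2 ≤ n - 4 by omega) (show 2 ≤ n - 2 by omega) (by omega) hg₀ hb)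
        g fun u hu => c.anti (by omega) (hk1 (n - 3) (by omega) (by omega) g hg u (hEq.ge hu))
    · obtain ⟨g₀, hg₀, hg₀E⟩ := SetLike.not_le_iff_exists.1 h3
      have hd : ∀ u ∈ E₀, ⁅g₀, u⁆ ∈ T (n - 1) := fun u hu => by
        have := hk1 (n - 3) (by omega) (by omega) u (h1 hu) g₀ hg₀
        rw [show n - 3 + 2 = n - 1 by omega] at this
        exact comm_mem_symm.1 this
      have hmain := main (n - 3) (Or.inl (by omega)) (by omega) g₀ hg₀ hg₀E hd
        (fun b hb => eq_one_of_sum c (show 2 ≤ n - 3 by omega) (show 2 ≤ n - 2 by omega) (by omega) hg₀ hb)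
      have hg₀Z : g₀ ∉ T (n - 2) := fun h => hg₀E (hZ2 h)
      have hT3 : T (n - 2) ⊔ Subgroup.zpowers g₀ = T (n - 3) := C.sup_eq (c.anti (by omega)) hg₀ hg₀Z (by
        rw [C.cardT (by omega), C.cardT (by omega), ← pow_succ']; exact le_of_eq (by congr 1; omega))
      have hsup : E₀ ⊔ Subgroup.zpowers g₀ = T (n - 3) ⊔ Subgroup.zpowers v := by
        rw [← hT3, ← hEgen, sup_assoc, sup_assoc, sup_comm (Subgroup.zpowers v)]
      have hcard : Nat.card ↥(E₀ ⊔ Subgroup.zpowers g₀) ≤ p ^ 4 := by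
        rw [hsup]
        have h := CfsgLib.MaxPearlC.card_map_mk (N := T (n - 3)) (H := T (n - 3) ⊔ Subgroup.zpowers v) le_sup_left
        rw [C.cardT (by omega)] at h
        rw [← h, show p ^ 4 = p ^ (n - (n - 3)) * p by rw [← pow_succ]; congr 1; omega]
        refine Nat.mul_le_mul_left _ ?_
        rw [Subgroup.map_sup, QuotientGroup.map_mk'_self, bot_sup_eq, MonoidHom.map_zpowers, Nat.card_zpowers]
        exact Nat.le_of_dvd hp.out.pos (orderOf_dvd_of_pow_eq_one (by rw [← map_pow, C.exp0 hv, map_one]))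
      have h4 : T (n - 4) ≤ E₀ ⊔ Subgroup.zpowers g₀ := fun g hg => hmain g fun u hu => hE34 u hu g hg
      have h4' : E₀ ⊔ Subgroup.zpowers g₀ = T (n - 4) :=
        (Subgroup.eq_of_le_of_card_ge h4 (hcard.trans (by
          rw [C.cardT (by omega)]; exact Nat.pow_le_pow_right hp.out.pos (by omega)))).symm
      refine hupper g₀ hcard 1 (by omega) fun g hg => hmain g fun u hu => ?_
      have := hk1 (n - 4) (by omega) (by omega) g hg u (h4'.le (Subgroup.mem_sup_left hu))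
      rwa [show n - 4 + 2 = n - 2 by omega] at this
  obtain rfl : n = 5 := by omega
  have hM1 : ∀ a ∈ T 1, ∀ b ∈ T (5 - 2), a * b = b * a :=
    odd_center c C.hT ⟨2, rfl⟩ fun j hj hjn => C.kills (by omega) hjn
  have hk12 : ∀ a ∈ T 1, ∀ b ∈ T 2, ⁅a, b⁆ ∈ T (5 - 1) := fun a ha b hb => kills_two c a ha b hb
  by_cases h2 : T 2 ≤ E₀
  · have hEq : T 2 = E₀ := Subgroup.eq_of_le_of_card_ge h2 (by rw [C.card0, C.cardT (by omega)])
    obtain ⟨g₀, hg₀, hg₀'⟩ := c.exists_level (j := 1) (by omega)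
    obtain ⟨s, -, hs⟩ := c.exists_level (j := 0) (by omega)
    have hle : E₀ ⊔ Subgroup.zpowers g₀ ≤ T 1 := by
      rw [← hEq]; exact sup_le (c.anti (by omega)) (Subgroup.zpowers_le.2 hg₀)
    exact hs (hle (main 1 (Or.inr ⟨rfl, rfl⟩) (by omega) g₀ hg₀ (by rwa [← hEq])
      (fun u hu => hk12 g₀ hg₀ u (hEq.ge hu)) (hM1 g₀ hg₀) s fun u hu => c.mem_step (by omega) (hEq.ge hu) s))
  obtain ⟨x, hx, hxE⟩ := SetLike.not_le_iff_exists.1 h2
  obtain ⟨v₁, hv₁, hv₁'⟩ : ∃ v ∈ E₀, v ∉ T 2 := SetLike.not_le_iff_exists.1 fun h => h2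
    (Subgroup.eq_of_le_of_card_ge h (by rw [C.card0, C.cardT (by omega)])).ge
  have hx' : x ∉ T (2 + 1) := fun h => hxE (hZ2 h)
  have hT12 : T 2 ⊔ Subgroup.zpowers v₁ = T 1 := C.sup_eq (c.anti (by omega)) (h1 hv₁) hv₁' (by
    rw [C.cardT (by omega), C.cardT (by omega), ← pow_succ'])
  have hE₁ : T (5 - 2) ⊔ Subgroup.zpowers v₁ = E₀ := C.sup_eq hZ2 hv₁ (fun h => hv₁' (c.anti (by omega) h)) (by
    rw [C.card0, C.cardT (by omega), ← pow_succ'])
  have hT23 : T (5 - 2) ⊔ Subgroup.zpowers x = T 2 := C.sup_eq (c.anti (by omega)) hx hx' (by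
    rw [C.cardT (by omega), C.cardT (by omega), ← pow_succ'])
  have hN : Subgroup.normalizer (E₀ : Set S) = T 1 := by
    refine le_antisymm (fun g hg => ?_) fun g hg => C.norm_of_comm fun u hu => C.last_le (c.comm_one hg (h1 hu))
    by_contra hg1
    have hm := moves c C.hT (j := 1) le_rfl (by omega) (kills_one c) hg1 (h1 hv₁) hv₁'
    have hmem : ⁅g, v₁⁆ ∈ E₀ := by
      have := E₀.mul_mem ((Subgroup.mem_normalizer_iff.1 hg v₁).1 hv₁) (inv_mem hv₁)
      rwa [show g * v₁ * g⁻¹ * v₁⁻¹ = ⁅g, v₁⁆ from (commutatorElement_def g v₁).symm] at this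
    refine h2 ?_
    rw [← C.sup_eq (c.anti (Nat.le_succ 2)) (c.mem_step le_rfl (h1 hv₁) g) hm (by
      rw [C.cardT (by omega), C.cardT (by omega), ← pow_succ'])]
    exact sup_le hZ2 (Subgroup.zpowers_le.2 hmem)
  have hsup : E₀ ⊔ Subgroup.zpowers x = T 1 := by
    rw [← hT12, ← hE₁, ← hT23, sup_assoc, sup_assoc, sup_comm (Subgroup.zpowers v₁)]
  -- the line
  have hA' : ⁅v₁, x⁆ ∉ T (5 - 1 + 1) := fun h => hxE (C.self_cent fun w hw => by
    have hle : E₀ ≤ Subgroup.centralizer ({x} : Set S) := by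
      rw [← hE₁]
      exact sup_le (fun b hb => Subgroup.mem_centralizer_singleton_iff.2 (hM1 x (c.anti (by omega) hx) b hb).symm)
        (Subgroup.zpowers_le.2 (Subgroup.mem_centralizer_singleton_iff.2
          (commutatorElement_eq_one_iff_mul_comm.1 (c.eq_one (by omega) h))))
    exact (Subgroup.mem_centralizer_singleton_iff.1 (hle hw)).symm)
  have hA₂ : ⁅v₁, x⁆ ∈ T (5 - 1) := c.comm_one (h1 hv₁) (c.anti (by omega) hx)
  set A' := ⁅v₁, x⁆ with hA'def
  have hZA' := C.zpowers_last hA₂ hA'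
  obtain ⟨f₀, hf₀, hf₀E, hfA, hffix, hfneg, Z, hZ, hZ1, hZx, hfZ⟩ := C.base (g := x) (A := A')
    (hN.ge (c.anti (by omega) hx)) hxE (C.last_le hA₂) (center_comm c hA₂ x)
    (fun u hu => hZA' (c.comm_one (c.anti (by omega) hx) (h1 hu))) (by rw [hN, hsup])
  rw [hN] at hf₀
  have hNE : Nat.card (Subgroup.normalizer (E₀ : Set S)) ≤ p ^ 4 := by rw [hN, C.cardT (by omega)]
  -- extend to `S`
  have hinv : ∀ g, AutOn F (T 1) g → (∀ u ∈ T 4, g u ∈ T 4) ∧ (∀ u ∈ T 3, g u ∈ T 3) ∧ (∀ u ∈ T 2, g u ∈ T 2) := by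
    intro g hg
    have hvT := h1 hv₁
    have hxT : x ∈ T 1 := c.anti (by omega) hx
    have h4' : ∀ u ∈ T 4, g u ∈ T 4 := fun u hu => by
      obtain ⟨k, -, w, hw, rfl⟩ := c.gen (j := 4) (by omega) hA₂ hA' hu
      rw [c.eq_one (by omega) hw, mul_one, hg.pow (c.anti (by omega) hA₂), hA'def, hg.comm hvT hxT]
      exact pow_mem (c.comm_one (hg.mem hvT) (hg.mem hxT)) k
    have hcen : ∀ y ∈ T 1, (∀ z ∈ T 1, y * z = z * y) → y ∈ T 3 := by
      intro y hy hyc
      have hyE : y ∈ E₀ := C.self_cent fun w hw => hyc w (h1 hw)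
      obtain ⟨t, ht, q, hq, rfl⟩ := Subgroup.mem_sup_of_normal_left.1 (hE₁.ge hyE)
      obtain ⟨r, rfl⟩ := C.nat_of_zpowers (C.exp0 hv₁) hq
      by_cases hd : p ∣ r
      · obtain ⟨d, rfl⟩ := hd; rw [pow_mul, C.exp0 hv₁, one_pow, mul_one]; exact ht
      exfalso
      haveI : (T (2 + 2)).Normal := c.normal _
      have hc1 : Commute (t * v₁ ^ r) x := hyc x hxT
      have hc2 : Commute (v₁ ^ r) x := by
        have := ((show Commute t x from (hM1 x hxT t ht).symm).inv_left).mul_left hc1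
        rwa [inv_mul_cancel_left] at this
      have h5 := bracket_pow c (j := 2) (by omega) hx v₁ (r : ℤ) 1
      rw [mul_one, zpow_one, ← map_zpow, zpow_natCast, zpow_natCast, commutatorElement_eq_one_iff_mul_comm.2 hc2.eq,
        map_one] at h5
      have h6 := dvd_of_pow_mem c (j := 4) (k := (r : ℤ)) hA₂ hA' (by
        rw [zpow_natCast]
        have h7 : A' ^ r ∈ T (2 + 2) := pow_mem hA₂ r
        have h8 : A' ^ r = 1 := by
          have e' : ⁅v₁ ^ r, x⁆ = A' ^ r := by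
            have key : ∀ m : ℕ, v₁ ^ m * x * (v₁ ^ m)⁻¹ = A' ^ m * x := by
              intro m
              induction m with
              | zero => simp
              | succ m ih =>
                rw [pow_succ, show v₁ ^ m * v₁ * x * (v₁ ^ m * v₁)⁻¹ = v₁ ^ m * (v₁ * x * v₁⁻¹) * (v₁ ^ m)⁻¹ by group,
                  show v₁ * x * v₁⁻¹ = A' * x by simp only [hA'def, commutatorElement_def]; group,
                  ← mul_assoc, center_comm c hA₂ (v₁ ^ m), mul_assoc A', mul_assoc A', ih, ← mul_assoc, ← pow_succ']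
            rw [commutatorElement_def, key, mul_inv_cancel_right]
          rw [← e', commutatorElement_eq_one_iff_mul_comm.2 hc2.eq]
        rw [h8]; exact one_mem _)
      exact hd (by exact_mod_cast h6)
    have h3' : ∀ u ∈ T 3, g u ∈ T 3 := fun u hu => by
      refine hcen _ (hg.mem (c.anti (by omega) hu)) fun z hz => ?_
      obtain ⟨z', hz', rfl⟩ := hg.surj le_rfl (fun w hw => hg.mem hw) z hz
      rw [← hg.mul (c.anti (by omega) hu) hz', ← hg.mul hz' (c.anti (by omega) hu), hM1 z' hz' u hu]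
    refine ⟨h4', h3', fun u hu => ?_⟩
    obtain ⟨Y, hY, hYc, hYconj⟩ := hg.image (K := T 2) (c.anti (by omega))
    by_contra hbad
    have hY3 : T 3 ≤ Y := fun y hy => by
      obtain ⟨w, hw, rfl⟩ := hg.surj (c.anti (by omega)) h3' y hy
      exact hY w (c.anti (by omega) hw)
    obtain ⟨s, -, hs⟩ := c.exists_level (j := 0) (by omega)
    have hm := moves c C.hT (j := 1) le_rfl (by omega) (kills_one c) hs hvT hv₁'
    have hgu := hg.mem (c.anti (show 1 ≤ 2 by omega) hu)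
    obtain ⟨r, -, y, hy, hr⟩ := c.gen (j := 1) (by omega) hvT hv₁' hgu
    by_cases hd : p ∣ r
    · obtain ⟨d, rfl⟩ := hd; rw [hr, pow_mul, C.exp0 hv₁, one_pow, one_mul] at hbad; exact hbad hy
    obtain ⟨l, hl⟩ := exists_coeff (p := p) hd (p - 1)
    obtain ⟨d, hd'⟩ := Nat.dvd_of_mod_eq_zero hl
    obtain ⟨q, -, w', hw', hq⟩ := c.gen (j := 2) (by omega) (c.mem_step le_rfl hvT s) hm (pow_mem hy l)
    haveI := c.normal 3
    set π := QuotientGroup.mk' (T 3)
    have hvc : Commute (π v₁) (π y) := commute_mk.2 (c.anti (by omega) (hk12 v₁ hvT y hy))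
    have hpe : π v₁ ^ (r * l) = π v₁ := by
      refine mul_left_cancel (a := π v₁ ^ (p - 1)) ?_
      rw [← pow_add, hd', pow_mul, ← map_pow, C.exp0 hv₁, map_one, one_pow, ← pow_succ,
        Nat.sub_add_cancel hp.out.one_lt.le, ← map_pow, C.exp0 hv₁, map_one]
    have h1' : π ((v₁ ^ r * y) ^ l) = π v₁ * π ⁅s, v₁⁆ ^ q := by
      rw [map_pow, map_mul, map_pow, (hvc.pow_left r).mul_pow, ← pow_mul, hpe, ← map_pow π y, hq, map_mul, map_pow,
        show π w' = 1 from (QuotientGroup.eq_one_iff _).2 hw', mul_one]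
    have h2' : π (s ^ q * v₁ * (s ^ q)⁻¹) = π v₁ * π ⁅s, v₁⁆ ^ q := by
      haveI : (T (1 + 2)).Normal := c.normal _
      have h5 := bracket_pow c (j := 1) le_rfl hvT s (q : ℤ) 1
      rw [mul_one, zpow_one, zpow_natCast, zpow_natCast] at h5
      rw [show s ^ q * v₁ * (s ^ q)⁻¹ = ⁅s ^ q, v₁⁆ * v₁ by simp only [commutatorElement_def]; group, map_mul]
      refine (congrArg (· * π v₁) h5).trans ?_
      exact ((commute_mk.2 (c.anti (show 3 ≤ 4 by omega) (hk12 v₁ hvT _ (c.mem_step le_rfl hvT s)))).pow_right q).eq.symm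
    have hxv : s ^ q * v₁ * (s ^ q)⁻¹ ∈ Y := by
      have := Y.mul_mem (hY3 ((mk_eq_of T).2 (h2'.trans h1'.symm))) (pow_mem (hr ▸ hY u hu) l)
      rwa [inv_mul_cancel_right] at this
    have hconj : (E₀.map (MulAut.conj (s ^ q)).toMonoidHom) = Y := by
      refine Subgroup.eq_of_le_of_card_ge ?_ ?_
      · rw [← hE₁, Subgroup.map_sup, MonoidHom.map_zpowers]
        refine sup_le ?_ (Subgroup.zpowers_le.2 hxv)
        rintro _ ⟨z, hz, rfl⟩
        exact hY3 ((c.normal _).conj_mem z hz _)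
      · rw [Subgroup.card_map_of_injective (MulEquiv.injective _), C.card0, hYc, C.cardT (by omega)]
    have hc1 := isConj_map (F := F) E₀ (s ^ q)
    rw [hconj, amb_subgroupOf C.le] at hc1
    exact C.not_conj_normal hNE (c.normal 2) (CfsgLib.Fusion.IsConj.trans hc1 (CfsgLib.Fusion.IsConj.symm hYconj))
  have hfn : F.IsFullyNormalized (amb (T 1)) := ⟨amb_le _, fun Q _ => by
    rw [normalizerIn_amb, Subgroup.normalizer_eq_top_iff.2 (c.normal 1), card_amb, Subgroup.card_top]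
    exact Subgroup.card_le_of_le inf_le_left⟩
  obtain ⟨f, hf, hfe⟩ := extend C.hS C.hF (T 1) hfn (fun r => T (5 - r)) 4
    (fun a b hab => c.anti (by omega)) (c.bot _ le_rfl) rfl
    (fun r hr => by rw [C.cardT (by omega), C.cardT (by omega), ← pow_succ']; congr 1; omega)
    (fun g hg r hr u hu => by
      obtain ⟨a4, a3, a2⟩ := hinv g hg
      rcases r with _ | _ | _ | _ | r
      · have h0 : u = 1 := c.eq_one le_rfl hu
        rw [h0, hg.one]; exact one_mem _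
      · exact a4 u hu
      · exact a3 u hu
      · exact a2 u hu
      · omega) hf₀
  rw [Subgroup.normalizer_eq_top_iff.2 (c.normal 1)] at hf
  have hmul : ∀ a b : S, f (a * b) = f a * f b := fun a b => hf.mul (Subgroup.mem_top a) (Subgroup.mem_top b)
  have hT2 : ∀ j, 2 ≤ j → ∀ u ∈ T j, f u ∈ T j := fun j hj u hu => by
    rw [C.hT j hj] at hu ⊢; exact lcs_mapsTo hmul _ u hu
  have hE1 : E₀ ≤ T 1 := h1
  have hEf : ∀ u ∈ E₀, f u = f₀ u := fun u hu => hfe u (hE1 hu)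
  have hfix : ∀ u ∈ E₀, x * u = u * x → u ∈ T 3 := by
    intro u hu hxu
    by_contra hu3
    have hEu : T (5 - 2) ⊔ Subgroup.zpowers u = E₀ := C.sup_eq hZ2 hu hu3 (by
      rw [C.card0, C.cardT (by omega), ← pow_succ'])
    refine hxE (C.self_cent fun w hw => ?_)
    have hle : E₀ ≤ Subgroup.centralizer ({x} : Set S) := by
      rw [← hEu]
      exact sup_le (fun b hb => Subgroup.mem_centralizer_singleton_iff.2 (hM1 x (c.anti (by omega) hx) b hb).symm)
        (Subgroup.zpowers_le.2 (Subgroup.mem_centralizer_singleton_iff.2 hxu.symm))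
    exact (Subgroup.mem_centralizer_singleton_iff.1 (hle hw)).symm
  have hfv : f v₁ * (v₁ ^ (-1 : ℤ))⁻¹ ∈ T 3 := by
    rw [zpow_neg, zpow_one, inv_inv, hEf v₁ hv₁]
    exact hfix _ (mul_mem (hf₀E v₁ hv₁) hv₁) (hfneg v₁ hv₁)
  have hsv : ∀ z ∈ T 2, ⁅f v₁ * (v₁ ^ (-1 : ℤ))⁻¹, z⁆ ∈ T (2 + 2) := fun z hz =>
    c.anti (by omega) (c.add 3 2 (by omega) le_rfl (Subgroup.commutator_mem_commutator hfv hz))
  -- weights
  obtain ⟨m2, hm2⟩ := weight_exists c hmul (j := 2) (by omega) (by omega) (hT2 2 le_rfl) (hT2 3 (by omega))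
  have hA4 : ⁅v₁, x⁆ ∉ T (2 + 2) → False := fun h => h hA₂
  have hwA : Weight T f 4 (-1) := weight_of_gen c hmul (by omega) (by omega) (hT2 5 (by omega)) hA₂ hA' (by
    rw [hEf A' (C.last_le hA₂), hfA, zpow_neg, zpow_one, inv_inv, inv_mul_cancel]; exact one_mem _)
  obtain ⟨z₃, hz₃, hz₃'⟩ := c.exists_level (j := 3) (by omega)
  have hxz : x * z₃ = z₃ * x := hM1 x (c.anti (by omega) hx) z₃ hz₃
  have hw3 : Weight T f 3 1 := by
    obtain ⟨mm, hmm⟩ := hffix z₃ (hZ2 hz₃) hxz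
    refine weight_of_gen c hmul (by omega) (by omega) (hT2 4 (by omega)) hz₃ hz₃' ?_
    rw [hEf z₃ (hZ2 hz₃), hmm, zpow_one]
    exact (c.normal 4).conj_mem _ (pow_mem hA₂ mm) z₃
  -- `f x ≡ x ^ m2`, and `m2 = 1`
  have hp5 := C.hp5
  have hm2' : (p : ℤ) ∣ m2 - 1 := by
    haveI : (T (2 + 2)).Normal := c.normal _
    set δ := f x * (x ^ m2)⁻¹ with hδ
    have hδ3 : δ ∈ T 3 := hm2 x hx
    have hfx : f x = δ * x ^ m2 := (inv_mul_cancel_right _ _).symm
    set d := f v₁ * (v₁ ^ (-1 : ℤ))⁻¹ with hd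
    have hfv' : f v₁ = d * v₁⁻¹ := by rw [hd, zpow_neg, zpow_one, inv_inv]; group
    have hvT := h1 hv₁
    have hxT : x ∈ T 1 := c.anti (by omega) hx
    have cd : ∀ y ∈ T 1, Commute d y := fun y hy => (hM1 y hy d hfv).symm
    have cδ : ∀ y ∈ T 1, Commute δ y := fun y hy => (hM1 y hy δ hδ3).symm
    have e1 : f A' = A' ^ (-m2) := by
      have hxm : x ^ m2 ∈ T 1 := (T 1).zpow_mem hxT m2
      rw [hA'def, show f ⁅v₁, x⁆ = ⁅f v₁, f x⁆ from map_commutatorElement (MonoidHom.mk' f hmul) v₁ x, hfv', hfx]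
      have key : ⁅d * v₁⁻¹, δ * x ^ m2⁆ = ⁅v₁⁻¹, x ^ m2⁆ := by
        calc ⁅d * v₁⁻¹, δ * x ^ m2⁆ = d * (v₁⁻¹ * δ) * x ^ m2 * v₁ * (d⁻¹ * (x ^ m2)⁻¹) * δ⁻¹ := by
              simp only [commutatorElement_def]; group
          _ = d * δ * ⁅v₁⁻¹, x ^ m2⁆ * (d⁻¹ * δ⁻¹) := by
              rw [((cδ _ (inv_mem hvT)).symm).eq, ((cd _ (inv_mem hxm)).inv_left).eq]
              simp only [commutatorElement_def]; group
          _ = ⁅v₁⁻¹, x ^ m2⁆ := by
              have hz := center_comm c (c.comm_one (inv_mem hvT) hxm : ⁅v₁⁻¹, x ^ m2⁆ ∈ T (5 - 1))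
              rw [hz (d * δ), mul_assoc]
              have hdd : Commute d δ := cd δ (c.anti (by omega) hδ3)
              rw [show d * δ * (d⁻¹ * δ⁻¹) = (d * δ) * (δ * d)⁻¹ by group, hdd.eq, mul_inv_cancel, mul_one]
      rw [key]
      have hkey : ∀ (k l : ℤ), ⁅v₁ ^ k, x ^ l⁆ = A' ^ (k * l) := by
        intro k l
        let φ1 : ↥(T 1) →* S := MonoidHom.mk' (fun a => ⁅(a : S), x ^ l⁆) fun a b => by
          have hz := center_comm c (c.comm_one b.2 ((T 1).zpow_mem hxT l) : ⁅(b : S), x ^ l⁆ ∈ T (5 - 1))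
          rw [Subgroup.coe_mul, show ⁅(a : S) * b, x ^ l⁆ = (a : S) * ⁅(b : S), x ^ l⁆ * (a : S)⁻¹ * ⁅(a : S), x ^ l⁆ by
            simp only [commutatorElement_def]; group, hz (a : S), mul_inv_cancel_right, hz]
        let φ2 : ↥(T 1) →* S := MonoidHom.mk' (fun a => ⁅v₁, (a : S)⁆) fun a b => by
          have hz := center_comm c (c.comm_one hvT b.2 : ⁅v₁, (b : S)⁆ ∈ T (5 - 1))
          rw [Subgroup.coe_mul, show ⁅v₁, (a : S) * b⁆ = ⁅v₁, (a : S)⁆ * ((a : S) * ⁅v₁, (b : S)⁆ * (a : S)⁻¹) by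
            simp only [commutatorElement_def]; group, hz (a : S), mul_inv_cancel_right]
        have g1 : ⁅v₁ ^ k, x ^ l⁆ = ⁅v₁, x ^ l⁆ ^ k := map_zpow φ1 ⟨v₁, hvT⟩ k
        have g2 : ⁅v₁, x ^ l⁆ = ⁅v₁, x⁆ ^ l := map_zpow φ2 ⟨x, hxT⟩ l
        rw [g1, g2, ← hA'def, ← zpow_mul, mul_comm]
      have := hkey (-1) m2
      rwa [zpow_neg, zpow_one, neg_one_mul] at this
    rw [hEf A' (C.last_le hA₂), hfA] at e1
    have e2 : A' ^ (m2 - 1) = 1 := by
      rw [zpow_sub, zpow_one, ← inv_inv (A' ^ m2), ← zpow_neg, ← e1, inv_inv, mul_inv_cancel]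
    exact dvd_of_pow_mem c hA₂ hA' (e2 ▸ one_mem _)
  -- an element outside `T 1`
  obtain ⟨s, -, hs⟩ := c.exists_level (j := 0) (by omega)
  obtain ⟨σ, t, ht, hσ⟩ : ∃ (σ : ℕ), ∃ t ∈ T 1, f s = s ^ σ * t := by
    obtain ⟨k, -, t, ht, hk⟩ := c.gen (j := 0) (by omega) (u := s) (by rw [c.zero]; exact Subgroup.mem_top s) hs
      (x := f s) (by rw [c.zero]; exact Subgroup.mem_top _)
    exact ⟨k, t, ht, hk⟩
  have hds : ∀ j, 2 ≤ j → j ≤ 3 → ∀ z ∈ T j, ⁅f s * (s ^ (σ : ℤ))⁻¹, z⁆ ∈ T (j + 2) := fun j hj hj' z hz => by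
    rw [hσ, zpow_natCast]
    have hd1 : s ^ σ * t * (s ^ σ)⁻¹ ∈ T 1 := (c.normal 1).conj_mem t ht _
    rcases Nat.lt_or_ge j 3 with h | h
    · obtain rfl : j = 2 := by omega
      exact kills_two c _ hd1 z hz
    · obtain rfl : j = 3 := by omega
      rw [commutatorElement_eq_one_iff_mul_comm.2 (hM1 _ hd1 z hz)]; exact one_mem _
  have hw3' := weight_step c hmul (j := 2) (by omega) (by omega) hx (hm2 x hx) (hds 2 le_rfl (by omega)) (hT2 4 (by omega))
    (moves c C.hT (by omega) (by omega) (kills_two c) hs hx hx')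
  have hw4' := weight_step c hmul (j := 3) (by omega) (by omega) hz₃ (hw3 z₃ hz₃) (hds 3 (by omega) le_rfl) (hT2 5 (by omega))
    (moves c C.hT (by omega) (by omega) (fun a ha b hb => by
      rw [commutatorElement_eq_one_iff_mul_comm.2 (hM1 a ha b hb)]; exact one_mem _) hs hz₃ hz₃')
  obtain ⟨q1, hq1⟩ := weight_unique c (by omega) hw3 hw3'
  obtain ⟨q2, hq2⟩ := weight_unique c (by omega) hwA hw4'
  obtain ⟨q3, hq3⟩ := hm2'
  have : (p : ℤ) ∣ 2 := ⟨q1 - q2 + σ * q3, by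
    rw [mul_one] at hq2
    have e : (σ : ℤ) * m2 = σ + σ * ((p : ℤ) * q3) := by rw [← hq3]; ring
    rw [e] at hq1
    ring_nf at hq1 hq2 ⊢
    linarith⟩
  have := Int.le_of_dvd (by omega) this
  omega

end Ctx

end CfsgLib.PearlFour
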