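import Cfsg.Agent.PearlFour.CaseA
import Mathlib

/-!
The case `E ≤ T 1`, not centralising `T (n-2)`.
-/

set_option autoImplicit false
set_option linter.style.haveILetI false

open Cfsg
open scoped commutatorElement

namespace CfsgLib.PearlFour

open Cfsg.FusionSystem CfsgLib.Fusion CfsgLib.MaxPearl

universe u

variable {Ω : Type u} [Group Ω] {S : Subgroup Ω} [Finite S] {F : Cfsg.FusionSystem S}
variable {p n : ℕ} [hp : Fact p.Prime] {T : ℕ → Subgroup S} {E : Subgroup Ω}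

/-- A power of a central factor. -/
theorem conj_pow_central {H : Type*} [Group H] {U V z : H} (hz : ∀ g, Commute z g) (h : U * V * U⁻¹ = z * V) :
    ∀ l : ℕ, U ^ l * V * (U ^ l)⁻¹ = z ^ l * V
  | 0 => by simp
  | l + 1 => by
    rw [pow_succ', show U * U ^ l * V * (U * U ^ l)⁻¹ = U * (U ^ l * V * (U ^ l)⁻¹) * U⁻¹ by group,
      conj_pow_central hz h l, show U * (z ^ l * V) * U⁻¹ = (U * z ^ l) * V * U⁻¹ by group,
      ((hz U).symm.pow_right l).eq, show z ^ l * U * V * U⁻¹ = z ^ l * (U * V * U⁻¹) by group, h, ← mul_assoc, ← pow_succ,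
      pow_succ' z l]

namespace Ctx

variable (C : Ctx F p n T E)
include C

set_option maxHeartbeats 1000000 in
/-- `E ≤ T 1` moving `T (n-2)`. -/
theorem caseC (hM : ¬ ∀ e ∈ E.subgroupOf S, ∀ b ∈ T (n - 2), e * b = b * e) (h1 : E.subgroupOf S ≤ T 1) : False := by
  classical
  have h5 := C.h5
  have hp5 := C.hp5
  have c := C.c
  haveI : ∀ j, (T j).Normal := c.normal
  set E₀ := E.subgroupOf S with hE₀
  push Not at hM
  obtain ⟨v, hv, g₀, hg₀, hne⟩ := hM
  have heven : Even n := by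
    by_contra h
    exact hne (odd_center c C.hT (Nat.not_even_iff_odd.1 h) (fun j hj hjn => C.kills (by omega) hjn) v (h1 hv) g₀ hg₀)
  have hn : n = 6 ∨ 8 ≤ n := by obtain ⟨m, hm⟩ := heven; omega
  have hcT : ∀ w ∈ T 2, g₀ * w = w * g₀ := fun w hw =>
    eq_one_of_sum c (show 2 ≤ n - 2 by omega) le_rfl (by omega) hg₀ hw
  have hvT : v ∉ T 2 := fun h => hne (hcT v h).symm
  have hg₀E : g₀ ∉ E₀ := fun h => hne (C.comm0 hv h)
  have hg₀' : g₀ ∉ T (n - 2 + 1) := fun h => hg₀E (C.last_le (by rwa [show n - 1 = n - 2 + 1 by omega]))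
  set A := ⁅v, g₀⁆ with hAdef
  have hAne : A ≠ 1 := fun h => hne (commutatorElement_eq_one_iff_mul_comm.1 h)
  have hA : A ∈ T (n - 1) := by
    have := c.mem_step (show 1 ≤ n - 2 by omega) hg₀ v
    rwa [show n - 2 + 1 = n - 1 by omega] at this
  have hA1 : A ∉ T (n - 1 + 1) := fun h => hAne (c.eq_one (by omega) h)
  have hZA := C.zpowers_last hA hA1
  have hAE := C.last_le hA
  have hdisp : ∀ u ∈ E₀, ⁅g₀, u⁆ ∈ Subgroup.zpowers A := fun u hu => hZA (by
    have := c.mem_step (show 1 ≤ n - 2 by omega) hg₀ u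
    rw [show n - 2 + 1 = n - 1 by omega] at this
    exact comm_mem_symm.1 this)
  have hg₀N : g₀ ∈ Subgroup.normalizer (E₀ : Set S) :=
    C.norm_of_comm fun u hu => (Subgroup.zpowers_le.2 hAE) (hdisp u hu)
  -- the axis
  set K := E₀ ⊓ T 2 with hKdef
  have hdec : ∀ u ∈ E₀, ∃ k, k < p ∧ ∃ w ∈ K, u = v ^ k * w := by
    intro u hu
    obtain ⟨k, hk, w, hw, rfl⟩ := c.gen (j := 1) (by omega) (h1 hv) hvT (h1 hu)
    exact ⟨k, hk, w, ⟨(Subgroup.mul_mem_cancel_left _ (pow_mem hv k)).1 hu, hw⟩, rfl⟩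
  have hKc : Nat.card K ≤ p ^ 2 := by
    obtain ⟨b, hb⟩ := IsPGroup.iff_card.1 (C.hS.to_subgroup K)
    have hlt : Nat.card K < Nat.card E₀ := lt_of_le_of_ne (Subgroup.card_le_of_le inf_le_left) fun e =>
      hvT ((Subgroup.eq_of_le_of_card_ge (inf_le_left : K ≤ E₀) e.ge).ge hv).2
    rw [C.card0, hb, Nat.pow_lt_pow_iff_right hp.out.one_lt] at hlt
    rw [hb]; exact Nat.pow_le_pow_right hp.out.pos (by omega)
  have hKge : p ^ 2 ≤ Nat.card K := by
    have hs : Function.Surjective (fun q : Fin p × K =>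
        (⟨v ^ (q.1 : ℕ) * q.2, mul_mem (pow_mem hv _) q.2.2.1⟩ : E₀)) := fun u => by
      obtain ⟨k, hk, w, hw, e⟩ := hdec u u.2
      exact ⟨(⟨k, hk⟩, ⟨w, hw⟩), Subtype.ext e.symm⟩
    have := Nat.card_le_card_of_surjective _ hs
    rw [C.card0, Nat.card_prod, Nat.card_fin, pow_succ'] at this
    exact Nat.le_of_mul_le_mul_left this hp.out.pos
  have hAK : A ∈ K := ⟨hAE, c.anti (by omega) hA⟩
  obtain ⟨c₀, hc₀, hc₀A⟩ : ∃ c₀ ∈ K, c₀ ∉ Subgroup.zpowers A := SetLike.not_le_iff_exists.1 fun h => by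
    have := (hKge.trans (Subgroup.card_le_of_le h))
    rw [Nat.card_zpowers, orderOf_eq_prime (C.exp0 hAE) hAne] at this
    have hlt : p ^ 1 < p ^ 2 := Nat.pow_lt_pow_right hp.out.one_lt (by omega)
    rw [pow_one] at hlt
    omega
  have hvpow : ∀ k : ℕ, v ^ k * g₀ = g₀ * v ^ k → p ∣ k := by
    intro k hk
    by_contra hd
    obtain ⟨l, hl⟩ := exists_coeff (p := p) hd (p - 1)
    obtain ⟨d, hd'⟩ := Nat.dvd_of_mod_eq_zero hl
    have h3 : v = (v ^ k) ^ l := by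
      refine mul_left_cancel (a := v ^ (p - 1)) ?_
      rw [← pow_mul, ← pow_add, hd', pow_mul, C.exp0 hv, one_pow, ← pow_succ,
        Nat.sub_add_cancel hp.out.one_lt.le, C.exp0 hv]
    exact hne (by rw [h3]; exact ((show Commute (v ^ k) g₀ from hk).pow_left l).eq)
  have hfixK : ∀ u ∈ E₀, g₀ * u = u * g₀ → u ∈ K := by
    intro u hu hgu
    obtain ⟨k, hk, w, hw, rfl⟩ := hdec u hu
    have h3 : Commute g₀ (v ^ k) := by
      have := (show Commute g₀ (v ^ k * w) from hgu).mul_right (show Commute g₀ w from hcT w hw.2).inv_right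
      rwa [mul_inv_cancel_right] at this
    rw [Nat.eq_zero_of_dvd_of_lt (hvpow k h3.eq.symm) hk, pow_zero, one_mul]
    exact hw
  -- the levels in the normalizer
  have hrig : ∀ c₁ ∈ K, c₁ ∉ Subgroup.zpowers A → ∀ g : S, ⁅g, c₁⁆ ∈ T (n - 1) → (∀ u ∈ E₀, ⁅g, u⁆ ∈ K) →
      g ∈ E₀ ⊔ Subgroup.zpowers g₀ := fun c₁ hc₁ hc₁A g hgc hg =>
    C.rigid hg₀N hg₀E hAE (center_comm c hA g₀) hdisp
      (fun u hu hgu => C.two_dim inf_le_left hKc hAK hc₁ hAne hc₁A u (hfixK u hu hgu)) hc₁.1 (hcT c₁ hc₁.2)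
      (center_comm c hA g) (hZA hgc) (fun u hu => C.two_dim inf_le_left hKc hAK hc₁ hAne hc₁A _ (hg u hu))
  have hk1 : ∀ a ∈ T 1, ∀ b ∈ T (n - 3), ⁅a, b⁆ ∈ T (n - 1) := fun a ha b hb => by
    have := C.kills (show 1 ≤ n - 3 by omega) (by omega) a ha b hb
    rwa [show n - 3 + 2 = n - 1 by omega] at this
  have hTK : T (n - 1) ≤ K := fun u hu => ⟨C.last_le hu, c.anti (by omega) hu⟩
  have h3N : T (n - 3) ≤ E₀ ⊔ Subgroup.zpowers g₀ := fun g hg =>
    hrig c₀ hc₀ hc₀A g (comm_mem_symm.1 (hk1 c₀ (h1 hc₀.1) g hg))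
      fun u hu => hTK (comm_mem_symm.1 (hk1 u (h1 hu) g hg))
  have hNdec : ∀ g ∈ E₀ ⊔ Subgroup.zpowers g₀, ∃ e ∈ E₀, ∃ i : ℤ, g = e * g₀ ^ i := by
    intro g hg
    open Pointwise in
    rw [← SetLike.mem_coe, Subgroup.coe_mul_of_right_le_normalizer_left _ _ (Subgroup.zpowers_le.2 hg₀N)] at hg
    obtain ⟨e, he, q, ⟨i, rfl⟩, hq⟩ := Set.mem_mul.1 hg
    exact ⟨e, he, i, hq.symm⟩
  obtain ⟨w₃, hw₃, hw₃'⟩ := c.exists_level (j := n - 3) (by omega)
  obtain ⟨z, hzE, i, hzi⟩ := hNdec w₃ (h3N hw₃)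
  have hgi : g₀ ^ i ∈ T (n - 2) := (T (n - 2)).zpow_mem hg₀ i
  have hz3 : z ∈ T (n - 3) := by
    rw [hzi] at hw₃
    exact (Subgroup.mul_mem_cancel_right _ (c.anti (by omega) hgi)).1 hw₃
  have hz3' : z ∉ T (n - 3 + 1) := fun h => hw₃' (by
    rw [hzi]; exact mul_mem h (by rwa [show n - 3 + 1 = n - 2 by omega]))
  have hzK : z ∈ K := ⟨hzE, c.anti (by omega) hz3⟩
  have hzA : z ∉ Subgroup.zpowers A := fun h => hz3' (c.anti (by omega) ((Subgroup.zpowers_le.2 hA) h))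
  have hK3 : K ≤ T (n - 3) := fun u hu => by
    obtain ⟨a, b, rfl⟩ := C.two_dim inf_le_left hKc hAK hzK hAne hzA u hu
    exact mul_mem (pow_mem (c.anti (by omega) hA) a) (pow_mem hz3 b)
  have hNT2 : ∀ g ∈ E₀ ⊔ Subgroup.zpowers g₀, g ∈ T 2 → g ∈ T (n - 3) := by
    intro g hg hg2
    obtain ⟨e, he, i, rfl⟩ := hNdec g hg
    have he2 : e ∈ T 2 := (Subgroup.mul_mem_cancel_right _ (c.anti (by omega) ((T (n - 2)).zpow_mem hg₀ i))).1 hg2
    exact mul_mem (hK3 ⟨he, he2⟩) (c.anti (by omega) ((T (n - 2)).zpow_mem hg₀ i))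
  have h3dec : ∀ t ∈ T (n - 3), ∃ (j : ℕ), ∃ k ∈ K, t = g₀ ^ j * k := by
    intro t ht
    obtain ⟨a, -, w, hw, rfl⟩ := c.gen (by omega) hz3 hz3' ht
    rw [show n - 3 + 1 = n - 2 by omega] at hw
    obtain ⟨j, -, r, hr, rfl⟩ := c.gen (by omega) hg₀ hg₀' hw
    refine ⟨j, z ^ a * r, mul_mem (pow_mem hzK a) (hTK (by rwa [show n - 1 = n - 2 + 1 by omega])), ?_⟩
    rw [← mul_assoc, ← mul_assoc, (((show Commute g₀ z from hcT z hzK.2).pow_pow j a)).eq]
  rcases hn with rfl | hn8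
  swap
  · -- two levels below
    obtain ⟨g5, hg5, hg5'⟩ := c.exists_level (j := n - 5) (by omega)
    obtain ⟨g4, hg4, hg4'⟩ := c.exists_level (j := n - 4) (by omega)
    have hm : ∀ g ∈ T (n - 5), ⁅g, v⁆ ∈ T (n - 3) := fun g hg => by
      have := C.kills (show 1 ≤ n - 5 by omega) (by omega) v (h1 hv) g hg
      rw [show n - 5 + 2 = n - 3 by omega] at this
      exact comm_mem_symm.1 this
    have hcm : ∀ g ∈ T (n - 5), ∀ t ∈ T (n - 3), Commute g t := fun g hg t ht =>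
      eq_one_of_sum c (show 2 ≤ n - 5 by omega) (show 2 ≤ n - 3 by omega) (by omega) hg ht
    let φ : ↥(T (n - 5)) →* S := MonoidHom.mk' (fun g => ⁅(g : S), v⁆) fun g h => by
      rw [Subgroup.coe_mul, show ⁅(g : S) * h, v⁆ = (g : S) * ⁅(h : S), v⁆ * (g : S)⁻¹ * ⁅(g : S), v⁆ by
        simp only [commutatorElement_def]; group, (hcm g g.2 _ (hm h h.2)).eq, mul_inv_cancel_right,
        (eq_one_of_sum c (show 2 ≤ n - 3 by omega) (show 2 ≤ n - 3 by omega) (by omega) (hm h h.2) (hm g g.2))]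
    have hbad : ∀ g ∈ T (n - 5), ⁅g, v⁆ ∈ K → g ∈ T (n - 3) := by
      intro g hg hgv
      refine hNT2 g (hrig z hzK hzA g ?_ ?_) (c.anti (by omega) hg)
      · rw [commutatorElement_eq_one_iff_mul_comm.2 (hcm g hg z hz3).eq]; exact one_mem _
      · intro u hu
        obtain ⟨k, -, w, hw, rfl⟩ := hdec u hu
        have hgw : Commute g w := hcm g hg w (hK3 hw)
        have hvv : Commute ⁅g, v⁆ v := C.comm0 hgv.1 hv
        have : ⁅g, v ^ k * w⁆ = ⁅g, v⁆ ^ k := by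
          rw [show ⁅g, v ^ k * w⁆ = g * v ^ k * (w * g⁻¹ * w⁻¹) * (v ^ k)⁻¹ by simp only [commutatorElement_def]; group,
            (hgw.symm.inv_right).eq, mul_inv_cancel_right, ← conj_pow,
            show g * v * g⁻¹ = ⁅g, v⁆ * v by simp only [commutatorElement_def]; group, hvv.mul_pow, mul_inv_cancel_right]
        rw [this]; exact pow_mem hgv k
    obtain ⟨a, ka, hka, ea⟩ := h3dec _ (hm g5 hg5)
    have hg4m : g4 ∈ T (n - 5) := c.anti (by omega) hg4
    obtain ⟨b, kb, hkb, eb⟩ := h3dec _ (hm g4 hg4m)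
    have hg₀p : g₀ ^ p ∈ K := hTK (by
      have := c.pow_mem_succ (n - 2) hg₀
      rwa [show n - 2 + 1 = n - 1 by omega] at this)
    have hKmem : ∀ m : ℕ, p ∣ m → g₀ ^ m ∈ K := fun m ⟨d, hd⟩ => by rw [hd, pow_mul]; exact pow_mem hg₀p d
    by_cases hb : p ∣ b
    · refine hg4' ?_
      rw [show n - 4 + 1 = n - 3 by omega]
      exact hbad g4 hg4m (by rw [eb]; exact mul_mem (hKmem b hb) hkb)
    obtain ⟨t, ht⟩ := exists_coeff (p := p) hb a
    refine hg5' ?_
    have hgm : g5 * g4 ^ t ∈ T (n - 5) := mul_mem hg5 (pow_mem hg4m t)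
    have h3 : g5 * g4 ^ t ∈ T (n - 3) := by
      refine hbad _ hgm ?_
      have e1 : ⁅g5 * g4 ^ t, v⁆ = ⁅g5, v⁆ * ⁅g4, v⁆ ^ t := by
        have := map_mul φ ⟨g5, hg5⟩ (⟨g4, hg4m⟩ ^ t)
        rw [map_pow] at this
        exact this
      have hcK : ∀ k ∈ K, Commute g₀ k := fun k hk => hcT k hk.2
      rw [e1, ea, eb, ((hcK kb hkb).pow_left b).mul_pow, ← pow_mul,
        show g₀ ^ a * ka * (g₀ ^ (b * t) * kb ^ t) = g₀ ^ a * (ka * g₀ ^ (b * t)) * kb ^ t by group,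
        ← ((hcK ka hka).pow_left (b * t)).eq, ← mul_assoc, ← pow_add]
      exact mul_mem (mul_mem (hKmem _ (Nat.dvd_of_mod_eq_zero (by rw [add_comm]; first | exact ht | (rw [add_comm]; exact ht)))) hka)
        (pow_mem hkb t)
    exact (Subgroup.mul_mem_cancel_right _ (pow_mem (by rwa [show n - 5 + 1 = n - 4 by omega]) t)).1
      (c.anti (by omega) h3)
  -- order `p ^ 6`
  set N := E₀ ⊔ Subgroup.zpowers g₀ with hNdef
  have hzp : z ∉ T 4 := hz3'
  have hNT1 : N ≤ T 1 := sup_le h1 (Subgroup.zpowers_le.2 (c.anti (by omega) hg₀))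
  have hE4 : ∀ u ∈ E₀, u ∈ T 4 → u ∈ T 5 := by
    intro u hu hu4
    by_contra h
    obtain ⟨k, -, w, hw, e⟩ := c.gen (j := 4) (by omega) hu4 h hg₀
    exact hg₀E (e ▸ mul_mem (pow_mem hu k) (C.last_le hw))
  have hnormE : Subgroup.normalizer (E₀ : Set S) = N := by
    refine le_antisymm (fun g hg => ?_) (sup_le Subgroup.le_normalizer (Subgroup.zpowers_le.2 hg₀N))
    have hmem : ∀ u ∈ E₀, ⁅g, u⁆ ∈ E₀ := fun u hu => by
      have := E₀.mul_mem ((Subgroup.mem_normalizer_iff.1 hg u).1 hu) (inv_mem hu)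
      rwa [show g * u * g⁻¹ * u⁻¹ = ⁅g, u⁆ from (commutatorElement_def g u).symm] at this
    by_cases hg1 : g ∈ T 1
    · refine hrig z hzK hzA g (hE4 _ (hmem z hzE) (c.comm_one hg1 (h1 hzE))) fun u hu =>
        hTK (hE4 _ (hmem u hu) (c.comm_one hg1 (h1 hu)))
    · exact absurd (hE4 _ (hmem z hzE) (c.mem_step (j := 3) (by omega) hz3 g))
        (moves c C.hT (j := 3) (by omega) (by omega) (C.kills (by omega) (by omega)) hg1 hz3 hz3')
  have hT3N : T 3 ≤ N := h3N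
  have hNgen : T 3 ⊔ Subgroup.zpowers v = N := by
    refine le_antisymm (sup_le hT3N (Subgroup.zpowers_le.2 (Subgroup.mem_sup_left hv))) (sup_le (fun u hu => ?_)
      (Subgroup.zpowers_le.2 (Subgroup.mem_sup_left (c.anti (by omega) hg₀))))
    obtain ⟨k, -, w, hw, rfl⟩ := hdec u hu
    exact mul_mem (pow_mem (Subgroup.mem_sup_right (Subgroup.mem_zpowers v)) k) (Subgroup.mem_sup_left (hK3 hw))
  have hNd : ∀ y ∈ N, ∃ t ∈ T 3, ∃ a : ℕ, y = t * v ^ a := by
    intro y hy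
    obtain ⟨t, ht, q, hq, rfl⟩ := Subgroup.mem_sup_of_normal_left.1 (hNgen.ge hy)
    obtain ⟨a, rfl⟩ := C.nat_of_zpowers (C.exp0 hv) hq
    exact ⟨t, ht, a, rfl⟩
  have hcardN : Nat.card N = p ^ 4 := by
    have h := CfsgLib.MaxPearlC.card_map_mk (N := T 3) (H := T 3 ⊔ Subgroup.zpowers v) le_sup_left
    rw [C.cardT (by omega), hNgen] at h
    rw [← h, pow_succ]
    congr 1
    rw [← hNgen]
    simp only [Subgroup.map_sup, QuotientGroup.map_mk'_self, bot_sup_eq, MonoidHom.map_zpowers, Nat.card_zpowers]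
    refine (hp.out.eq_one_or_self_of_dvd _ (orderOf_dvd_of_pow_eq_one (by rw [← map_pow, C.exp0 hv, map_one]))).resolve_left ?_
    intro h1'
    exact hvT (c.anti (show 2 ≤ 3 by omega) ((QuotientGroup.eq_one_iff _).1 (orderOf_eq_one_iff.1 h1')))
  have hK5 : ∀ k ∈ K, ∀ y ∈ N, k * y = y * k := by
    intro k hk y hy
    obtain ⟨e, he, i, rfl⟩ := hNdec y hy
    exact ((show Commute k e from C.comm0 hk.1 he)).mul_right ((show Commute g₀ k from hcT k hk.2).symm.zpow_right i)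
  have hcenK : ∀ y : S, (∀ u ∈ N, y * u = u * y) → y ∈ K := fun y hy =>
    hfixK y (C.self_cent fun w hw => hy w (Subgroup.mem_sup_left hw))
      (hy g₀ (Subgroup.mem_sup_right (Subgroup.mem_zpowers _))).symm
  obtain ⟨u₂, hu₂, hu₂'⟩ := c.exists_level (j := 2) (by omega)
  have hcz4 : ⁅u₂, v⁆ ∈ T 4 := c.comm_one (c.anti (by omega) hu₂) (h1 hv)
  have hcz5 : ⁅u₂, v⁆ ∉ T 5 := by
    intro h
    refine hu₂' (hNT2 u₂ (hrig z hzK hzA u₂ ?_ fun u hu => ?_) hu₂)
    · exact c.anti (by omega) (c.add 2 3 le_rfl (by omega) (Subgroup.commutator_mem_commutator hu₂ hz3))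
    · obtain ⟨k, -, w, hw, rfl⟩ := hdec u hu
      refine hTK (commute_mk.1 ?_)
      rw [map_mul, map_pow]
      exact ((commute_mk.2 h).pow_right k).mul_right
        (commute_mk.2 (c.add 2 3 le_rfl (by omega) (Subgroup.commutator_mem_commutator hu₂ (hK3 hw))))
  set π := QuotientGroup.mk' (T 5) with hπ
  have hc4 : ∀ x ∈ T 4, ∀ g : S ⧸ T 5, Commute (π x) g := fun x hx g => by
    obtain ⟨g, rfl⟩ := QuotientGroup.mk'_surjective (T 5) g
    exact (commute_mk.2 (c.mem_step (j := 4) (by omega) hx g)).symm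
  have hconjU : π u₂ * π v * (π u₂)⁻¹ = π ⁅u₂, v⁆ * π v := by
    rw [← map_inv, ← map_mul, ← map_mul, ← map_mul]
    congr 1
    simp only [commutatorElement_def]; group
  have hcompl : ∀ y ∈ N, y ∉ T 3 → ∃ x : S, x * y * x⁻¹ ∈ E₀ ∧ ∀ k ∈ K, x * k * x⁻¹ ∈ K := by
    intro y hy hy3
    obtain ⟨t, ht, a, rfl⟩ := hNd y hy
    obtain ⟨j, k, hk, rfl⟩ := h3dec t ht
    have ha : ¬ p ∣ a := fun ⟨d, hd⟩ => hy3 (by rw [hd, pow_mul, C.exp0 hv, one_pow, mul_one]; exact ht)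
    obtain ⟨cc, -, w, hw, hcw⟩ := c.gen (j := 4) (by omega) hg₀ hg₀' hcz4
    have hw1 : π w = 1 := (QuotientGroup.eq_one_iff _).2 hw
    have hπc : π ⁅u₂, v⁆ = π g₀ ^ cc := by rw [hcw, map_mul, map_pow, hw1, mul_one]
    have hcc : ¬ p ∣ cc := fun ⟨d, hd⟩ => hcz5 ((QuotientGroup.eq_one_iff _).1 (show π ⁅u₂, v⁆ = 1 by
      rw [hπc, hd, pow_mul, ← map_pow, (QuotientGroup.eq_one_iff _).2 (c.pow_mem_succ 4 hg₀) |> fun h => (show π (g₀ ^ p) = 1 from h),
        one_pow]))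
    obtain ⟨l, hl⟩ := exists_coeff (p := p) (hp.out.not_dvd_mul hcc ha) j
    obtain ⟨d, hd⟩ := Nat.dvd_of_mod_eq_zero hl
    refine ⟨u₂ ^ l, ?_, fun k' hk' => ?_⟩
    · have hU : ∀ x ∈ T 3, Commute (π u₂) (π x) := fun x hx =>
        commute_mk.2 (c.add 2 3 le_rfl (by omega) (Subgroup.commutator_mem_commutator hu₂ hx))
      have hz : ∀ g, Commute (π ⁅u₂, v⁆) g := hc4 _ hcz4
      have key : π (u₂ ^ l * (g₀ ^ j * k * v ^ a) * (u₂ ^ l)⁻¹) = π (k * v ^ a) := by
        have hcz : π u₂ ^ l * π v * (π u₂ ^ l)⁻¹ = π g₀ ^ (cc * l) * π v := by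
          rw [conj_pow_central hz hconjU l, hπc, ← pow_mul]
        have hzg : ∀ g, Commute (π g₀) g := hc4 _ hg₀
        have hd' : π g₀ ^ (j + cc * l * a) = 1 := by
          rw [show j + cc * l * a = p * d by rw [← hd]; ring, pow_mul, ← map_pow,
            show π (g₀ ^ p) = 1 from (QuotientGroup.eq_one_iff _).2 (c.pow_mem_succ 4 hg₀), one_pow]
        have hUt : π u₂ ^ l * π (g₀ ^ j * k) * (π u₂ ^ l)⁻¹ = π (g₀ ^ j * k) := by
          rw [((hU _ ht).pow_left l).eq, mul_inv_cancel_right]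
        calc π (u₂ ^ l * (g₀ ^ j * k * v ^ a) * (u₂ ^ l)⁻¹)
            = (π u₂ ^ l * π (g₀ ^ j * k) * (π u₂ ^ l)⁻¹) * (π u₂ ^ l * π v * (π u₂ ^ l)⁻¹) ^ a := by
              rw [conj_pow, map_mul, map_mul, map_inv, map_mul π (g₀ ^ j * k), map_pow, map_pow]; group
          _ = π g₀ ^ (j + cc * l * a) * (π k * π v ^ a) := by
              rw [hUt, hcz, ((hzg _).pow_left (cc * l)).mul_pow, map_mul, map_pow, ← pow_mul, pow_add,
                mul_assoc (π g₀ ^ j) (π k), ← mul_assoc (π k), ← ((hzg (π k)).pow_left (cc * l * a)).eq]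
              simp only [mul_assoc]
          _ = π (k * v ^ a) := by rw [hd', one_mul, map_mul, map_pow]
      have h6 := (mk_eq_of T).2 key
      have := E₀.mul_mem (C.last_le h6) (mul_mem hk.1 (pow_mem hv a))
      rwa [inv_mul_cancel_right] at this
    · rw [show u₂ ^ l * k' * (u₂ ^ l)⁻¹ = ⁅u₂ ^ l, k'⁆ * k' by simp only [commutatorElement_def]; group]
      exact mul_mem (hTK (c.add 2 3 le_rfl (by omega) (Subgroup.commutator_mem_commutator (pow_mem hu₂ l) (hK3 hk')))) hk'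
  obtain ⟨f₀, hf₀, hf₀E, hfA, hffix, hfneg, -⟩ := C.base hg₀N hg₀E hAE (center_comm c hA g₀) hdisp (by rw [hnormE])
  rw [hnormE] at hf₀
  have hNE : Nat.card (Subgroup.normalizer (E₀ : Set S)) ≤ p ^ 4 := by rw [hnormE, hcardN]
  have hvN : v ∈ N := Subgroup.mem_sup_left hv
  have hgN : g₀ ∈ N := Subgroup.mem_sup_right (Subgroup.mem_zpowers g₀)
  have hNN : ∀ x ∈ N, ∀ y ∈ N, ⁅x, y⁆ ∈ T 5 := by
    intro x hx y hy
    obtain ⟨t, ht, a, rfl⟩ := hNd x hx
    obtain ⟨t', ht', b, rfl⟩ := hNd y hy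
    rw [← commute_mk, map_mul, map_mul, map_pow, map_pow]
    have q : ∀ s ∈ T 3, Commute (π v) (π s) := fun s hs => commute_mk.2 (hk1 v (h1 hv) s hs)
    have q2 : Commute (π t) (π t') :=
      (show Commute t t' from eq_one_of_sum c (show 2 ≤ 3 by omega) (show 2 ≤ 3 by omega) (by omega) ht ht').map π
    exact ((q t' ht').pow_left a).mul_left ((Commute.refl _)) |> fun _ =>
      (q2.mul_right ((q t ht).symm.pow_right b)).mul_left (((q t' ht').pow_left a).mul_right ((Commute.refl _).pow_pow a b))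
  have hinvN : ∀ g, AutOn F N g → (∀ u ∈ T 5, g u ∈ T 5) ∧ (∀ u ∈ K, g u ∈ K) ∧ (∀ u ∈ T 3, g u ∈ T 3) := by
    intro g hg
    have h5' : ∀ u ∈ T 5, g u ∈ T 5 := fun u hu => by
      obtain ⟨k, rfl⟩ := C.nat_of_zpowers (C.exp0 hAE) (hZA hu)
      rw [hg.pow (hT3N (c.anti (by omega) hA)), hAdef, hg.comm hvN hgN]
      exact pow_mem (hNN _ (hg.mem hvN) _ (hg.mem hgN)) k
    have hK' : ∀ u ∈ K, g u ∈ K := fun u hu => hcenK _ fun y hy => by
      obtain ⟨y', hy', rfl⟩ := hg.surj le_rfl (fun w hw => hg.mem hw) y hy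
      rw [← hg.mul (Subgroup.mem_sup_left hu.1) hy', ← hg.mul hy' (Subgroup.mem_sup_left hu.1), hK5 u hu y' hy']
    refine ⟨h5', hK', fun u hu => ?_⟩
    by_contra hbad
    obtain ⟨Y, hY, hYc, hYconj⟩ := hg.image (K := T 3) hT3N
    obtain ⟨x, hx, hxK⟩ := hcompl _ (hg.mem (hT3N hu)) hbad
    have hKY : K ≤ Y := fun w hw => by
      obtain ⟨w', hw', rfl⟩ := hg.surj (fun a ha => hT3N (hK3 ha)) hK' w hw
      exact hY w' (hK3 hw')
    have hxu : x * g u * x⁻¹ ∉ K := fun h => by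
      have hbij : K.map (MulAut.conj x).toMonoidHom = K := Subgroup.eq_of_le_of_card_ge
        (by rintro _ ⟨w, hw, rfl⟩; exact hxK w hw) (by rw [Subgroup.card_map_of_injective (MulEquiv.injective _)])
      obtain ⟨w, hw, e⟩ := hbij.ge h
      have : w = g u := (MulAut.conj x).injective e
      exact hbad (hK3 (this ▸ hw))
    have hEeq : Y.map (MulAut.conj x).toMonoidHom = E₀ := by
      refine (Subgroup.eq_of_le_of_card_ge ?_ ?_).symm
      · haveI : (K.subgroupOf E₀).Normal := ⟨fun a ha b => by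
          have : b * a * b⁻¹ = a := Subtype.ext (show (b : S) * a * (b : S)⁻¹ = a by
            rw [C.comm0 b.2 a.2, mul_inv_cancel_right])
          rw [this]; exact ha⟩
        intro e he
        have hle : K ⊔ Subgroup.zpowers (x * g u * x⁻¹) ≤ E₀ := sup_le inf_le_left (Subgroup.zpowers_le.2 hx)
        have heq : K ⊔ Subgroup.zpowers (x * g u * x⁻¹) = E₀ := Subgroup.eq_of_le_of_card_ge hle (by
          obtain ⟨b, hb⟩ := IsPGroup.iff_card.1 (C.hS.to_subgroup (K ⊔ Subgroup.zpowers (x * g u * x⁻¹)))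
          have hlt : Nat.card K < Nat.card ↥(K ⊔ Subgroup.zpowers (x * g u * x⁻¹)) :=
            lt_of_le_of_ne (Subgroup.card_le_of_le le_sup_left) fun e => hxu
              ((Subgroup.eq_of_le_of_card_ge le_sup_left e.ge).ge (Subgroup.mem_sup_right (Subgroup.mem_zpowers _)))
          rw [hb] at hlt
          have h2 := hKge.trans_lt hlt
          rw [Nat.pow_lt_pow_iff_right hp.out.one_lt] at h2
          rw [C.card0, hb]
          exact Nat.pow_le_pow_right hp.out.pos h2)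
        rw [← heq] at he
        refine (sup_le ?_ (Subgroup.zpowers_le.2 ?_) : _ ≤ Y.map (MulAut.conj x).toMonoidHom) he
        · intro w hw
          have hbij : K.map (MulAut.conj x).toMonoidHom = K := Subgroup.eq_of_le_of_card_ge
            (by rintro _ ⟨w, hw, rfl⟩; exact hxK w hw) (by rw [Subgroup.card_map_of_injective (MulEquiv.injective _)])
          obtain ⟨w', hw', e⟩ := hbij.ge hw
          exact ⟨w', hKY hw', e⟩
        · exact ⟨g u, hY u hu, rfl⟩
      · rw [Subgroup.card_map_of_injective (MulEquiv.injective _), C.card0, hYc, C.cardT (by omega)]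
    have hc1 := isConj_map (F := F) Y x
    rw [hEeq, amb_subgroupOf C.le] at hc1
    exact C.not_conj_normal hNE (c.normal 3)
      (CfsgLib.Fusion.IsConj.trans (CfsgLib.Fusion.IsConj.symm hc1) (CfsgLib.Fusion.IsConj.symm hYconj))
  -- first step up
  have hNnorm : Subgroup.normalizer (N : Set S) = T 1 := by
    refine le_antisymm (fun g hg => ?_) fun g hg => Subgroup.mem_normalizer_fintype fun y hy => ?_
    · by_contra hg1
      refine moves c C.hT (j := 1) le_rfl (by omega) (kills_one c) hg1 (h1 hv) hvT (hNT2 _ ?_ (c.mem_step le_rfl (h1 hv) g))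
      have := N.mul_mem ((Subgroup.mem_normalizer_iff.1 hg v).1 hvN) (inv_mem hvN)
      rwa [show g * v * g⁻¹ * v⁻¹ = ⁅g, v⁆ from (commutatorElement_def g v).symm] at this
    · rw [show g * y * g⁻¹ = ⁅g, y⁆ * y by simp only [commutatorElement_def]; group]
      exact mul_mem (hT3N (c.anti (by omega) (c.comm_one hg (hNT1 hy)))) hy
  have hfn : F.IsFullyNormalized (amb N) := Ctx.fully_normalized C
    (C.fully (Zc := K) (k := 1) le_sup_left inf_le_left (le_antisymm hKc hKge) hK5 hNE hcardN)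
    (by rw [hNnorm, hcardN, C.cardT (by omega), ← pow_succ'])
  obtain ⟨f₁, hf₁, hfe₁⟩ := extend C.hS C.hF N hfn
    (fun r => match r with | 0 => T 6 | 1 => T 5 | 2 => K | 3 => T 3 | _ => N) 4
    (monotone_nat_of_le_succ fun r => by
      rcases r with _ | _ | _ | _ | r
      · exact c.anti (by omega)
      · exact hTK
      · exact hK3
      · exact hT3N
      · exact le_rfl) (c.bot _ le_rfl) rfl
    (fun r hr => by
      have hKeq := le_antisymm hKc hKge
      rcases r with _ | _ | _ | _ | r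
      · simp only [C.cardT (show 5 ≤ 6 by omega), C.cardT (show 6 ≤ 6 by omega)]; norm_num
      · simp only [hKeq, C.cardT (show 5 ≤ 6 by omega)]; ring
      · simp only [hKeq, C.cardT (show 3 ≤ 6 by omega)]; ring
      · simp only [hcardN, C.cardT (show 3 ≤ 6 by omega)]; ring
      · omega)
    (fun g hg r hr u hu => by
      obtain ⟨a5, aK, a3⟩ := hinvN g hg
      rcases r with _ | _ | _ | _ | r
      · rw [c.eq_one le_rfl hu, hg.one]; exact one_mem _
      · exact a5 u hu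
      · exact aK u hu
      · exact a3 u hu
      · omega) hf₀
  rw [hNnorm] at hf₁
  have hzpw : ∀ k : ℕ, π ⁅u₂, v⁆ ^ k = 1 → p ∣ k := fun k hk => by
    have := dvd_of_pow_mem c (j := 4) (k := (k : ℤ)) hcz4 hcz5 (by
      rw [zpow_natCast]; rw [← map_pow] at hk; exact (QuotientGroup.eq_one_iff _).1 hk)
    exact_mod_cast this
  -- second step up
  have hinv1 : ∀ g, AutOn F (T 1) g →
      (∀ u ∈ T 5, g u ∈ T 5) ∧ (∀ u ∈ T 4, g u ∈ T 4) ∧ (∀ u ∈ T 3, g u ∈ T 3) ∧ (∀ u ∈ T 2, g u ∈ T 2) := by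
    intro g hg
    have hvT' := h1 hv
    have hgT : g₀ ∈ T 1 := c.anti (by omega) hg₀
    have huT : u₂ ∈ T 1 := c.anti (by omega) hu₂
    have hA4 : ∀ u ∈ T 5, g u ∈ T 4 := fun u hu => by
      obtain ⟨k, rfl⟩ := C.nat_of_zpowers (C.exp0 hAE) (hZA hu)
      rw [hg.pow (c.anti (by omega) hA), hAdef, hg.comm hvT' hgT]
      exact pow_mem (c.comm_one (hg.mem hvT') (hg.mem hgT)) k
    have h4' : ∀ u ∈ T 4, g u ∈ T 4 := fun u hu => by
      obtain ⟨k, -, w, hw, rfl⟩ := c.gen (j := 4) (by omega) hcz4 hcz5 hu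
      rw [hg.mul (pow_mem (c.anti (by omega) hcz4) k) (c.anti (by omega) hw), hg.pow (c.anti (by omega) hcz4),
        hg.comm huT hvT']
      exact mul_mem (pow_mem (c.comm_one (hg.mem huT) (hg.mem hvT')) k) (hA4 w hw)
    have h5' : ∀ u ∈ T 5, g u ∈ T 5 := fun u hu => by
      obtain ⟨k, rfl⟩ := C.nat_of_zpowers (C.exp0 hAE) (hZA hu)
      rw [hg.pow (c.anti (by omega) hA), hAdef, hg.comm hvT' hgT]
      exact pow_mem (c.mem_step (j := 4) (by omega) (h4' g₀ hg₀) (g v)) k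
    refine ⟨h5', h4', fun u hu => ?_, fun u hu => ?_⟩
    · have huT1 : u ∈ T 1 := c.anti (by omega) hu
      have hy : ∀ w ∈ T 1, Commute (π (g u)) (π w) := fun w hw => by
        obtain ⟨w', hw', rfl⟩ := hg.surj le_rfl (fun a ha => hg.mem ha) w hw
        refine commute_mk.2 ?_
        rw [← hg.comm huT1 hw']
        exact h5' _ (comm_mem_symm.1 (hk1 w' hw' u hu))
      obtain ⟨a, -, w, hw, e⟩ := c.gen (j := 1) (by omega) hvT' hvT (hg.mem huT1)
      obtain ⟨b, -, t, ht, rfl⟩ := c.gen (j := 2) (by omega) hu₂ hu₂' hw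
      have hz : ∀ x, Commute (π ⁅u₂, v⁆) x := hc4 _ hcz4
      have hVt : Commute (π v) (π t) := commute_mk.2 (hk1 v hvT' t ht)
      have hUt : Commute (π u₂) (π t) := commute_mk.2 (hk1 u₂ huT t ht)
      have hVU : π u₂ * π v = π ⁅u₂, v⁆ * π v * π u₂ := by rw [← hconjU, inv_mul_cancel_right]
      have e' : π (g u) = π v ^ a * (π u₂ ^ b * π t) := by rw [e, map_mul, map_mul, map_pow, map_pow]
      have hcU : Commute (π v ^ a) (π u₂) := by
        have h8 := e' ▸ hy u₂ huT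
        have h9 := h8.mul_left (((Commute.refl (π u₂)).pow_left b).mul_left hUt.symm).inv_left
        rwa [mul_inv_cancel_right] at h9
      have ha : p ∣ a := by
        refine hzpw a ?_
        have h10 : π u₂ * π v ^ a * (π u₂)⁻¹ = π v ^ a := by rw [← hcU.eq, mul_inv_cancel_right]
        rw [← conj_pow, hconjU, (hz _).mul_pow] at h10
        exact mul_eq_right.1 h10
      obtain ⟨d, rfl⟩ := ha
      have hv1 : v ^ (p * d) = 1 := by rw [pow_mul, C.exp0 hv, one_pow]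
      rw [e, hv1, one_mul]
      rw [← map_pow, hv1, map_one, one_mul] at e'
      have hb : p ∣ b := by
        refine hzpw b ?_
        have h8 := e' ▸ hy v hvT'
        have h9 : Commute (π u₂ ^ b) (π v) := by
          have := h8.mul_left hVt.symm.inv_left
          rwa [mul_inv_cancel_right] at this
        have h10 := conj_pow_central hz hconjU b
        rw [h9.eq, mul_inv_cancel_right] at h10
        exact mul_eq_right.1 h10.symm
      obtain ⟨d', rfl⟩ := hb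
      exact mul_mem (by rw [pow_mul]; exact pow_mem (c.pow_mem_succ 2 hu₂) d') ht
    · have huT1 : u ∈ T 1 := c.anti (by omega) hu
      obtain ⟨g', hg', hgg⟩ := hg.surj (c.anti (by omega)) h4' g₀ hg₀
      have hcm : Commute (g u) g₀ := by
        rw [← hgg, commute_iff_eq, ← hg.mul huT1 (c.anti (by omega) hg'), ← hg.mul (c.anti (by omega) hg') huT1,
          eq_one_of_sum c (show 2 ≤ 2 by omega) (show 2 ≤ 4 by omega) (by omega) hu hg']
      obtain ⟨a, ha', w, hw, e⟩ := c.gen (j := 1) (by omega) hvT' hvT (hg.mem huT1)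
      rw [e] at hcm ⊢
      have h9 : Commute (v ^ a) g₀ := by
        have := hcm.mul_left (show Commute w g₀ from (hcT w hw).symm).inv_left
        rwa [mul_inv_cancel_right] at this
      rw [Nat.eq_zero_of_dvd_of_lt (hvpow a h9.eq) ha', pow_zero, one_mul]
      exact hw
  have hfn1 : F.IsFullyNormalized (amb (T 1)) := ⟨amb_le _, fun Q _ => by
    rw [normalizerIn_amb, Subgroup.normalizer_eq_top_iff.2 (c.normal 1), card_amb, Subgroup.card_top]
    exact Subgroup.card_le_of_le inf_le_left⟩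
  obtain ⟨f, hf, hfe⟩ := extend C.hS C.hF (T 1) hfn1 (fun r => T (6 - r)) 5
    (fun a b hab => c.anti (by omega)) (c.bot _ le_rfl) rfl
    (fun r hr => by rw [C.cardT (by omega), C.cardT (by omega), ← pow_succ']; congr 1; omega)
    (fun g hg r hr u hu => by
      obtain ⟨a5, a4, a3, a2⟩ := hinv1 g hg
      rcases r with _ | _ | _ | _ | _ | r
      · rw [c.eq_one le_rfl hu, hg.one]; exact one_mem _
      · exact a5 u hu
      · exact a4 u hu
      · exact a3 u hu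
      · exact a2 u hu
      · omega) hf₁
  rw [Subgroup.normalizer_eq_top_iff.2 (c.normal 1)] at hf
  have hmul : ∀ a b : S, f (a * b) = f a * f b := fun a b => hf.mul (Subgroup.mem_top a) (Subgroup.mem_top b)
  have hT2 : ∀ j, 2 ≤ j → ∀ u ∈ T j, f u ∈ T j := fun j hj u hu => by
    rw [C.hT j hj] at hu ⊢; exact lcs_mapsTo hmul _ u hu
  have hEf : ∀ u ∈ E₀, f u = f₀ u := fun u hu => by
    rw [hfe u (h1 hu), hfe₁ u (Subgroup.mem_sup_left hu)]
  -- the weights
  have hwv : f v * (v ^ (-1 : ℤ))⁻¹ ∈ T 2 := by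
    rw [zpow_neg, zpow_one, inv_inv, hEf v hv]
    exact (hfixK _ (mul_mem (hf₀E v hv) hv) (hfneg v hv)).2
  have hwA : Weight T f 5 (-1) := weight_of_gen c hmul (by omega) (by omega) (hT2 6 (by omega)) hA hA1 (by
    rw [hEf A hAE, hfA, zpow_neg, zpow_one, inv_inv, inv_mul_cancel]; exact one_mem _)
  have hw3 : Weight T f 3 1 := by
    obtain ⟨mm, hmm⟩ := hffix z hzE (hcT z hzK.2)
    refine weight_of_gen c hmul (by omega) (by omega) (hT2 4 (by omega)) hz3 hz3' ?_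
    rw [hEf z hzE, hmm, zpow_one]
    exact (c.normal 4).conj_mem _ (pow_mem (c.anti (by omega) hA) mm) z
  obtain ⟨m4, hm4⟩ := weight_exists c hmul (j := 4) (by omega) (by omega) (hT2 4 (by omega)) (hT2 5 (by omega))
  have hwv5 := weight_step c hmul (j := 4) (by omega) (by omega) hg₀ (hm4 g₀ hg₀) (s := v) (σ := -1)
    (fun x hx => by
      rw [commutatorElement_eq_one_iff_mul_comm.2 (eq_one_of_sum c (show 2 ≤ 2 by omega) (show 2 ≤ 4 by omega) (by omega) hwv hx)]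
      exact one_mem _) (hT2 6 (by omega)) hA1
  obtain ⟨s, -, hs⟩ := c.exists_level (j := 0) (by omega)
  obtain ⟨σ, t, ht, hσ⟩ : ∃ (σ : ℕ), ∃ t ∈ T 1, f s = s ^ σ * t := by
    obtain ⟨k, -, t, ht, hk⟩ := c.gen (j := 0) (by omega) (u := s) (by rw [c.zero]; exact Subgroup.mem_top s) hs
      (x := f s) (by rw [c.zero]; exact Subgroup.mem_top _)
    exact ⟨k, t, ht, hk⟩
  have hds : ∀ j, 1 ≤ j → j ≤ 3 → ∀ x ∈ T j, ⁅f s * (s ^ (σ : ℤ))⁻¹, x⁆ ∈ T (j + 2) := fun j hj hj' x hx => by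
    rw [hσ, zpow_natCast]
    exact C.kills hj (by omega) _ ((c.normal 1).conj_mem t ht _) x hx
  have hw4 := weight_step c hmul (j := 3) (by omega) (by omega) hz3 (hw3 z hz3) (hds 3 (by omega) le_rfl)
    (hT2 5 (by omega)) (moves c C.hT (by omega) (by omega) (C.kills (by omega) (by omega)) hs hz3 hz3')
  have hw2 := weight_step c hmul (j := 1) le_rfl (by omega) (h1 hv) hwv (hds 1 le_rfl (by omega))
    (hT2 3 (by omega)) (moves c C.hT le_rfl (by omega) (kills_one c) hs (h1 hv) hvT)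
  have hw3' := weight_step c hmul (j := 2) (by omega) (by omega) hu₂ (hw2 u₂ hu₂) (hds 2 (by omega) (by omega))
    (hT2 4 (by omega)) (moves c C.hT (by omega) (by omega) (kills_two c) hs hu₂ hu₂')
  have d1 := weight_unique c (by omega) hwA hwv5
  have d2 := weight_unique c (by omega) hw4 hm4
  have d3 := weight_unique c (by omega) hw3 hw3'
  obtain ⟨q1, hq1⟩ := d1
  obtain ⟨q2, hq2⟩ := d2
  have hσ1 : (p : ℤ) ∣ (σ : ℤ) - 1 := ⟨q1 + q2, by linear_combination hq1 + hq2⟩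
  obtain ⟨q3, hq3⟩ := d3
  obtain ⟨q4, hq4⟩ := hσ1
  have h2 : (p : ℤ) ∣ 2 := ⟨q3 - q4 * (σ + 1), by linear_combination hq3 - (σ + 1 : ℤ) * hq4⟩
  have := Int.le_of_dvd (by norm_num) h2
  omega

end Ctx

end CfsgLib.PearlFour
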