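import Cfsg.Agent.Fusion.EssentialPair
import Cfsg.Agent.Fusion.ChainStab
import Cfsg.Agent.H29.CubeEssential.Main
import Mathlib

/-!
Extending automorphisms of the system through iterated normalizers, inside the Sylow group.
-/

set_option autoImplicit false
set_option linter.style.haveILetI false

open Cfsg
open scoped commutatorElement

namespace CfsgLib.PearlFour

open Cfsg.FusionSystem CfsgLib.Fusion

variable {Ω : Type*} [Group Ω] {S : Subgroup Ω} [Finite S] {F : Cfsg.FusionSystem S}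
variable {p : ℕ} [hp : Fact p.Prime]

/-- A subgroup of `S` as a subgroup of the ambient group. -/
abbrev amb (H : Subgroup S) : Subgroup Ω := H.map S.subtype

theorem amb_le (H : Subgroup S) : amb H ≤ S := Subgroup.map_subtype_le H

theorem mem_amb {H : Subgroup S} {u : S} : (u : Ω) ∈ amb H ↔ u ∈ H :=
  ⟨fun ⟨v, hv, e⟩ => by rwa [show v = u from Subtype.ext e] at hv, fun h => ⟨u, h, rfl⟩⟩

theorem card_amb (H : Subgroup S) : Nat.card (amb H) = Nat.card H :=
  Subgroup.card_map_of_injective S.subtype_injective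

theorem amb_subgroupOf {E : Subgroup Ω} (hE : E ≤ S) : amb (E.subgroupOf S) = E :=
  Subgroup.map_subgroupOf_eq_of_le hE

theorem normalizerIn_amb (H : Subgroup S) :
    normalizerIn S (amb H) = amb (Subgroup.normalizer (H : Set S)) := by
  ext x
  constructor
  · rintro ⟨hxS, hx⟩
    refine ⟨⟨x, hxS⟩, Subgroup.mem_normalizer_iff.2 fun u => ?_, rfl⟩
    rw [← mem_amb, ← mem_amb (H := H) (u := _ * u * _)]
    exact (Subgroup.mem_normalizer_iff.1 hx) u
  · rintro ⟨g, hg, rfl⟩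
    refine ⟨g.2, Subgroup.mem_normalizer_iff.2 fun y => ⟨?_, ?_⟩⟩
    · rintro ⟨u, hu, rfl⟩
      exact ⟨g * u * g⁻¹, (Subgroup.mem_normalizer_iff.1 hg u).1 hu, rfl⟩
    · rintro ⟨u, hu, e⟩
      refine ⟨g⁻¹ * u * g, by
        simpa [mul_assoc] using (Subgroup.mem_normalizer_iff.1 (inv_mem hg) u).1 hu, ?_⟩
      show (g : Ω)⁻¹ * u * g = y
      rw [show (u : Ω) = g * y * (g : Ω)⁻¹ from e]; group

/-- `f` is an automorphism of `H` in the system. -/
def AutOn (F : Cfsg.FusionSystem S) (H : Subgroup S) (f : S → S) : Prop :=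
  ∃ γ : MulAut ↥(amb H), γ ∈ F.autGroup (amb H) ∧
    ∀ (u : S) (hu : u ∈ H), ((γ ⟨u, mem_amb.2 hu⟩ : amb H) : Ω) = f u

theorem AutOn.mem {H : Subgroup S} {f : S → S} (h : AutOn F H f) {u : S} (hu : u ∈ H) : f u ∈ H := by
  obtain ⟨γ, -, he⟩ := h
  rw [← mem_amb, ← he u hu]
  exact (γ _).2

theorem AutOn.mul {H : Subgroup S} {f : S → S} (h : AutOn F H f) {u v : S} (hu : u ∈ H) (hv : v ∈ H) :
    f (u * v) = f u * f v := by
  obtain ⟨γ, -, he⟩ := h
  apply Subtype.ext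
  rw [Subgroup.coe_mul, ← he u hu, ← he v hv, ← he _ (mul_mem hu hv), ← Subgroup.coe_mul, ← map_mul]
  rfl

theorem AutOn.one {H : Subgroup S} {f : S → S} (h : AutOn F H f) : f 1 = 1 := by
  have := h.mul H.one_mem H.one_mem
  rw [one_mul] at this
  exact left_eq_mul.1 this

theorem AutOn.inv {H : Subgroup S} {f : S → S} (h : AutOn F H f) {u : S} (hu : u ∈ H) : f u⁻¹ = (f u)⁻¹ := by
  refine eq_inv_of_mul_eq_one_left ?_
  rw [← h.mul (inv_mem hu) hu, inv_mul_cancel, h.one]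

theorem AutOn.pow {H : Subgroup S} {f : S → S} (h : AutOn F H f) {u : S} (hu : u ∈ H) :
    ∀ n : ℕ, f (u ^ n) = f u ^ n
  | 0 => by rw [pow_zero, pow_zero, h.one]
  | n + 1 => by rw [pow_succ, pow_succ, h.mul (pow_mem hu n) hu, h.pow hu n]

theorem AutOn.comm {H : Subgroup S} {f : S → S} (h : AutOn F H f) {u v : S} (hu : u ∈ H) (hv : v ∈ H) :
    f ⁅u, v⁆ = ⁅f u, f v⁆ := by
  simp only [commutatorElement_def]
  rw [h.mul (mul_mem (mul_mem hu hv) (inv_mem hu)) (inv_mem hv), h.mul (mul_mem hu hv) (inv_mem hu),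
    h.mul hu hv, h.inv hu, h.inv hv]

theorem AutOn.inj {H : Subgroup S} {f : S → S} (h : AutOn F H f) {u v : S} (hu : u ∈ H) (hv : v ∈ H)
    (he : f u = f v) : u = v := by
  obtain ⟨γ, -, hγ⟩ := h
  have : γ ⟨u, mem_amb.2 hu⟩ = γ ⟨v, mem_amb.2 hv⟩ := Subtype.ext (by rw [hγ u hu, hγ v hv, he])
  exact Subtype.ext (congrArg (fun z : ↥(amb H) => (z : Ω)) (γ.injective this))

/-- The image of a subgroup under an automorphism of the system is conjugate to it. -/
theorem AutOn.isConj {H K Y : Subgroup S} {f : S → S} (h : AutOn F H f) (hK : K ≤ H)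
    (hY : ∀ u ∈ K, f u ∈ Y) (hc : Nat.card Y ≤ Nat.card K) : F.IsConj (amb K) (amb Y) := by
  obtain ⟨γ, hγ, he⟩ := h
  have hKH : amb K ≤ amb H := Subgroup.map_mono hK
  have hφ := restrict ((mem_autGroup (amb_le H)).1 hγ) hKH
  refine ⟨_, hφ, ?_⟩
  haveI := finite_of_le (amb_le Y)
  apply Subgroup.eq_of_le_of_card_ge
  · rintro _ ⟨⟨x, u, hu, rfl⟩, rfl⟩
    exact ⟨f u, hY u hu, (he u (hK hu)).symm⟩
  · rw [card_amb]
    refine hc.trans ?_
    rw [← card_amb, Nat.card_congr (MonoidHom.ofInjective (F.injective_of_mem hφ)).toEquiv]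

/-- An automorphism normalising the automorphisms induced by `S` extends to the normalizer. -/
theorem extend_of_normalizes (hS : IsPGroup p S) (hF : F.IsSaturated p) (H : Subgroup S)
    (hn : F.IsFullyNormalized (amb H)) {f : S → S} (hf : AutOn F H f)
    (hnorm : ∀ γ : MulAut ↥(amb H), γ ∈ F.autGroup (amb H) →
      (∀ (u : S) (hu : u ∈ H), ((γ ⟨u, mem_amb.2 hu⟩ : amb H) : Ω) = f u) →
      ∀ β ∈ autInducedBy S (amb H), γ * β * γ⁻¹ ∈ autInducedBy S (amb H)) :
    ∃ f', AutOn F (Subgroup.normalizer (H : Set S)) f' ∧ ∀ u ∈ H, f' u = f u := by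
  classical
  haveI := finite_of_le (amb_le H)
  set P := amb H
  obtain ⟨γ, hγ, he⟩ := hf
  set φ : P →* Ω := P.subtype.comp γ.toMonoidHom with hφdef
  have hφ : φ ∈ F.Hom P := (mem_autGroup (amb_le H)).1 hγ
  have hφr : φ.range = P := by
    ext z
    exact ⟨by rintro ⟨x, rfl⟩; exact (γ x).2, fun hz => ⟨γ.symm ⟨z, hz⟩, by simp [hφdef]⟩⟩
  have hext : normalizerIn S P ≤ extender S P φ := by
    intro g hg
    have hmem : conjAut P S ⟨g, hg⟩ ∈ autInducedBy S P := range_conjAut S ▸ ⟨_, rfl⟩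
    obtain ⟨h, hh, hhx⟩ := mem_autInducedBy.1 (hnorm γ hγ he _ hmem)
    refine mem_extender.2 ⟨hg.1, hg.2, h, hh, fun x hx => ?_⟩
    have := hhx (γ x)
    simp only [MulAut.mul_apply, MulAut.inv_apply_self] at this
    exact this
  obtain ⟨ψ, hψ, hψe⟩ := (receptive_of_fullyNormalized hS hF hn).2 P φ hφ hφr
  have hψ' := restrict hψ hext
  set N := Subgroup.normalizer (H : Set S)
  have hNP : P ≤ extender S P φ := le_extender hφ
  have hNN : amb N = normalizerIn S P := (normalizerIn_amb H).symm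
  set ψN := ψ.comp (Subgroup.inclusion (hNN.le.trans hext)) with hψN
  have hψN' : ψN ∈ F.Hom (amb N) := restrict hψ (hNN.le.trans hext)
  have hinto : ∀ x, ψN x ∈ amb N := fun x => by
    refine hNN.ge ⟨val_mem hψN' x, ?_⟩
    have h3 := map_mem_normalizer (D := extender S P φ) (ψ := ψ) hNP
      (fun y => hψe y y.2 (hNP y.2)) ((hNN.le.trans hext) x.2) (hNN.le x.2).2
    rwa [hφr] at h3
  haveI := finite_of_le (amb_le N)
  have hbij : Function.Bijective (fun x : amb N => (⟨ψN x, hinto x⟩ : amb N)) :=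
    Finite.injective_iff_bijective.1 fun x y hxy => F.injective_of_mem hψN' (congrArg Subtype.val hxy)
  let β : MulAut (amb N) := MulEquiv.ofBijective (MonoidHom.codRestrict ψN (amb N) hinto) hbij
  refine ⟨fun v => if hv : v ∈ N then ⟨(β ⟨v, mem_amb.2 hv⟩ : amb N), amb_le N (β _).2⟩ else v,
    ⟨β, mem_autGroup_of_eq hψN' (fun x => rfl), fun v hv => by simp only [dif_pos hv]⟩, fun u hu => ?_⟩
  have huN : u ∈ N := Subgroup.le_normalizer hu
  simp only [dif_pos huN]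
  apply Subtype.ext
  show ψN ⟨u, mem_amb.2 huN⟩ = f u
  rw [← he u hu]
  exact hψe u (mem_amb.2 hu) _

/-- A chain with prime steps invariant under all automorphisms of the system makes each of them extend to the
normalizer. -/
theorem extend (hS : IsPGroup p S) (hF : F.IsSaturated p) (H : Subgroup S)
    (hn : F.IsFullyNormalized (amb H)) (L : ℕ → Subgroup S) (m : ℕ) (hL : Monotone L) (h0 : L 0 = ⊥)
    (hm : L m = H) (hstep : ∀ i < m, Nat.card (L (i + 1)) = p * Nat.card (L i))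
    (hinv : ∀ f, AutOn F H f → ∀ i < m, ∀ u ∈ L i, f u ∈ L i) {f : S → S} (hf : AutOn F H f) :
    ∃ f', AutOn F (Subgroup.normalizer (H : Set S)) f' ∧ ∀ u ∈ H, f' u = f u := by
  classical
  haveI := finite_of_le (amb_le H)
  haveI := finite_mulAut (amb_le H)
  set P := amb H
  set A := F.autGroup P
  let C : ℕ → Subgroup Ω := fun i => amb (L i)
  have hC : Monotone C := fun a b hab => Subgroup.map_mono (hL hab)
  have hpres : ∀ γ ∈ A, PreservesChain C γ := by
    intro γ hγ i x hx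
    obtain ⟨u, hu, e⟩ := hx
    rcases Nat.lt_or_ge i m with h | h
    · have huH : u ∈ H := hm ▸ hL h.le hu
      set g : S → S := fun v => if hv : v ∈ H then ⟨(γ ⟨v, mem_amb.2 hv⟩ : P), amb_le H (γ _).2⟩ else v
      have hg : AutOn F H g := ⟨γ, hγ, fun v hv => by simp only [g, dif_pos hv]⟩
      refine ⟨g u, hinv g hg i h u hu, ?_⟩
      show (g u : Ω) = _
      simp only [g, dif_pos huH]
      congr 2
      exact Subtype.ext e
    · exact Subgroup.map_mono (hm ▸ hL h : H ≤ L i) (γ x).2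
  obtain ⟨-, T, hT⟩ := fullyAutomized_of_fullyNormalized hS hF hn
  set D := (chainStab (P := P) C m hC).subgroupOf A
  have hC0 : C 0 = ⊥ := by show amb (L 0) = ⊥; rw [h0]; exact Subgroup.map_bot _
  have hCm : P ≤ C m := by show P ≤ amb (L m); rw [hm]
  have hDn : D.Normal := ⟨fun β hβ γ => by
    intro i hi x hx
    have hy := hpres _ (inv_mem γ.2) (i + 1) x hx
    have h1 := hpres _ γ.2 i _ ((mem_chainStab (hL := hC).1 hβ) i hi _ hy)
    simp only [map_mul, map_inv, MulAut.apply_inv_self] at h1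
    exact h1⟩
  have hDp : IsPGroup p D := (isPGroup_chainStab (hS.to_le (amb_le H)) hC hC0 hCm).comap_of_injective
    A.subtype A.subtype_injective
  have hTD : (T : Subgroup A) ≤ D := by
    intro γ hγ
    obtain ⟨k, hk⟩ := T.2 ⟨γ, hγ⟩
    have hk' : (γ : MulAut P) ^ p ^ k = 1 := congrArg (fun z : (T : Subgroup A) => ((z : A) : MulAut P)) hk
    intro i hi x hx
    have hpi : ∀ j (α : ℤ) (y : P), y ∈ (C j).subgroupOf P → ((γ : MulAut P) ^ α) y ∈ (C j).subgroupOf P :=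
      fun j α y hy => hpres _ (zpow_mem γ.2 α) j y hy
    have hcard : ∀ j ≤ m, Nat.card ((C j).subgroupOf P) = Nat.card (L j) := fun j hj => by
      rw [Nat.card_congr (Subgroup.subgroupOfEquivOfLe (Subgroup.map_mono (hm ▸ hL hj : L j ≤ H))).toEquiv]
      exact card_amb _
    exact CfsgLib.H29.CubeEssential.stab_factor (p := p) ((C i).subgroupOf P) ((C (i + 1)).subgroupOf P)
      (Subgroup.comap_mono (hC (Nat.le_succ i)))
      (by rw [hcard _ (Nat.succ_le_of_lt hi), hcard _ hi.le, hstep i hi]) _ hk' (hpi i) (hpi (i + 1)) hx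
  have hTn : (T : Subgroup A).Normal := by rw [← T.is_maximal' hDp hTD]; exact hDn
  refine extend_of_normalizes hS hF H hn hf fun γ hγ _ β hβ => ?_
  have hmem' : (⟨β, autInducedBy_le_autGroup (amb_le H) hβ⟩ : A) ∈ (T : Subgroup A) := by
    rw [hT]; exact Subgroup.mem_subgroupOf.2 hβ
  have h2 := hTn.conj_mem _ hmem' ⟨γ, hγ⟩
  rw [hT, Subgroup.mem_subgroupOf] at h2
  exact h2

/-- Few conjugates: a subgroup containing `E` has a small normalizer, as does each of its conjugates. -/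
theorem card_normalizer_conj {E P : Subgroup Ω} {Z : Subgroup Ω} (hEP : E ≤ P) (hZE : Z ≤ E)
    (hcent : F.IsCentric E) (hE : Nat.card E = p ^ 3) (hZ : Nat.card Z = p ^ 2) (hZc : ∀ z ∈ Z, ∀ u ∈ P, z * u = u * z)
    (hN : ∀ R, F.IsConj E R → Nat.card (normalizerIn S R) ≤ p ^ 4) {k : ℕ} (hP : Nat.card P = p ^ (k + 3))
    (hS : IsPGroup p S)
    {Q : Subgroup Ω} (hQ : F.IsConj P Q) : Nat.card (normalizerIn S Q) ≤ p * Nat.card P := by
  classical
  obtain ⟨φ, hφ, hφr⟩ := hQ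
  have hPS := le_of_hom hφ
  haveI := finite_of_le hPS
  have hinj := F.injective_of_mem hφ
  set E' := (E.subgroupOf P).map φ with hE'
  set Z' := (Z.subgroupOf P).map φ with hZ'
  have hEconj : F.IsConj E E' := ⟨_, restrict hφ hEP, range_restrict hEP⟩
  have hQS : Q ≤ S := hφr ▸ range_le hφ
  haveI := finite_of_le hQS
  have cE : Nat.card E' = p ^ 3 := by
    rw [hE', Subgroup.card_map_of_injective hinj, Nat.card_congr (Subgroup.subgroupOfEquivOfLe hEP).toEquiv, hE]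
  have cZ : Nat.card Z' = p ^ 2 := by
    rw [hZ', Subgroup.card_map_of_injective hinj, Nat.card_congr (Subgroup.subgroupOfEquivOfLe (hZE.trans hEP)).toEquiv, hZ]
  have hZE' : Z' ≤ E' := Subgroup.map_mono (Subgroup.comap_mono hZE)
  have hE'Q : E' ≤ Q := by rintro _ ⟨u, -, rfl⟩; exact hφr ▸ ⟨u, rfl⟩
  have hZQ : ∀ z ∈ Z', ∀ u ∈ Q, z * u = u * z := by
    rintro _ ⟨z, hz, rfl⟩ u hu
    rw [← hφr] at hu
    obtain ⟨v, rfl⟩ := hu
    rw [← map_mul, ← map_mul]
    exact congrArg φ (Subtype.ext (hZc _ hz _ v.2))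
  set N := normalizerIn S Q
  haveI := finite_normalizerIn (S := S) Q
  set K := (Subgroup.normalizer (E' : Set Ω)).subgroupOf N with hK
  have hKc : Nat.card K ≤ p ^ 4 := by
    refine le_trans ?_ (hN E' hEconj)
    haveI := finite_normalizerIn (S := S) E'
    exact Nat.card_le_card_of_injective (fun g : K => (⟨((g : N) : Ω), ⟨(g : N).2.1, g.2⟩⟩ : normalizerIn S E'))
      fun a b hab => Subtype.ext (Subtype.ext (congrArg (fun z : normalizerIn S E' => (z : Ω)) hab))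
  let im : N → Subgroup Ω := fun g => E'.map (MulAut.conj (g : Ω)).toMonoidHom
  have himS : ∀ g : N, F.IsConj E (im g) := fun g => by
    refine CfsgLib.Fusion.IsConj.trans hEconj ⟨(MulAut.conj (g : Ω)).toMonoidHom.comp E'.subtype,
      conj_of_eq (hE'Q.trans hQS) g.2.1 (fun x => rfl), ?_⟩
    rw [MonoidHom.range_comp, Subgroup.range_subtype]
  have hmemQ : ∀ (g : N) (u : Ω), u ∈ Q → (g : Ω) * u * (g : Ω)⁻¹ ∈ Q :=
    fun g u hu => conj_mem_of_normalizer g.2.2 hu
  have hZim : ∀ g : N, Z' ≤ im g := fun g z hz => by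
    refine (hcent.2 _ (himS g)) ⟨hQS (hE'Q (hZE' hz)), ?_⟩
    refine Subgroup.mem_centralizer_iff.2 ?_
    rintro _ ⟨u, hu, rfl⟩
    exact (hZQ z hz _ (hmemQ g u (hE'Q hu))).symm
  rcases Nat.eq_zero_or_pos k with rfl | hk
  · have hQE : Q = E' := (Subgroup.eq_of_le_of_card_ge hE'Q (by
      rw [cE, ← CfsgLib.Fusion.IsConj.card_eq (F := F) (P := P) (Q := Q) ⟨φ, hφ, hφr⟩, hP])).symm
    refine (hN Q (hQE ▸ hEconj)).trans (le_of_eq ?_)
    rw [hP, ← pow_succ']
  haveI : Finite E' := finite_of_le (hE'Q.trans hQS)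
  have hQc : Nat.card Q = p ^ (k + 3) := by rw [← hP, CfsgLib.Fusion.IsConj.card_eq (F := F) (P := P) (Q := Q) ⟨φ, hφ, hφr⟩]
  have hcore : ∀ e ∈ E', (∀ u ∈ Q, e * u = u * e) → e ∈ Z' := by
    intro e he hec
    by_contra heZ
    have hgen : Z' ⊔ Subgroup.zpowers e = E' := by
      refine Subgroup.eq_of_le_of_card_ge (sup_le hZE' (Subgroup.zpowers_le.2 he)) ?_
      haveI : Finite ↥(Z' ⊔ Subgroup.zpowers e) := finite_of_le ((sup_le hZE' (Subgroup.zpowers_le.2 he)).trans (hE'Q.trans hQS))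
      obtain ⟨d, hd⟩ := IsPGroup.iff_card.1 (hS.to_le ((sup_le hZE' (Subgroup.zpowers_le.2 he)).trans (hE'Q.trans hQS)))
      have hlt : Nat.card Z' < Nat.card ↥(Z' ⊔ Subgroup.zpowers e) := lt_of_le_of_ne (Subgroup.card_le_of_le le_sup_left)
        fun h => heZ ((Subgroup.eq_of_le_of_card_ge le_sup_left h.ge).ge (Subgroup.mem_sup_right (Subgroup.mem_zpowers e)))
      rw [cZ, hd, Nat.pow_lt_pow_iff_right hp.out.one_lt] at hlt
      rw [cE, hd]
      exact Nat.pow_le_pow_right hp.out.pos hlt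
    have hQE : Q ≤ E' := fun u hu => by
      refine hcent.2 _ hEconj ⟨hQS hu, Subgroup.mem_centralizer_iff.2 fun v hv => ?_⟩
      rw [← hgen] at hv
      have hle : Z' ⊔ Subgroup.zpowers e ≤ Subgroup.centralizer {u} := sup_le
        (fun z hz => Subgroup.mem_centralizer_singleton_iff.2 (hZQ z hz u hu))
        (Subgroup.zpowers_le.2 (Subgroup.mem_centralizer_singleton_iff.2 (hec u hu)))
      exact Subgroup.mem_centralizer_singleton_iff.1 (hle hv)
    have := Subgroup.card_le_of_le hQE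
    rw [hQc, cE, Nat.pow_le_pow_iff_right hp.out.one_lt] at this
    omega
  let V := {q : Q // q ∉ Z'.subgroupOf Q}
  let W := {e : E' // e ∉ Z'.subgroupOf E'}
  let ι : (N ⧸ K) × W → V := fun x => ⟨⟨(x.1.out : Ω) * x.2.1 * (x.1.out : Ω)⁻¹, hmemQ _ _ (hE'Q x.2.1.2)⟩, fun h => by
    refine x.2.2 (hcore _ x.2.1.2 fun u hu => ?_)
    have h2 := hZQ _ h _ (hmemQ x.1.out u hu)
    have h3 : (x.1.out : Ω) * ((x.2.1 : Ω) * u) * (x.1.out : Ω)⁻¹ = (x.1.out : Ω) * (u * x.2.1) * (x.1.out : Ω)⁻¹ := by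
      calc _ = (x.1.out : Ω) * x.2.1 * (x.1.out : Ω)⁻¹ * ((x.1.out : Ω) * u * (x.1.out : Ω)⁻¹) := by group
        _ = (x.1.out : Ω) * u * (x.1.out : Ω)⁻¹ * ((x.1.out : Ω) * x.2.1 * (x.1.out : Ω)⁻¹) := h2
        _ = _ := by group
    exact mul_left_cancel (mul_right_cancel h3)⟩
  have hι : Function.Injective ι := by
    rintro ⟨c₁, e₁⟩ ⟨c₂, e₂⟩ h
    have hv : (c₁.out : Ω) * e₁.1 * (c₁.out : Ω)⁻¹ = (c₂.out : Ω) * e₂.1 * (c₂.out : Ω)⁻¹ :=
      congrArg (fun v : V => ((v.1 : Q) : Ω)) h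
    set v := (c₁.out : Ω) * e₁.1 * (c₁.out : Ω)⁻¹ with hvd
    have hvZ : v ∉ Z' := (ι (c₁, e₁)).2
    have key : ∀ g : N, v ∈ im g → im g = Z' ⊔ Subgroup.zpowers v := by
      intro g hg
      have hle : Z' ⊔ Subgroup.zpowers v ≤ im g := sup_le (hZim g) (Subgroup.zpowers_le.2 hg)
      have himS' : im g ≤ S := CfsgLib.Fusion.IsConj.le_right (himS g)
      haveI : Finite (im g) := finite_of_le himS'
      haveI : Finite ↥(Z' ⊔ Subgroup.zpowers v) := finite_of_le (hle.trans himS')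
      refine (Subgroup.eq_of_le_of_card_ge hle ?_).symm
      obtain ⟨d, hd⟩ := IsPGroup.iff_card.1 (hS.to_le (hle.trans himS'))
      have hlt : Nat.card Z' < Nat.card ↥(Z' ⊔ Subgroup.zpowers v) := lt_of_le_of_ne (Subgroup.card_le_of_le le_sup_left)
        fun h => hvZ ((Subgroup.eq_of_le_of_card_ge le_sup_left h.ge).ge (Subgroup.mem_sup_right (Subgroup.mem_zpowers v)))
      rw [cZ, hd, Nat.pow_lt_pow_iff_right hp.out.one_lt] at hlt
      rw [← CfsgLib.Fusion.IsConj.card_eq (himS g), hE, hd]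
      exact Nat.pow_le_pow_right hp.out.pos hlt
    have e1 := key c₁.out ⟨_, e₁.1.2, rfl⟩
    have e2 := key c₂.out ⟨_, e₂.1.2, hv.symm⟩
    have hKm : c₁.out⁻¹ * c₂.out ∈ K := by
      show ((c₁.out⁻¹ * c₂.out : N) : Ω) ∈ Subgroup.normalizer (E' : Set Ω)
      rw [Subgroup.mem_normalizer_iff]
      intro u
      have h12 := e1.trans e2.symm
      constructor
      · intro hu
        have : (c₂.out : Ω) * u * (c₂.out : Ω)⁻¹ ∈ im c₁.out := h12 ▸ ⟨u, hu, rfl⟩
        obtain ⟨u', hu', he'⟩ := this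
        suffices hh : ((c₁.out⁻¹ * c₂.out : N) : Ω) * u * ((c₁.out⁻¹ * c₂.out : N) : Ω)⁻¹ = u' by
          rw [hh]; exact hu'
        have he'' : (c₁.out : Ω) * u' * (c₁.out : Ω)⁻¹ = (c₂.out : Ω) * u * (c₂.out : Ω)⁻¹ := he'
        push_cast
        calc ((c₁.out : Ω))⁻¹ * c₂.out * u * (((c₁.out : Ω))⁻¹ * c₂.out)⁻¹
            = ((c₁.out : Ω))⁻¹ * ((c₂.out : Ω) * u * (c₂.out : Ω)⁻¹) * c₁.out := by group
          _ = u' := by rw [← he'']; group
      · intro hu
        have : (c₁.out : Ω) * (((c₁.out⁻¹ * c₂.out : N) : Ω) * u * ((c₁.out⁻¹ * c₂.out : N) : Ω)⁻¹) * (c₁.out : Ω)⁻¹ ∈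
            im c₂.out := h12 ▸ ⟨_, hu, rfl⟩
        obtain ⟨u', hu', he'⟩ := this
        suffices hh : u = u' by rw [hh]; exact hu'
        have he'' : (c₂.out : Ω) * u' * (c₂.out : Ω)⁻¹ = (c₁.out : Ω) *
          (((c₁.out⁻¹ * c₂.out : N) : Ω) * u * ((c₁.out⁻¹ * c₂.out : N) : Ω)⁻¹) * (c₁.out : Ω)⁻¹ := he'
        push_cast at he''
        calc u = (c₂.out : Ω)⁻¹ * ((c₁.out : Ω) * ((c₁.out : Ω)⁻¹ * c₂.out * u *
              ((c₁.out : Ω)⁻¹ * c₂.out)⁻¹) * (c₁.out : Ω)⁻¹) * c₂.out := by group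
          _ = u' := by rw [← he'']; group
    have hc : c₁ = c₂ := by
      rw [← QuotientGroup.out_eq' c₁, ← QuotientGroup.out_eq' c₂]
      exact QuotientGroup.eq.2 hKm
    subst hc
    refine Prod.ext rfl (Subtype.ext (Subtype.ext ?_))
    exact mul_left_cancel (mul_right_cancel hv)
  have hcount := Nat.card_le_card_of_injective ι hι
  rw [Nat.card_prod] at hcount
  have hsub : ∀ {R : Subgroup Ω} [Finite R], Z' ≤ R → Nat.card {e : R // e ∉ Z'.subgroupOf R} + p ^ 2 = Nat.card R := by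
    intro R _ hle
    have h1 := Nat.card_congr (Equiv.sumCompl (fun e : R => e ∈ Z'.subgroupOf R))
    rw [Nat.card_sum, Nat.card_congr (Subgroup.subgroupOfEquivOfLe hle).toEquiv, cZ] at h1
    rw [← h1, add_comm]
  have hW : Nat.card W + p ^ 2 = p ^ 3 := (hsub hZE').trans cE
  have hV : Nat.card V + p ^ 2 = p ^ (k + 3) := (hsub (hZE'.trans hE'Q)).trans hQc
  have hidx : Nat.card (N ⧸ K) * Nat.card K = Nat.card N := (Subgroup.card_eq_card_quotient_mul_card_subgroup K).symm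
  haveI : Finite ↥(S ⊓ Subgroup.normalizer (Q : Set Ω)) := finite_normalizerIn (S := S) Q
  obtain ⟨d, hd⟩ := IsPGroup.iff_card.1 (hS.to_le (inf_le_left : N ≤ S))
  obtain ⟨r, -, hr⟩ := (Nat.dvd_prime_pow hp.out).1 (hd ▸ hidx ▸ Dvd.intro _ rfl : Nat.card (N ⧸ K) ∣ p ^ d)
  have hrk : r ≤ k := by
    by_contra hlt
    have h1 : p ^ (k + 1) ≤ p ^ r := Nat.pow_le_pow_right hp.out.pos (by omega)
    rw [hr] at hcount
    have h2 := Nat.mul_le_mul_right (Nat.card W) h1
    have h3 : 2 * p ^ 2 ≤ p ^ 3 := by rw [pow_succ _ 2, mul_comm]; exact Nat.mul_le_mul_left _ hp.out.two_le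
    have h4 : p ^ 2 ≤ Nat.card W := by omega
    have h5 : p ^ (k + 1) * p ^ 2 ≤ p ^ (k + 1) * Nat.card W := Nat.mul_le_mul_left _ h4
    rw [← pow_add] at h5
    have : p ^ (k + 3) ≤ Nat.card V := by
      calc p ^ (k + 3) = p ^ (k + 1 + 2) := by ring_nf
        _ ≤ _ := h5.trans (h2.trans hcount)
    have h6 : 0 < p ^ 2 := pow_pos hp.out.pos 2
    omega
  calc Nat.card N = Nat.card (N ⧸ K) * Nat.card K := hidx.symm
    _ ≤ p ^ k * p ^ 4 := by rw [hr]; exact Nat.mul_le_mul (Nat.pow_le_pow_right hp.out.pos hrk) hKc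
    _ = p * Nat.card P := by rw [hP, ← pow_add, ← pow_succ']

end CfsgLib.PearlFour
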