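import Cfsg.Agent.PearlFour.Sep
import Mathlib

/-!
Configurations excluded by strong embedding.
-/

set_option autoImplicit false
set_option linter.style.haveILetI false

open Cfsg

namespace CfsgLib.PearlFour

open Cfsg.FusionSystem CfsgLib.Fusion

variable {Ω : Type*} [Group Ω] {S : Subgroup Ω} [Finite S] {F : Cfsg.FusionSystem S} {E : Subgroup Ω}
variable {p : ℕ} [hp : Fact p.Prime]

/-- The automorphism `c_g` of an element normalising `E`. -/
theorem commute_conj_moved {t q : MulAut E} (h : ∀ e, t (q e) = q (t e)) : Commute t q := MulEquiv.ext h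

theorem axis_pow_p (hexp : ∀ e : E, e ^ p = 1) {t : MulAut E} (h : ∀ e : E, t ((e)⁻¹ * t e) = e⁻¹ * t e) :
    t ^ p = 1 := by
  refine MulEquiv.ext fun e => ?_
  have key : ∀ m : ℕ, (t ^ m) e = e * (e⁻¹ * t e) ^ m := by
    intro m
    induction m with
    | zero => simp
    | succ m ih => rw [pow_succ', MulAut.mul_apply, ih, map_mul, map_pow, h, pow_succ', ← mul_assoc,
        mul_inv_cancel_left]
  rw [key, hexp, mul_one]
  rfl

/-- A second elation with the axis of `x`. -/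
theorem axis_false (hab : ∀ x y : E, x * y = y * x) (hexp : ∀ e : E, e ^ p = 1) {H : Subgroup (MulAut E)}
    (hH : Core F p E H) (hxS : E ≤ S) {x : MulAut E} (hx : x ∈ autInducedBy S E) (hx1 : x ≠ 1) {a : E}
    (hxa : x a = a) (hxe : ∀ e, ∃ r : ℕ, x e = e * a ^ r) {t : MulAut E} (htA : t ∈ F.autGroup E)
    (ht1 : ∀ e, x e = e → t e = e) (ht2 : ∀ e, x (e⁻¹ * t e) = e⁻¹ * t e)
    (ht3 : ∃ e, ∀ r : ℕ, t e ≠ e * a ^ r) : False := by
  have hlc : ∀ u v r : E, u * (v * r) = v * (u * r) := fun u v r => by rw [← mul_assoc, hab u v, mul_assoc]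
  letI : CommGroup E := { (inferInstance : Group E) with mul_comm := hab }
  obtain ⟨b, k, s, w, y, o, g, hg, hy, hgH⟩ := exists_opp hab hexp hH hxS hx hx1 hxa hxe
  have hxp := transvection_pow_p hexp hxa hxe
  have hxH := hH.ofS hx
  have hxA := o.xA
  obtain ⟨i, l, z, hd, hz1, hz2⟩ := o.decomp (b⁻¹ * t b)
  have hl : b ^ l = 1 := by
    have h := ht2 b
    rw [hd, map_mul, map_mul, map_pow, map_pow, o.xa, o.xb, hz1, mul_pow, ← pow_mul] at h
    have h2 : a ^ (k * l) = 1 := by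
      have := mul_right_cancel h
      rwa [← mul_assoc, mul_eq_left] at this
    by_cases hl0 : p ∣ l
    · exact pow_dvd_one hexp b (Nat.mod_eq_zero_of_dvd hl0)
    · have ha := eq_one_of_pow hexp (hp.out.not_dvd_mul o.kne hl0) h2
      exact absurd (MulEquiv.ext fun e => by obtain ⟨r, hr⟩ := hxe e; rw [hr, ha, one_pow, mul_one]; rfl) hx1
  rw [hl, mul_one] at hd
  have htb : t b = b * (a ^ i * z) := by rw [← hd, mul_inv_cancel_left]
  have hz : z ≠ 1 := by
    intro h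
    obtain ⟨e, he⟩ := ht3
    obtain ⟨i', l', z', hde, h1, h2⟩ := o.decomp e
    refine he (i * l') ?_
    rw [hde, map_mul, map_mul, map_pow, map_pow, ht1 a o.xa, htb, ht1 z' h1, h, mul_one, mul_pow, ← pow_mul]
    simp only [mul_assoc, hab, hlc]
  obtain ⟨q, hq⟩ := exists_coeff (p := p) (k := k) o.kne i
  set t' := x ^ q * t with ht'
  have hxq : ∀ e, x e = e → (x ^ q) e = e := fun e he => by
    rw [pow_transvection hxa (show x e = e * a ^ 0 by rw [he, pow_zero, mul_one]) q, zero_mul, pow_zero, mul_one]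
  have t'fix : ∀ e, x e = e → t' e = e := fun e he => by
    show (x ^ q) (t e) = e
    rw [ht1 e he, hxq e he]
  have t'b : t' b = b * z := by
    show (x ^ q) (t b) = _
    rw [htb, map_mul, map_mul, map_pow, pow_transvection hxa o.xb q, hxq a o.xa, hxq z hz1, mul_assoc b,
      ← mul_assoc (a ^ (k * q)), ← pow_add, pow_dvd_one hexp a (show (k * q + i) % p = 0 by rw [add_comm]; exact hq),
      one_mul]
  have t'form : ∀ e, ∃ r : ℕ, t' e = e * z ^ r := fun e => by
    obtain ⟨i', l', z', hde, h1, h2⟩ := o.decomp e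
    refine ⟨l', ?_⟩
    rw [hde, map_mul, map_mul, map_pow, map_pow, t'fix a o.xa, t'b, t'fix z' h1, mul_pow]
    simp only [mul_assoc, hab, hlc]
  have t'p := transvection_pow_p hexp (t'fix z hz1) t'form
  have t'A : t' ∈ F.autGroup E := mul_mem (pow_mem hxA q) htA
  have t'1 : t' ≠ 1 := fun h => hz (by rw [h] at t'b; simpa using t'b.symm)
  have hc1 : Commute x t' := MulEquiv.ext fun e => by
    obtain ⟨r, hr⟩ := hxe e
    obtain ⟨m, hm⟩ := t'form e
    show x (t' e) = t' (x e)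
    rw [hm, hr, map_mul, map_mul, map_pow, map_pow, hr, hm, hz1, t'fix a o.xa]
    simp only [mul_assoc, hab, hlc]
  obtain ⟨j, hj, hsa⟩ := o.sa
  set t2 := s * t' * s⁻¹ with ht2d
  have t2s : ∀ e, t2 (s e) = s (t' e) := fun e => by
    show s (t' (s⁻¹ (s e))) = _
    rw [MulAut.inv_apply_self]
  have t'z' : ∀ c, x c = c → y c = c → t' c = c ∧ t2 c = c := fun c h1 h2 => ⟨t'fix c h1, by
    have := t2s c
    rwa [t'fix c h1, o.sfix c h1 h2] at this⟩
  have t2b : t2 b = b := by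
    obtain ⟨d, hd'⟩ := exists_coeff (p := p) (k := j) hj (p - 1)
    have hb : b = s (a ^ d) := by
      rw [map_pow, hsa, ← pow_mul]
      obtain ⟨c, hc⟩ := Nat.dvd_of_mod_eq_zero hd'
      refine mul_left_cancel (a := b ^ (p - 1)) ?_
      rw [← pow_add, hc, pow_mul, hexp, one_pow, ← pow_succ, Nat.sub_add_cancel hp.out.one_lt.le, hexp]
    rw [hb, t2s, map_pow t', t'fix a o.xa]
  have t2a : ∃ m : ℕ, t2 a = a * z ^ m := by
    obtain ⟨d, hd'⟩ := exists_coeff (p := p) (k := k) o.kne (p - 1)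
    have ha : a = s (b ^ d) := by
      rw [map_pow, o.sb, ← pow_mul]
      obtain ⟨c, hc⟩ := Nat.dvd_of_mod_eq_zero hd'
      refine mul_left_cancel (a := a ^ (p - 1)) ?_
      rw [← pow_add, hc, pow_mul, hexp, one_pow, ← pow_succ, Nat.sub_add_cancel hp.out.one_lt.le, hexp]
    refine ⟨d, ?_⟩
    conv_lhs => rw [ha, t2s, map_pow t', t'b, mul_pow, map_mul, ← ha, map_pow, o.sfix z hz1 hz2]
  obtain ⟨m, t2a⟩ := t2a
  have hc2 : Commute t' t2 := MulEquiv.ext fun e => by
    obtain ⟨i', l', z', hde, h1, h2⟩ := o.decomp e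
    show t' (t2 e) = t2 (t' e)
    simp only [hde, map_mul, map_pow, t2a, t2b, (t'z' z' h1 h2).2, t'fix a o.xa, t'b, t'fix z' h1,
      t'fix z hz1, (t'z' z hz1 hz2).2, mul_pow, ← pow_mul]
  have hs : s ∈ F.autGroup E := o.sA
  have t2A : t2 ∈ F.autGroup E := mul_mem (mul_mem hs t'A) (inv_mem hs)
  have t2p : t2 ^ p = 1 := by rw [ht2d, conj_pow, t'p, mul_one, mul_inv_cancel]
  have t'H := hH.reach x t' hxA t'A hxH hx1 hxp t'p hc1
  have t2H := hH.reach t' t2 t'A t2A t'H t'1 t'p t2p hc2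
  have t21 : t2 ≠ 1 := fun h => t'1 (by
    rw [ht2d, mul_inv_eq_one] at h
    exact mul_left_cancel (h.trans (mul_one s).symm))
  have hx2A : s * x * s⁻¹ ∈ F.autGroup E := mul_mem (mul_mem hs hxA) (inv_mem hs)
  have hx2H : s * x * s⁻¹ ∈ H := hH.reach t2 _ t2A hx2A t2H t21 t2p
    (by rw [conj_pow, hxp, mul_one, mul_inv_cancel]) (by
      show t2 * _ = _ * t2
      rw [ht2d]
      calc s * t' * s⁻¹ * (s * x * s⁻¹) = s * (t' * x) * s⁻¹ := by group
        _ = s * (x * t') * s⁻¹ := by rw [hc1.eq]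
        _ = _ := by group)
  exact hgH (hH.back x g hx hx1 hxp hg (hy ▸ o.s_y H hxH (hH.back x s hx hx1 hxp hs hx2H)))

/-- A second elation with the centre of `x`. -/
theorem centre_false (hab : ∀ x y : E, x * y = y * x) (hexp : ∀ e : E, e ^ p = 1) {H : Subgroup (MulAut E)}
    (hH : Core F p E H) (hxS : E ≤ S) {x : MulAut E} (hx : x ∈ autInducedBy S E) (hx1 : x ≠ 1) {a : E}
    (hxa : x a = a) (hxe : ∀ e, ∃ r : ℕ, x e = e * a ^ r) {t : MulAut E} (htA : t ∈ F.autGroup E)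
    (hta : t a = a) (hte : ∀ e, ∃ r : ℕ, t e = e * a ^ r) (ht3 : ∃ e, x e = e ∧ t e ≠ e) : False := by
  have hlc : ∀ u v r : E, u * (v * r) = v * (u * r) := fun u v r => by rw [← mul_assoc, hab u v, mul_assoc]
  letI : CommGroup E := { (inferInstance : Group E) with mul_comm := hab }
  obtain ⟨b, k, s, w, y, o, g, hg, hy, hgH⟩ := exists_opp hab hexp hH hxS hx hx1 hxa hxe
  have hxp := transvection_pow_p hexp hxa hxe
  have hxH := hH.ofS hx
  have hxA := o.xA
  obtain ⟨i, hi⟩ := hte b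
  obtain ⟨q, hq⟩ := exists_coeff (p := p) (k := k) o.kne i
  set t' := x ^ q * t with ht'
  have hxq : ∀ e, x e = e → (x ^ q) e = e := fun e he => by
    rw [pow_transvection hxa (show x e = e * a ^ 0 by rw [he, pow_zero, mul_one]) q, zero_mul, pow_zero, mul_one]
  have t'a : t' a = a := by show (x ^ q) (t a) = a; rw [hta, hxq a hxa]
  have t'b : t' b = b := by
    show (x ^ q) (t b) = b
    rw [hi, map_mul, map_pow, pow_transvection hxa o.xb q, hxq a hxa, mul_assoc, ← pow_add,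
      pow_dvd_one hexp a (show (k * q + i) % p = 0 by rw [add_comm]; exact hq), mul_one]
  have t'form : ∀ e, ∃ r : ℕ, t' e = e * a ^ r := fun e => by
    obtain ⟨r, hr⟩ := hte e
    obtain ⟨r', hr'⟩ := hxe e
    refine ⟨r' * q + r, ?_⟩
    show (x ^ q) (t e) = _
    rw [hr, map_mul, map_pow, hxq a hxa, pow_transvection hxa hr' q, mul_assoc, ← pow_add]
  have t'p := transvection_pow_p hexp t'a t'form
  have t'A : t' ∈ F.autGroup E := mul_mem (pow_mem hxA q) htA
  have t'1 : t' ≠ 1 := by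
    intro h
    obtain ⟨e, he1, he2⟩ := ht3
    obtain ⟨r, hr⟩ := hte e
    apply he2
    have : (x ^ q) (t e) = e := by show t' e = e; rw [h]; rfl
    rw [hr, map_mul, map_pow, hxq a hxa, hxq e he1] at this
    rw [hr, this]
  have hc1 : Commute x t' := MulEquiv.ext fun e => by
    obtain ⟨r, hr⟩ := hxe e
    obtain ⟨m, hm⟩ := t'form e
    show x (t' e) = t' (x e)
    rw [hm, hr, map_mul, map_mul, map_pow, map_pow, hr, hm, hxa, t'a]
    simp only [mul_assoc, hab, hlc]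
  obtain ⟨j, hj, hsa⟩ := o.sa
  set t2 := s * t' * s⁻¹ with ht2d
  have t2s : ∀ e, t2 (s e) = s (t' e) := fun e => by
    show s (t' (s⁻¹ (s e))) = _
    rw [MulAut.inv_apply_self]
  have t2b : t2 b = b := by
    obtain ⟨d, hd'⟩ := exists_coeff (p := p) (k := j) hj (p - 1)
    have hb : b = s (a ^ d) := by
      rw [map_pow, hsa, ← pow_mul]
      obtain ⟨c, hc⟩ := Nat.dvd_of_mod_eq_zero hd'
      refine mul_left_cancel (a := b ^ (p - 1)) ?_
      rw [← pow_add, hc, pow_mul, hexp, one_pow, ← pow_succ, Nat.sub_add_cancel hp.out.one_lt.le, hexp]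
    rw [hb, t2s, map_pow t', t'a]
  have t2a : t2 a = a := by
    obtain ⟨d, hd'⟩ := exists_coeff (p := p) (k := k) o.kne (p - 1)
    have ha : a = s (b ^ d) := by
      rw [map_pow, o.sb, ← pow_mul]
      obtain ⟨c, hc⟩ := Nat.dvd_of_mod_eq_zero hd'
      refine mul_left_cancel (a := a ^ (p - 1)) ?_
      rw [← pow_add, hc, pow_mul, hexp, one_pow, ← pow_succ, Nat.sub_add_cancel hp.out.one_lt.le, hexp]
    conv_lhs => rw [ha, t2s, map_pow t', t'b, ← ha]
  have t2z : ∀ c, x c = c → y c = c → ∃ r : ℕ, t2 c = c * (b ^ j) ^ r := fun c h1 h2 => by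
    obtain ⟨r, hr⟩ := t'form c
    refine ⟨r, ?_⟩
    have := t2s c
    rwa [hr, map_mul, map_pow, hsa, o.sfix c h1 h2] at this
  have hc2 : Commute t' t2 := MulEquiv.ext fun e => by
    obtain ⟨i', l', z', hde, h1, h2⟩ := o.decomp e
    obtain ⟨r, hr⟩ := t'form z'
    obtain ⟨r', hr'⟩ := t2z z' h1 h2
    show t' (t2 e) = t2 (t' e)
    simp only [hde, map_mul, map_pow, t2a, t2b, t'a, t'b, hr, hr']
    simp only [mul_assoc, hab, hlc]
  have hs : s ∈ F.autGroup E := o.sA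
  have t2A : t2 ∈ F.autGroup E := mul_mem (mul_mem hs t'A) (inv_mem hs)
  have t2p : t2 ^ p = 1 := by rw [ht2d, conj_pow, t'p, mul_one, mul_inv_cancel]
  have t'H := hH.reach x t' hxA t'A hxH hx1 hxp t'p hc1
  have t2H := hH.reach t' t2 t'A t2A t'H t'1 t'p t2p hc2
  have t21 : t2 ≠ 1 := fun h => t'1 (by
    rw [ht2d, mul_inv_eq_one] at h
    exact mul_left_cancel (h.trans (mul_one s).symm))
  have hx2A : s * x * s⁻¹ ∈ F.autGroup E := mul_mem (mul_mem hs hxA) (inv_mem hs)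
  have hx2H : s * x * s⁻¹ ∈ H := hH.reach t2 _ t2A hx2A t2H t21 t2p
    (by rw [conj_pow, hxp, mul_one, mul_inv_cancel]) (by
      show t2 * _ = _ * t2
      rw [ht2d]
      calc s * t' * s⁻¹ * (s * x * s⁻¹) = s * (t' * x) * s⁻¹ := by group
        _ = s * (x * t') * s⁻¹ := by rw [hc1.eq]
        _ = _ := by group)
  exact hgH (hH.back x g hx hx1 hxp hg (hy ▸ o.s_y H hxH (hH.back x s hx hx1 hxp hs hx2H)))

/-- A `p`-element fixing the axis setwise but not pointwise, moving off the centre. -/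
theorem regular_false (hab : ∀ x y : E, x * y = y * x) (hexp : ∀ e : E, e ^ p = 1) {H : Subgroup (MulAut E)}
    (hH : Core F p E H) (hxS : E ≤ S) {x : MulAut E} (hx : x ∈ autInducedBy S E) (hx1 : x ≠ 1) {a : E}
    (hxa : x a = a) (hxe : ∀ e, ∃ r : ℕ, x e = e * a ^ r) {t : MulAut E} (htA : t ∈ F.autGroup E)
    (hta : t a = a) (ht1 : ∀ e, x e = e → ∃ r : ℕ, t e = e * a ^ r) (ht2 : ∀ e, x (e⁻¹ * t e) = e⁻¹ * t e)
    (ht3 : ∃ e, ∀ r : ℕ, t e ≠ e * a ^ r) (ht4 : ∃ e, x e = e ∧ t e ≠ e)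
    {c₀ : E} (hfix : ∀ e, x e = e → ∃ i m : ℕ, e = a ^ i * c₀ ^ m) : False := by
  have hlc : ∀ u v r : E, u * (v * r) = v * (u * r) := fun u v r => by rw [← mul_assoc, hab u v, mul_assoc]
  letI : CommGroup E := { (inferInstance : Group E) with mul_comm := hab }
  obtain ⟨b, k, s, w, y, o, g, hg, hy, hgH⟩ := exists_opp hab hexp hH hxS hx hx1 hxa hxe
  have hxA := o.xA
  obtain ⟨j, hj, hsa⟩ := o.sa
  have ha1 : a ≠ 1 := fun h => hx1 (MulEquiv.ext fun e => by
    obtain ⟨r, hr⟩ := hxe e; rw [hr, h, one_pow, mul_one]; rfl)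
  have hak : ∀ {r : ℕ}, a ^ r = 1 → p ∣ r := fun {r} h => by
    by_contra hr; exact ha1 (eq_one_of_pow hexp hr h)
  have hbf : ∀ l : ℕ, x (b ^ l) = b ^ l → b ^ l = 1 := fun l h => by
    rw [map_pow, o.xb, mul_pow, ← pow_mul, mul_eq_left] at h
    exact pow_dvd_one hexp b (Nat.mod_eq_zero_of_dvd (((hp.out.dvd_mul).1 (hak h)).resolve_left o.kne))
  -- the displacement of `b`
  obtain ⟨i₀, l₀, z₀, hd, hz1, hz2⟩ := o.decomp (b⁻¹ * t b)
  have hl₀ : b ^ l₀ = 1 := hbf l₀ (by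
    have h := ht2 b
    rw [hd, map_mul, map_mul, map_pow x a, o.xa, hz1] at h
    exact mul_left_cancel (mul_right_cancel h))
  rw [hl₀, mul_one] at hd
  have htb : t b = b * (a ^ i₀ * z₀) := by rw [← hd, mul_inv_cancel_left]
  have hz₀ : z₀ ≠ 1 := by
    intro h
    obtain ⟨e, he⟩ := ht3
    obtain ⟨i', l', z', hde, h1, h2⟩ := o.decomp e
    obtain ⟨r, hr⟩ := ht1 z' h1
    refine he (i₀ * l' + r) ?_
    rw [hde, map_mul, map_mul, map_pow, map_pow, hta, htb, hr, h, mul_one, mul_pow, ← pow_mul, pow_add]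
    simp only [mul_assoc, hab, hlc]
  -- an element of the axis moved by `t`
  obtain ⟨f, hf1, hf2⟩ := ht4
  obtain ⟨i₁, l₁, z₁, hdf, hz₁1, hz₁2⟩ := o.decomp f
  have hl₁ : b ^ l₁ = 1 := hbf l₁ (by
    rw [hdf, map_mul, map_mul, map_pow x a, o.xa, hz₁1] at hf1
    exact mul_left_cancel (mul_right_cancel hf1))
  rw [hl₁, mul_one] at hdf
  obtain ⟨γ, hγ⟩ := ht1 z₁ hz₁1
  have hγ1 : a ^ γ ≠ 1 := fun h => hf2 (by rw [hdf, map_mul, map_pow, hta, hγ, h, mul_one])
  have hxq : ∀ (q : ℕ) e, x e = e → (x ^ q) e = e := fun q e he => by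
    rw [pow_transvection hxa (show x e = e * a ^ 0 by rw [he, pow_zero, mul_one]) q, zero_mul, pow_zero, mul_one]
  obtain ⟨q₀, hq₀⟩ := exists_coeff (p := p) (k := k) o.kne i₀
  set k₀ := s * x ^ q₀ * t with hk₀
  have hk0b : k₀ b = a ^ k * z₀ := by
    show s ((x ^ q₀) (t b)) = _
    rw [htb, map_mul (x ^ q₀), map_mul (x ^ q₀), map_pow (x ^ q₀), pow_transvection hxa o.xb q₀, hxq q₀ a o.xa,
      hxq q₀ z₀ hz1, mul_assoc b, ← mul_assoc (a ^ (k * q₀)), ← pow_add,
      pow_dvd_one hexp a (show (k * q₀ + i₀) % p = 0 by rw [add_comm]; exact hq₀), one_mul, map_mul, o.sb,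
      o.sfix z₀ hz1 hz2]
  have hk0z : k₀ z₁ = z₁ * (b ^ j) ^ γ := by
    show s ((x ^ q₀) (t z₁)) = _
    rw [hγ, map_mul, map_pow, hxq q₀ a o.xa, hxq q₀ z₁ hz₁1, map_mul, map_pow, hsa, o.sfix z₁ hz₁1 hz₁2]
  set kk := k₀ * s with hkk
  set v := kk a with hv
  have hva : v = a ^ (k * j) * z₀ ^ j := by
    show k₀ (s a) = _
    rw [hsa, map_pow, hk0b, mul_pow, ← pow_mul]
  have hxv : x v = v := by rw [hva, map_mul, map_pow, map_pow, o.xa, hz1]
  have hvn : ∀ r : ℕ, v ≠ a ^ r := by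
    intro r h
    -- apply `y`
    have h2 := congrArg y h
    have hy' : ∀ n : ℕ, y (a ^ n) = y a ^ n := fun n => map_pow y a n
    rw [hva, map_mul, hy', map_pow, hz2, hy'] at h2
    rw [hva] at h
    have h3 : (y a * a⁻¹) ^ (k * j) = (y a * a⁻¹) ^ r := by
      rw [mul_pow, mul_pow, inv_pow, inv_pow]
      have e1 : y a ^ (k * j) = y a ^ r * (z₀ ^ j)⁻¹ := eq_mul_inv_of_mul_eq h2
      have e2 : a ^ (k * j) = a ^ r * (z₀ ^ j)⁻¹ := eq_mul_inv_of_mul_eq h
      rw [e1, e2, mul_inv_rev, inv_inv]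
      calc y a ^ r * (z₀ ^ j)⁻¹ * (z₀ ^ j * (a ^ r)⁻¹) = y a ^ r * ((z₀ ^ j)⁻¹ * z₀ ^ j) * (a ^ r)⁻¹ := by simp only [mul_assoc, hab, hlc]
        _ = _ := by rw [inv_mul_cancel, mul_one]
    have hne : y a * a⁻¹ ≠ 1 := by
      intro hh
      rw [mul_inv_eq_one] at hh
      have := o.sfix a o.xa hh
      rw [hsa] at this
      exact ha1 (by
        have h4 := hbf j (by rw [this, o.xa])
        rw [← this, h4])
    have hd' : ((k * j : ℕ) : ℤ) - r ≡ 0 [ZMOD p] := by
      have h4 : (y a * a⁻¹) ^ (((k * j : ℕ) : ℤ) - r) = 1 := by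
        rw [zpow_sub, zpow_natCast, zpow_natCast, h3, mul_inv_cancel]
      have h5 : (orderOf (y a * a⁻¹) : ℤ) ∣ ((k * j : ℕ) : ℤ) - r := orderOf_dvd_iff_zpow_eq_one.2 h4
      rw [(hp.out.eq_one_or_self_of_dvd _ (orderOf_dvd_of_pow_eq_one (hexp _))).resolve_left
        (fun e => hne (orderOf_eq_one_iff.1 e))] at h5
      exact Int.modEq_zero_iff_dvd.2 h5
    have h6 : a ^ (((k * j : ℕ) : ℤ) - r) = 1 := by
      obtain ⟨c, hc⟩ := Int.modEq_zero_iff_dvd.1 hd'
      rw [hc, zpow_mul, zpow_natCast, hexp, one_zpow]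
    rw [zpow_sub, zpow_natCast, zpow_natCast, mul_inv_eq_one] at h6
    rw [h6, mul_eq_left] at h
    exact hz₀ (eq_one_of_pow hexp hj h)
  set q := kk * x * kk⁻¹ with hq
  have hqk : ∀ e, q (kk e) = kk (x e) := fun e => by
    show kk (x (kk⁻¹ (kk e))) = _
    rw [MulAut.inv_apply_self]
  have hqv : q v = v := by rw [hv, hqk, o.xa]
  have hkz : kk z₁ = z₁ * (b ^ j) ^ γ := by show k₀ (s z₁) = _; rw [o.sfix z₁ hz₁1 hz₁2, hk0z]
  have hqz : q (z₁ * (b ^ j) ^ γ) = z₁ * (b ^ j) ^ γ := by rw [← hkz, hqk, hz₁1]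
  have hqform : ∀ e, ∃ r : ℕ, q e = e * v ^ r := fun e => by
    obtain ⟨r, hr⟩ := hxe (kk⁻¹ e)
    refine ⟨r, ?_⟩
    show kk (x (kk⁻¹ e)) = _
    rw [hr, map_mul, map_pow, MulAut.apply_inv_self]
  obtain ⟨δ, hδ⟩ := hqform a
  -- the conjugate elation with the axis of `x`
  set x2 := q * x * q⁻¹ with hx2
  have hx2k : ∀ e, x2 (q e) = q (x e) := fun e => by
    show q (x (q⁻¹ (q e))) = _
    rw [MulAut.inv_apply_self]
  have hqfix : ∀ e, x e = e → x (q e) = q e := fun e he => by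
    obtain ⟨r, hr⟩ := hqform e
    rw [hr, map_mul, map_pow, he, hxv]
  have hqinv : ∀ e, x e = e → x (q⁻¹ e) = q⁻¹ e := fun e he => by
    obtain ⟨r, hr⟩ := hqform (q⁻¹ e)
    rw [MulAut.apply_inv_self] at hr
    have h1 : x (q⁻¹ e * v ^ r) = q⁻¹ e * v ^ r := by rw [← hr, he]
    rwa [map_mul, map_pow, hxv, mul_left_inj] at h1
  have hkA : kk ∈ F.autGroup E := mul_mem (mul_mem (mul_mem o.sA (pow_mem hxA q₀)) htA) o.sA
  have hqA : q ∈ F.autGroup E := mul_mem (mul_mem hkA hxA) (inv_mem hkA)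
  refine axis_false hab hexp hH hxS hx hx1 hxa hxe (mul_mem (mul_mem hqA hxA) (inv_mem hqA) : x2 ∈ F.autGroup E)
    (fun e he => ?_) (fun e => ?_) ⟨q b, fun r hr => ?_⟩
  · have := hx2k (q⁻¹ e)
    rwa [MulAut.apply_inv_self, hqinv e he, MulAut.apply_inv_self] at this
  · obtain ⟨r, hr⟩ := hxe (q⁻¹ e)
    have h1 : x2 e = e * (q a) ^ r := by
      show q (x (q⁻¹ e)) = _
      rw [hr, map_mul, map_pow, MulAut.apply_inv_self]
    rw [h1, inv_mul_cancel_left, map_pow, hqfix a o.xa]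
  · rw [hx2k, o.xb, map_mul, mul_right_inj, map_pow, hδ, mul_pow, ← pow_mul] at hr
    by_cases hδ0 : v ^ δ = 1
    · -- then `q` centralises `a`, `v` and `k z₁`
      rw [hδ0, mul_one] at hδ
      refine hx1 ?_
      have hall : ∀ e, q e = e := by
        intro e
        obtain ⟨i', l', z', hde, h1, h2⟩ := o.decomp e
        have hinv : ∀ (u : E) (n : ℕ), ¬ p ∣ n → q (u ^ n) = u ^ n → q u = u := fun u n hn h => by
          have : (q u * u⁻¹) ^ n = 1 := by rw [mul_pow, ← map_pow, h, inv_pow, mul_inv_cancel]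
          exact mul_inv_eq_one.1 (eq_one_of_pow hexp hn this)
        have qz₀ : q z₀ = z₀ := hinv z₀ j hj (by
          have h9 := hqv
          rw [hva, map_mul, map_pow q a, hδ] at h9
          exact mul_left_cancel h9)
        obtain ⟨i₂, m₂, hz₀'⟩ := hfix z₀ hz1
        have hm₂ : ¬ p ∣ m₂ := fun hd => by
          rw [pow_dvd_one hexp c₀ (Nat.mod_eq_zero_of_dvd hd), mul_one] at hz₀'
          have h3 := hz2
          rw [hz₀', map_pow] at h3
          have hne : y a * a⁻¹ ≠ 1 := by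
            intro hh
            rw [mul_inv_eq_one] at hh
            have := o.sfix a o.xa hh
            rw [hsa] at this
            exact ha1 (by
              have h4 := hbf j (by rw [this, o.xa])
              rw [← this, h4])
          by_cases hi2 : p ∣ i₂
          · exact hz₀ (hz₀'.trans (pow_dvd_one hexp a (Nat.mod_eq_zero_of_dvd hi2)))
          · exact hne (eq_one_of_pow hexp hi2 (by rw [mul_pow, h3, inv_pow, mul_inv_cancel]))
        have qc : q c₀ = c₀ := hinv c₀ m₂ hm₂ (by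
          have h9 := qz₀
          rw [hz₀', map_mul, map_pow q a, hδ] at h9
          exact mul_left_cancel h9)
        have qfix : ∀ u, x u = u → q u = u := fun u hu => by
          obtain ⟨i₃, m₃, h9⟩ := hfix u hu
          rw [h9, map_mul, map_pow, map_pow, hδ, qc]
        have qb : q b = b := hinv b (j * γ) (hp.out.not_dvd_mul hj (not_dvd_of_ne hexp hγ1)) (by
          have h9 := hqz
          rw [map_mul, qfix z₁ hz₁1, ← pow_mul] at h9
          exact mul_left_cancel h9)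
        rw [hde, map_mul, map_mul, map_pow, map_pow, hδ, qb, qfix z' h1]
      refine MulEquiv.ext fun e => ?_
      have := hqk e
      rw [hall] at this
      exact (kk.injective this).symm
    · obtain ⟨d, hd⟩ := exists_coeff (p := p) (k := δ * k) (hp.out.not_dvd_mul (not_dvd_of_ne hexp hδ0) o.kne) (p - 1)
      refine hvn ((r + (p - 1) * k) * d) ?_
      have h7 : v ^ (δ * k) = a ^ (r + (p - 1) * k) := by
        rw [pow_add, ← hr, mul_right_comm, ← pow_add, show k + (p - 1) * k = p * k by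
          rw [← one_add_mul, Nat.add_sub_cancel' hp.out.one_lt.le], pow_dvd_one hexp a (Nat.mul_mod_right p k), one_mul]
      rw [pow_mul a, ← h7, ← pow_mul]
      obtain ⟨c, hc⟩ := Nat.dvd_of_mod_eq_zero hd
      refine mul_left_cancel (a := v ^ (p - 1)) ?_
      rw [← pow_add, hc, pow_mul, hexp, one_pow, ← pow_succ, Nat.sub_add_cancel hp.out.one_lt.le, hexp]

end CfsgLib.PearlFour
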