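import Cfsg.Agent.PearlFour.CaseA
import Cfsg.Agent.PearlFour.CaseB
import Cfsg.Agent.MaxPearl.Chain
import Cfsg.Agent.S0063
import Cfsg.Agent.S5185
import Cfsg.Agent.S5186

/-!
An essential subgroup which is no pearl has order at least `p⁴`: assembly.
-/

set_option autoImplicit false
set_option linter.style.haveILetI false

open Cfsg
open scoped commutatorElement

namespace CfsgLib.PearlFour

open Cfsg.FusionSystem CfsgLib.Fusion CfsgLib.MaxPearl

universe u

theorem main {Ω : Type u} [Group Ω] {S : Subgroup Ω} [Finite S] (p : ℕ) [hp : Fact p.Prime] (hp5 : 5 ≤ p)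
    (hS : IsPGroup p ↥S) (n : ℕ) (hn : Nat.card S = p ^ n) (h5 : 5 ≤ n)
    (hmax : Subgroup.lowerCentralSeries S (n - 2) ≠ ⊥) (F : Cfsg.FusionSystem S) (hF : F.IsSaturated p)
    (E : Subgroup Ω) (hE : F.IsEssential p E)
    (hnp : ¬ ((Nat.card ↥E = p ^ 2 ∧ Cfsg.IsElementaryAbelian p E) ∨
      (Nat.card ↥E = p ^ 3 ∧ Cfsg.IsExtraspecial p ↥E ∧ Monoid.exponent ↥E = p)))
    (hA2 : ∀ {T : ℕ → Subgroup S}, Ctx F p n T E →
      (¬ ∀ e ∈ E.subgroupOf S, ∀ b ∈ T (n - 2), e * b = b * e) → E.subgroupOf S ≤ T 1 → False) :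
    p ^ 4 ≤ Nat.card ↥E := by
  haveI := finite_of_le hE.1.1
  haveI : Group.IsNilpotent S := hS.isNilpotent
  have hcl : Group.nilpotencyClass S = n - 1 := by
    refine le_antisymm (Cfsg.Agent.S0063.result p n hn (by omega)) ?_
    by_contra h
    refine hmax ?_
    rw [← Subgroup.top_subtype_lowerCentralSeries,
      (Subgroup.lowerCentralSeries_eq_bot_iff_nilpotencyClass_le (G := ↥S)).2 (by omega : _ ≤ n - 2), Subgroup.map_bot]
  obtain ⟨T, c, hT⟩ := exists_chain hn hcl (by omega)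
  obtain ⟨k, hk⟩ := IsPGroup.iff_card.1 (hS.to_le hE.1.1)
  rw [hk]
  refine Nat.pow_le_pow_right hp.out.pos (by_contra fun h4 => ?_)
  obtain hk1 | rfl | rfl : k ≤ 1 ∨ k = 2 ∨ k = 3 := by omega
  · haveI := c.normal (n - 1)
    have hcS : ∀ u ∈ T (n - 1), ∀ g : S, g * u = u * g := fun u hu g => center_comm c hu g
    -- a group of order at most `p` that contains its centralizer has order `p` and is central
    have hle : T (n - 1) ≤ E.subgroupOf S := fun u hu =>
      hE.1.2 E (CfsgLib.Fusion.IsConj.refl hE.1.1) ⟨u.2, Subgroup.mem_centralizer_iff.2 fun e he =>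
        congrArg Subtype.val (hcS u hu ⟨e, hE.1.1 he⟩)⟩
    have heq : T (n - 1) = E.subgroupOf S := Subgroup.eq_of_le_of_card_ge hle (by
      rw [Nat.card_congr (Subgroup.subgroupOfEquivOfLe hE.1.1).toEquiv, hk, c.card (n - 1) (by omega)]
      exact Nat.pow_le_pow_right hp.out.pos (by omega))
    have htop : ∀ g : S, g ∈ E.subgroupOf S := fun g =>
      hE.1.2 E (CfsgLib.Fusion.IsConj.refl hE.1.1) ⟨g.2, Subgroup.mem_centralizer_iff.2 fun e he =>
        (congrArg Subtype.val (hcS ⟨e, hE.1.1 he⟩ (heq.ge he) g)).symm⟩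
    have hcard : Nat.card S ≤ Nat.card (E.subgroupOf S) := by
      rw [(eq_top_iff.2 fun g _ => htop g : E.subgroupOf S = ⊤), Subgroup.card_top]
    rw [hn, Nat.card_congr (Subgroup.subgroupOfEquivOfLe hE.1.1).toEquiv, hk,
      Nat.pow_le_pow_iff_right hp.out.one_lt] at hcard
    omega
  · exact hnp (Or.inl ⟨hk, (Cfsg.Agent.S5185.result p hS F hF E hE hk).1⟩)
  · rcases Cfsg.Agent.S5186.result p hS F hF E hE hk with ⟨hab, hexp⟩ | ⟨-, hes, hexp⟩ | ⟨h2, -⟩
    · have C : Ctx F p n T E := ⟨hp5, h5, hS, hF, c, hT, hE, fun x y => hab.is_comm.comm x y,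
        fun e => Subtype.ext (hexp e e.2), hk⟩
      by_cases hM : ∀ e ∈ E.subgroupOf S, ∀ b ∈ T (n - 2), e * b = b * e
      · by_cases h1 : E.subgroupOf S ≤ T 1
        · exact C.caseA hM h1
        · exact C.caseB hM h1
      · exact hA2 C hM ((C.le_one_or_cent).resolve_right hM)
    · refine hnp (Or.inr ⟨hk, hes, (Nat.prime_dvd_prime_iff_eq ?_ hp.out).1 ?_⟩)
      · have h1 : Monoid.exponent ↥E ∣ p := Monoid.exponent_dvd_of_forall_pow_eq_one fun e => Subtype.ext (hexp e e.2)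
        refine ((Nat.dvd_prime hp.out).1 h1).elim (fun h => ?_) (fun h => h ▸ hp.out)
        exfalso
        haveI := Monoid.exp_eq_one_iff.1 h
        rw [Nat.card_of_subsingleton (1 : ↥E)] at hk
        exact absurd hk (Nat.one_lt_pow (by omega) hp.out.one_lt).ne
      · exact Monoid.exponent_dvd_of_forall_pow_eq_one fun e => Subtype.ext (hexp e e.2)
    · omega

end CfsgLib.PearlFour
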