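import Cfsg.Agent.MaxPearl.PowerBound
import Cfsg.Agent.MaxPearl.SectionRank
import Mathlib

/-!
`p`-groups of maximal class (`p ≥ 5`): below the centre the first two-step centraliser kills every level, and a
group of odd exponent is not exceptional.
-/

set_option autoImplicit false
set_option linter.style.haveILetI false

open scoped commutatorElement

namespace CfsgLib.PearlFour

open CfsgLib.MaxPearl CfsgLib.MaxPearlC CfsgLib.MaxClassSection

universe u

/-- The levels above the first are the lower central series. -/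
def IsLcs {G : Type*} [Group G] (T : ℕ → Subgroup G) : Prop :=
  ∀ j, 2 ≤ j → T j = (⊤ : Subgroup G).lowerCentralSeries (j - 1)

/-- `T 1` kills the level `j`. -/
def Kills {G : Type*} [Group G] (T : ℕ → Subgroup G) (j : ℕ) : Prop :=
  ∀ a ∈ T 1, ∀ b ∈ T j, ⁅a, b⁆ ∈ T (j + 2)

variable {p n : ℕ} [hp : Fact p.Prime]

section
variable {G : Type u} [Group G] [Finite G] {T : ℕ → Subgroup G}

theorem kills_one (c : Chain p n T) : Kills T 1 := fun a ha b hb =>
  c.anti (by omega) (c.comm_one ha hb)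

theorem kills_two (c : Chain p n T) : Kills T 2 := fun a ha b hb =>
  c.def12 (Subgroup.commutator_mem_commutator ha hb)

theorem eq_one_of_sum (c : Chain p n T) {a b : ℕ} (ha : 2 ≤ a) (hb : 2 ≤ b) (hab : n ≤ a + b) {x y : G}
    (hx : x ∈ T a) (hy : y ∈ T b) : x * y = y * x :=
  commutatorElement_eq_one_iff_mul_comm.1
    (c.eq_one hab (c.add a b ha hb (Subgroup.commutator_mem_commutator hx hy)))

theorem center_comm (c : Chain p n T) {x : G} (hx : x ∈ T (n - 1)) (g : G) : g * x = x * g :=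
  commutatorElement_eq_one_iff_mul_comm.1
    (c.eq_one (j := n - 1 + 1) (by have := c.h4; omega) (c.mem_step (by have := c.h4; omega) hx g))

/-- An element outside `T 1` moves every level killed by `T 1`. -/
theorem moves (c : Chain p n T) (hT : IsLcs T) {j : ℕ} (hj : 1 ≤ j) (hjn : j + 2 ≤ n) (hk : Kills T j)
    {s : G} (hs : s ∉ T 1) {u : G} (hu : u ∈ T j) (hu' : u ∉ T (j + 1)) : ⁅s, u⁆ ∉ T (j + 2) := by
  intro hsu
  haveI := c.normal (j + 2)
  obtain ⟨g, hg⟩ := exists_not_layer c hT hj hjn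
  have hsj : LayerTriv T j s := by
    intro x hx
    obtain ⟨k, -, w, hw, rfl⟩ := c.gen (by omega) hu hu' hx
    rw [← commute_mk, map_mul, map_pow]
    exact ((commute_mk.2 hsu).pow_right k).mul_right (commute_mk.2 (c.mem_step (by omega) hw s))
  obtain ⟨C, hC⟩ := layer_subgroup c j
  obtain ⟨k, -, w, hw, rfl⟩ := c.gen (j := 0) (by omega) (by rw [c.zero]; exact Subgroup.mem_top s) hs
    (x := g) (by rw [c.zero]; exact Subgroup.mem_top g)
  exact hg ((hC _).1 (mul_mem (pow_mem ((hC s).2 hsj) k) ((hC w).2 fun x hx => hk w hw x hx)))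

/-- An element outside `T 1` maps each killed level onto the next one. -/
theorem exists_preimage (c : Chain p n T) (hT : IsLcs T) {j : ℕ} (hj : 1 ≤ j) (hjn : j + 2 ≤ n)
    (hk : Kills T j) {s : G} (hs : s ∉ T 1) :
    ∃ u ∈ T j, u ∉ T (j + 1) ∧ ⁅s, u⁆ ∈ T (j + 1) ∧ ⁅s, u⁆ ∉ T (j + 2) := by
  obtain ⟨u, hu, hu'⟩ := c.exists_level (j := j) (by omega)
  exact ⟨u, hu, hu', c.mem_step hj hu s, moves c hT hj hjn hk hs hu hu'⟩

/-- If `T 1` does not centralise `T (n-2)`, some element outside `T 1` does. -/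
theorem exists_outer_cent (c : Chain p n T) (h : ¬ ∀ a ∈ T 1, ∀ b ∈ T (n - 2), a * b = b * a) :
    ∃ e, e ∉ T 1 ∧ ∀ b ∈ T (n - 2), e * b = b * e := by
  have h4 := c.h4
  push Not at h
  obtain ⟨u, hu, b₀, hb₀, hne⟩ := h
  obtain ⟨v, hv, hv'⟩ := c.exists_level (j := n - 2) (by omega)
  have hcent : ∀ g : G, g * v = v * g → ∀ b ∈ T (n - 2), g * b = b * g := fun g hg b hb => by
    obtain ⟨k, -, w, hw, rfl⟩ := c.gen (by omega) hv hv' hb
    exact ((show Commute g v from hg).pow_right k).mul_right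
      (center_comm c (by rwa [show n - 2 + 1 = n - 1 by omega] at hw) g)
  obtain ⟨s, hs, hs'⟩ := c.exists_level (j := 0) (by omega)
  have hmem : ∀ g : G, ⁅g, v⁆ ∈ T (n - 1) := fun g => by
    have := c.mem_step (show 1 ≤ n - 2 by omega) hv g
    rwa [show n - 2 + 1 = n - 1 by omega] at this
  have hz1 : ⁅u, v⁆ ∉ T (n - 1 + 1) := fun hz => hne (hcent u
    (commutatorElement_eq_one_iff_mul_comm.1 (c.eq_one (by omega) hz)) b₀ hb₀)
  obtain ⟨k, -, w, hw, hk⟩ := c.gen (by omega) (hmem u) hz1 (hmem s)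
  have hw1 : w = 1 := c.eq_one (by omega) hw
  rw [hw1, mul_one] at hk
  -- the map `g ↦ [g, v]` is multiplicative
  have hmul : ∀ g g' : G, ⁅g * g', v⁆ = ⁅g, v⁆ * ⁅g', v⁆ := fun g g' => by
    rw [show ⁅g * g', v⁆ = g * ⁅g', v⁆ * g⁻¹ * ⁅g, v⁆ by simp only [commutatorElement_def]; group,
      center_comm c (hmem g') g, mul_inv_cancel_right, center_comm c (hmem g') ⁅g, v⁆]
  let f : G →* G := MonoidHom.mk' (fun g => ⁅g, v⁆) hmul
  refine ⟨s * (u⁻¹) ^ k, fun he => hs' ?_, hcent _ (commutatorElement_eq_one_iff_mul_comm.1 ?_)⟩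
  · exact (Subgroup.mul_mem_cancel_right _ (pow_mem ((T 1).inv_mem hu) k)).1 he
  · show f (s * (u⁻¹) ^ k) = 1
    rw [map_mul, map_pow, map_inv]
    show ⁅s, v⁆ * (⁅u, v⁆⁻¹) ^ k = 1
    rw [hk, inv_pow, mul_inv_cancel]

/-- The three subgroup step. -/
theorem pair_step (c : Chain p n T) (hT : IsLcs T) {e : G} (he1 : e ∉ T 1)
    (he2 : ∀ b ∈ T (n - 2), e * b = b * e) {i : ℕ} (hi : 1 ≤ i) (hin : i + 4 ≤ n)
    (hk : Kills T (n - 2 - i)) (hd : ∀ a ∈ T i, ∀ b ∈ T (n - 2 - i), ⁅a, b⁆ ∈ T (n - 2))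
    (h : ∀ a ∈ T (i + 1), ∀ b ∈ T (n - 2 - i), a * b = b * a) :
    ∀ a ∈ T i, ∀ b ∈ T (n - 1 - i), a * b = b * a := by
  obtain ⟨b, hb, -, hw, hw'⟩ := exists_preimage c hT (j := n - 2 - i) (by omega) (by omega) hk he1
  rw [show n - 2 - i + 1 = n - 1 - i by omega] at hw
  rw [show n - 2 - i + 2 = n - i by omega] at hw'
  intro a ha y hy
  have hlast : ∀ z ∈ T (n - i), a * z = z * a := fun z hz => by
    rcases Nat.lt_or_ge i 2 with hlt | hge
    · exact center_comm c (c.anti (by omega) hz) a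
    · exact eq_one_of_sum c hge (show 2 ≤ n - i by omega) (by omega) ha hz
  obtain ⟨k, -, z, hz, rfl⟩ := c.gen (j := n - 1 - i) (by omega) hw
    (by rwa [show n - 1 - i + 1 = n - i by omega]) hy
  rw [show n - 1 - i + 1 = n - i by omega] at hz
  refine ((show Commute a ⁅e, b⁆ from ?_).pow_right k).mul_right (hlast z hz)
  set d := ⁅a, b⁆ with hdd
  set q := ⁅a, e⁆ with hq
  set w := ⁅e, b⁆ with hwd
  have hqm : q ∈ T (i + 1) := comm_mem_symm.1 (c.mem_step hi ha e)
  have hdm : d ∈ T (n - 2) := hd a ha b hb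
  have h1 : Commute q b := h q hqm b hb
  have h2 : Commute q w := eq_one_of_sum c (by omega) (by omega) (by omega) hqm hw
  have h3 : Commute q d := eq_one_of_sum c (by omega) (show 2 ≤ n - 2 by omega) (by omega) hqm hdm
  have h4 : Commute d w := eq_one_of_sum c (show 2 ≤ n - 2 by omega) (by omega) (by omega) hdm hw
  have h5 : Commute e d := he2 d hdm
  have key : a * w * a⁻¹ = w := by
    calc a * w * a⁻¹ = q * (e * d) * b * e⁻¹ * q⁻¹ * b⁻¹ * d⁻¹ := by
          simp only [hdd, hq, hwd, commutatorElement_def]; group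
      _ = q * d * w * (b * q⁻¹) * b⁻¹ * d⁻¹ := by
          rw [h5.eq]; simp only [hwd, commutatorElement_def]; group
      _ = q * (d * w) * q⁻¹ * d⁻¹ := by rw [(h1.inv_left).eq.symm]; group
      _ = d * w * d⁻¹ := by rw [(h3.mul_right h2).eq]; group
      _ = w := by rw [h4.eq]; group
  exact mul_inv_eq_iff_eq_mul.1 key

/-- For odd exponent, `T 1` centralises `T (n-2)`. -/
theorem odd_center (c : Chain p n T) (hT : IsLcs T) (hodd : Odd n)
    (hk : ∀ j, 2 ≤ j → j + 3 ≤ n → Kills T j) : ∀ a ∈ T 1, ∀ b ∈ T (n - 2), a * b = b * a := by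
  by_contra hcon
  obtain ⟨e, he1, he2⟩ := exists_outer_cent c hcon
  obtain ⟨m, rfl⟩ := hodd
  have h4 := c.h4
  obtain ⟨u, hu, hu'⟩ := c.exists_level (j := m) (by omega)
  have key : ∀ d i, i + d = m → 1 ≤ i → ∀ a ∈ T i, ∀ b ∈ T (2 * m + 1 - 1 - i), a * b = b * a := by
    intro d
    induction d with
    | zero =>
      intro i him hi a ha b hb
      rw [show 2 * m + 1 - 1 - i = m by omega] at hb
      rw [show i = m by omega] at ha
      obtain ⟨k, -, x, hx, rfl⟩ := c.gen (by omega) hu hu' ha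
      obtain ⟨l, -, y, hy, rfl⟩ := c.gen (by omega) hu hu' hb
      have hux : ∀ z ∈ T (m + 1), Commute u z := fun z hz =>
        eq_one_of_sum c (show 2 ≤ m by omega) (by omega) (by omega) hu hz
      have hxy : Commute x y := eq_one_of_sum c (show 2 ≤ m + 1 by omega) (by omega) (by omega) hx hy
      exact (((Commute.refl u).pow_pow k l).mul_right ((hux y hy).pow_left k)).mul_left
        (((hux x hx).symm.pow_right l).mul_right hxy)
    | succ d ih =>
      intro i him hi
      refine pair_step c hT he1 he2 hi (by omega) (hk _ (by omega) (by omega)) ?_ ?_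
      · intro a ha b hb
        rcases Nat.lt_or_ge i 2 with hlt | hge
        · have := c.mem_step (show 1 ≤ 2 * m + 1 - 2 - i by omega) hb a
          exact c.anti (by omega) this
        · exact c.anti (by omega) (c.add _ _ hge (show 2 ≤ 2 * m + 1 - 2 - i by omega)
            (Subgroup.commutator_mem_commutator ha hb))
      · intro a ha b hb
        exact ih (i + 1) (by omega) (by omega) a ha b (by
          rwa [show 2 * m + 1 - 1 - (i + 1) = 2 * m + 1 - 2 - i by omega])
  exact hcon fun a ha b hb => key (m - 1) 1 (by omega) le_rfl a ha b (by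
    rwa [show 2 * m + 1 - 1 - 1 = 2 * m + 1 - 2 by omega])

end

/-- Below the centre, `T 1` kills every level. -/
theorem kills_all (hp5 : 5 ≤ p) : ∀ (n : ℕ) {G : Type u} [Group G] [Finite G] {T : ℕ → Subgroup G},
    Chain p n T → IsLcs T → ∀ j, 2 ≤ j → j + 3 ≤ n → Kills T j := by
  intro n
  induction n using Nat.strong_induction_on with
  | _ n ih =>
  intro G _ _ T c hT j hj hjn
  rcases Nat.lt_or_ge j 3 with h3 | h3
  · rw [show j = 2 by omega]; exact kills_two c
  haveI : ∀ j, (T j).Normal := c.normal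
  set π := QuotientGroup.mk' (T (n - 1)) with hπ
  have c' := chain_quotient c (by omega)
  have hT' : IsLcs (fun j => (T j).map π) := fun i hi => by
    show (T i).map π = _
    rw [hT i hi, CfsgLib.PLocalBasics.lcs_map _ (QuotientGroup.mk'_surjective _)]
  have hk' := ih (n - 1) (by omega) c' hT'
  have back : ∀ {k : ℕ} {x : G}, k ≤ n - 1 → π x ∈ (T k).map π → x ∈ T k := fun {k x} hk hx => by
    obtain ⟨z, hz, he⟩ := hx
    exact (Subgroup.mul_mem_cancel_left _ ((T k).inv_mem hz)).1 (c.anti hk (QuotientGroup.eq.1 he))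
  have low : ∀ i, 1 ≤ i → i + 4 ≤ n → Kills T i := fun i hi hin => by
    rcases Nat.lt_or_ge i 2 with h | h
    · rw [show i = 1 by omega]; exact kills_one c
    intro a ha b hb
    refine back (by omega) ?_
    rw [map_commutatorElement]
    exact hk' i h (by omega) (π a) ⟨a, ha, rfl⟩ (π b) ⟨b, hb, rfl⟩
  rcases Nat.lt_or_ge (j + 3) n with hlt | hge
  · exact low j (by omega) (by omega)
  obtain rfl : j = n - 3 := by omega
  clear hjn hge
  rcases Nat.even_or_odd (n - 1) with heven | hodd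
  swap
  · intro a ha b hb
    rw [show n - 3 + 2 = n - 1 by omega]
    have h := odd_center c' hT' hodd hk' (π a) ⟨a, ha, rfl⟩ (π b) ⟨b, by rwa [show n - 1 - 2 = n - 3 by omega], rfl⟩
    exact commute_mk.1 h
  -- `n` odd
  obtain ⟨m, hm⟩ := heven
  have hn : n = 2 * m + 1 := by omega
  have hm3 : 3 ≤ m := by omega
  by_contra hbad
  have hbad' : ¬ ∀ a ∈ (T 1).map π, ∀ b ∈ (T (n - 1 - 2)).map π, a * b = b * a := fun h => hbad
    fun a ha b hb => by
      rw [show n - 3 + 2 = n - 1 by omega]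
      exact commute_mk.1 (h (π a) ⟨a, ha, rfl⟩ (π b) ⟨b, by rwa [show n - 1 - 2 = n - 3 by omega], rfl⟩)
  obtain ⟨e', he1', he2'⟩ := exists_outer_cent c' hbad'
  obtain ⟨e, rfl⟩ := QuotientGroup.mk'_surjective (T (n - 1)) e'
  have he1 : e ∉ T 1 := fun h => he1' ⟨e, h, rfl⟩
  by_cases hM : ∀ a ∈ T 1, ∀ b ∈ T (n - 2), a * b = b * a
  swap
  · -- `T 1` moves `T (n-2)`
    have h2 : ∀ a ∈ T 2, ∀ b ∈ T (n - 4), ⁅a, b⁆ ∈ T (n - 1) := by
      intro a ha b hb
      have hd : ⁅a, b⁆ ∈ T (n - 2) :=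
        c.anti (by omega) (c.add 2 (n - 4) le_rfl (by omega) (Subgroup.commutator_mem_commutator ha hb))
      obtain ⟨v, hv, hv'⟩ := c.exists_level (j := n - 2) (by omega)
      obtain ⟨k, -, w, hw, hk⟩ := c.gen (by omega) hv hv' hd
      rw [show n - 2 + 1 = n - 1 by omega] at hw hv'
      by_contra hne
      apply hM
      intro x hx y hy
      have hxd : Commute x ⁅a, b⁆ := by
        have e1 : ⁅x, a⁆ ∈ T 4 := c.def12 (Subgroup.commutator_mem_commutator hx ha)
        have e2 : ⁅x, b⁆ ∈ T (n - 2) := by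
          have := low (n - 4) (by omega) (by omega) x hx b hb
          rwa [show n - 4 + 2 = n - 2 by omega] at this
        set A := ⁅x, a⁆ with hA
        set B := ⁅x, b⁆ with hB
        have c1 : Commute A b := eq_one_of_sum c (show 2 ≤ 4 by omega) (by omega) (by omega) e1 hb
        have c2 : Commute A B := eq_one_of_sum c (show 2 ≤ 4 by omega) (by omega) (by omega) e1 e2
        have c3 : Commute a B := eq_one_of_sum c le_rfl (show 2 ≤ n - 2 by omega) (by omega) ha e2
        have c4 : Commute B b := eq_one_of_sum c (show 2 ≤ n - 2 by omega) (by omega) (by omega) e2 hb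
        have c5 : Commute B ⁅a, b⁆ := eq_one_of_sum c (show 2 ≤ n - 2 by omega) (show 2 ≤ n - 2 by omega) (by omega) e2 hd
        have c6 : Commute A ⁅a, b⁆ := eq_one_of_sum c (show 2 ≤ 4 by omega) (show 2 ≤ n - 2 by omega) (by omega) e1 hd
        refine mul_inv_eq_iff_eq_mul.1 ?_
        calc x * ⁅a, b⁆ * x⁻¹ = ⁅A * a, B * b⁆ := by
              simp only [hA, hB, commutatorElement_def]; group
          _ = A * (a * B) * b * a⁻¹ * (A⁻¹ * b⁻¹) * B⁻¹ := by simp only [commutatorElement_def]; group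
          _ = (A * B) * ⁅a, b⁆ * (A⁻¹ * B⁻¹) := by
              rw [c3.eq, (c1.inv_left.inv_right).eq]; simp only [commutatorElement_def]; group
          _ = ⁅a, b⁆ := by
              rw [((c6.mul_left c5)).eq, (c2.inv_left.inv_right).eq]; group
      obtain ⟨l, -, z, hz, rfl⟩ := c.gen (by omega) hd
        (by rwa [show n - 2 + 1 = n - 1 by omega]) hy
      rw [show n - 2 + 1 = n - 1 by omega] at hz
      exact (hxd.pow_right l).mul_right (center_comm c hz x)
    have hA := pair_step c' hT' he1' he2' (i := 1) le_rfl (by omega)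
      (hk' _ (by omega) (by omega))
      (fun a ha b hb => c'.anti (show n - 1 - 2 ≤ n - 1 - 2 - 1 + 1 by omega) (c'.mem_step (by omega) hb a))
      (fun a ha b hb => by
        obtain ⟨a, ha, rfl⟩ := ha
        obtain ⟨b, hb, rfl⟩ := hb
        exact commute_mk.2 (h2 a ha b (by rwa [show n - 1 - 2 - 1 = n - 4 by omega] at hb)))
    exact hbad' fun a ha b hb => hA a ha b (by rwa [show n - 1 - 1 - 1 = n - 1 - 2 by omega])
  -- `T 1` centralises `T (n-2)`
  have he3 : ∀ b ∈ T (n - 3), ⁅e, b⁆ ∈ T (n - 1) := fun b hb =>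
    commute_mk.1 (he2' (π b) ⟨b, by rwa [show n - 1 - 2 = n - 3 by omega], rfl⟩)
  by_cases hbig : p + 3 ≤ n
  · obtain ⟨s', hs', hs''⟩ : ∃ s : G, s ∉ T 1 ∧ ∀ j, 1 ≤ j → j + 3 ≤ n → ∃ u ∈ T j, ⁅s, u⁆ ∉ T (j + 2) := by
      obtain ⟨u, hu, hu'⟩ := c.exists_level (j := n - 3) (by omega)
      have hex : ∃ v ∈ T 1, ⁅v, u⁆ ∉ T (n - 3 + 2) := by
        by_contra h
        push Not at h
        refine hbad fun a ha b hb => ?_
        obtain ⟨k, -, w, hw, rfl⟩ := c.gen (by omega) hu hu' hb
        rw [← commute_mk, map_mul, map_pow]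
        exact ((commute_mk.2 (h a ha)).pow_right k).mul_right (commute_mk.2 (c.mem_step (by omega) hw a))
      obtain ⟨v, hv, hv'⟩ := hex
      refine ⟨v * e, fun h => he1 ((Subgroup.mul_mem_cancel_left _ hv).1 h), fun i hi hin => ?_⟩
      rcases Nat.lt_or_ge (i + 3) n with h | h
      · obtain ⟨w, hw, hw', -⟩ := exists_preimage c hT hi (by omega) (low i hi (by omega)) he1
        exact ⟨w, hw, moves c hT hi (by omega) (low i hi (by omega))
          (fun h => he1 ((Subgroup.mul_mem_cancel_left _ hv).1 h)) hw hw'⟩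
      · rw [show i = n - 3 by omega]
        refine ⟨u, hu, fun h => hv' ?_⟩
        haveI := c.normal (n - 3 + 2)
        rw [← commute_mk, map_mul] at h
        have h2 := commute_mk.2 (show ⁅e, u⁆ ∈ T (n - 3 + 2) from (show n - 1 = n - 3 + 2 by omega) ▸ he3 u hu)
        have h3 := h.mul_left h2.inv_left
        rw [mul_inv_cancel_right] at h3
        exact commute_mk.1 h3
    have d : SeedC p (π s') := seed_of_avoid c' fun i hi hin => by
      obtain ⟨w, hw, hw'⟩ := hs'' i hi (by omega)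
      exact ⟨π w, ⟨w, hw, rfl⟩, fun h => hw' (back (by omega) (by rwa [map_commutatorElement]))⟩
    have := twoStep_le c d (j := n - 3 - (p - 1)) (by omega) (by omega)
    rw [show n - 3 - (p - 1) + (p - 1) = n - 3 by omega] at this
    exact hbad fun a ha b hb => (mem_twoStep.1 (this (mem_twoStep.2 fun w hw =>
      low _ (by omega) (by omega) a ha w hw))) b hb
  -- short case: a recursion along the pairs
  obtain ⟨u₁, hu₁, hu₁'⟩ := c.exists_level (j := 1) (by omega)
  set x : ℕ → G := fun k => (fun y => ⁅e, y⁆)^[k - 1] u₁ with hx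
  have hxs : ∀ k, 1 ≤ k → x (k + 1) = ⁅e, x k⁆ := fun k hk => by
    simp only [hx]
    rw [show k + 1 - 1 = k - 1 + 1 by omega, Function.iterate_succ_apply']
  have hxm : ∀ k, 1 ≤ k → k + 3 ≤ n → x k ∈ T k ∧ x k ∉ T (k + 1) := by
    intro k hk
    induction k, hk using Nat.le_induction with
    | base => intro _; exact ⟨hu₁, hu₁'⟩
    | succ k hk ih =>
      intro hkn
      obtain ⟨h1, h2⟩ := ih (by omega)
      rw [hxs k hk]
      exact ⟨c.mem_step hk h1 e, moves c hT hk (by omega) (low k hk (by omega)) he1 h1 h2⟩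
  set f : ℕ → G := fun i => ⁅x i, x (n - 2 - i)⁆ with hf
  have hfm : ∀ i, 1 ≤ i → i + 3 ≤ n → f i ∈ T (n - 2) := fun i hi hin => by
    rcases Nat.lt_or_ge i 2 with h | h
    · exact c.anti (by omega) (c.mem_step (show 1 ≤ n - 2 - i by omega) (hxm _ (by omega) (by omega)).1 (x i))
    rcases Nat.lt_or_ge (n - 2 - i) 2 with h' | h'
    · exact c.anti (by omega) (comm_mem_symm.1 (c.mem_step (show 1 ≤ i by omega) (hxm i hi hin).1 (x (n - 2 - i))))
    exact c.anti (by omega) (c.add i _ h h'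
      (Subgroup.commutator_mem_commutator (hxm i hi hin).1 (hxm _ (by omega) (by omega)).1))
  set φ : ℕ → G := fun i => ⁅e, f i⁆ with hφ
  have hφm : ∀ i, 1 ≤ i → i + 3 ≤ n → φ i ∈ T (n - 1) := fun i hi hin => by
    have := c.mem_step (show 1 ≤ n - 2 by omega) (hfm i hi hin) e
    rwa [show n - 2 + 1 = n - 1 by omega] at this
  have hxc : ∀ i, 1 ≤ i → i + 1 ≤ m → ∀ j, j = n - 2 - i →
      ⁅x i, x (j + 1)⁆ = φ i * (⁅x (i + 1), x j⁆)⁻¹ ∧ (⁅e, f (i + 1)⁆ = (φ i)⁻¹) := by
    intro i hi him j hj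
    have hxi := hxm i hi (by omega)
    have hxj := hxm j (by omega) (by omega)
    have hw : x (j + 1) ∈ T (j + 1) := by rw [hxs j (by omega)]; exact c.mem_step (by omega) hxj.1 e
    set a := x i with ha
    set b := x j with hb
    set a' := x (i + 1) with ha'
    have ha'm : a' ∈ T (i + 1) := (hxm _ (by omega) (by omega)).1
    have hdm : ⁅a, b⁆ ∈ T (n - 2) := by rw [hb, hj]; exact hfm i hi (by omega)
    have hgm : ⁅a', b⁆ ∈ T (n - 1) := by
      rcases Nat.lt_or_ge j 2 with h | h
      · omega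
      exact c.anti (by omega) (c.add (i + 1) j (by omega) h (Subgroup.commutator_mem_commutator ha'm hxj.1))
    have hea : a' = ⁅e, a⁆ := hxs i hi
    set w := x (j + 1) with hwd
    have hew : w = ⁅e, b⁆ := hxs j (by omega)
    have h2 : Commute a'⁻¹ w :=
      (show Commute a' w from eq_one_of_sum c (by omega) (by omega) (by omega) ha'm hw).inv_left
    have h3 : Commute a'⁻¹ ⁅a, b⁆ :=
      (show Commute a' ⁅a, b⁆ from eq_one_of_sum c (by omega) (show 2 ≤ n - 2 by omega) (by omega) ha'm hdm).inv_left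
    have h4 : Commute ⁅a, b⁆ w := eq_one_of_sum c (show 2 ≤ n - 2 by omega) (by omega) (by omega) hdm hw
    have hδ : ⁅e, ⁅a, b⁆⁆ = φ i := by rw [hb, hj]
    refine ⟨?_, ?_⟩
    · have zc := center_comm c hgm
      have zd := center_comm c (hφm i hi (by omega))
      have key : a * w * a⁻¹ = φ i * (⁅a', b⁆)⁻¹ * w := by
        calc a * w * a⁻¹ = a'⁻¹ * (⁅e, ⁅a, b⁆⁆ * ⁅a, b⁆) * w * (b * a' * b⁻¹) * ⁅a, b⁆⁻¹ := by
              simp only [hea, hew, commutatorElement_def]; group
          _ = φ i * ((a'⁻¹ * ⁅a, b⁆) * w * ((⁅a', b⁆⁻¹ * a') * ⁅a, b⁆⁻¹)) := by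
              rw [hδ, show b * a' * b⁻¹ = ⁅a', b⁆⁻¹ * a' by simp only [commutatorElement_def]; group,
                ← mul_assoc a'⁻¹, zd a'⁻¹]
              group
          _ = φ i * ⁅a', b⁆⁻¹ * ((a'⁻¹ * (⁅a, b⁆ * w)) * a' * ⁅a, b⁆⁻¹) := by
              have zi : ∀ g, g * ⁅a', b⁆⁻¹ = ⁅a', b⁆⁻¹ * g := fun g =>
                ((show Commute g ⁅a', b⁆ from zc g).inv_right).eq
              rw [mul_assoc (⁅a', b⁆⁻¹) a', ← mul_assoc (a'⁻¹ * ⁅a, b⁆ * w), zi (a'⁻¹ * ⁅a, b⁆ * w)]
              group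
          _ = φ i * ⁅a', b⁆⁻¹ * w := by
              rw [(h3.mul_right h2).eq, h4.eq]; group
      calc ⁅a, w⁆ = a * w * a⁻¹ * w⁻¹ := commutatorElement_def a w
        _ = _ := by rw [key, mul_inv_cancel_right]
    · -- modulo the centre
      have hjj : x j = ⁅e, x (j - 1)⁆ := by
        have := hxs (j - 1) (by omega)
        rwa [show j - 1 + 1 = j by omega] at this
      set b' := x (j - 1) with hb'
      have hb'm := (hxm (j - 1) (by omega) (by omega)).1
      have hd' : ⁅a, b'⁆ ∈ T (n - 3) := by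
        rcases Nat.lt_or_ge i 2 with h | h
        · exact c.anti (by omega) (c.mem_step (show 1 ≤ j - 1 by omega) hb'm a)
        exact c.anti (by omega) (c.add i (j - 1) h (by omega) (Subgroup.commutator_mem_commutator hxi.1 hb'm))
      have hsum : ⁅a, b⁆ * ⁅a', b'⁆ ∈ T (n - 1) := by
        refine (QuotientGroup.eq_one_iff _).1 ?_
        show π (⁅a, b⁆ * ⁅a', b'⁆) = 1
        have q1 : Commute (π e) (π ⁅a, b'⁆) := he2' _ ⟨_, by rwa [show n - 1 - 2 = n - 3 by omega], rfl⟩
        have q2 : Commute (π a'⁻¹) (π b) := commute_mk.2 (by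
          rw [hb]
          exact c.anti (by omega) (c.add (i + 1) j (by omega) (by omega)
            (Subgroup.commutator_mem_commutator ((T _).inv_mem ha'm) hxj.1)))
        have q3 : Commute (π a'⁻¹) (π ⁅a, b'⁆) := commute_mk.2 (c.anti (by omega) (c.add (i + 1) (n - 3)
            (by omega) (by omega) (Subgroup.commutator_mem_commutator ((T _).inv_mem ha'm) hd')))
        have q4 : Commute (π ⁅a, b'⁆) (π b) := commute_mk.2 (by
          rw [hb]
          exact c.anti (by omega) (c.add (n - 3) j (by omega) (by omega)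
            (Subgroup.commutator_mem_commutator hd' hxj.1)))
        have q5 : Commute (π ⁅a', b'⁆) (π b) := commute_mk.2 (by
          refine c.anti (by omega) (c.add (n - 2) j (by omega) (by omega) (Subgroup.commutator_mem_commutator ?_ hxj.1))
          exact c.anti (by omega) (c.add (i + 1) (j - 1) (by omega) (by omega)
            (Subgroup.commutator_mem_commutator ha'm hb'm)))
        set D := π ⁅a, b'⁆ with hD
        set A' := π a' with hA'
        set W := π b with hW
        set g := π ⁅a', b'⁆ with hg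
        have eW : W = π e * π b' * (π e)⁻¹ * (π b')⁻¹ := by
          rw [hW, hb, hjj, map_commutatorElement, commutatorElement_def]
        rw [map_inv] at q2 q3
        change Commute A'⁻¹ W at q2
        change Commute A'⁻¹ D at q3
        have k1 : π a * W * (π a)⁻¹ = g⁻¹ * W := by
          calc π a * W * (π a)⁻¹ = A'⁻¹ * (π e * D) * π b' * (π e)⁻¹ * A' * (π b')⁻¹ * D⁻¹ := by
                simp only [eW, hA', hD, hea, map_commutatorElement, commutatorElement_def, map_mul, map_inv]; group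
            _ = A'⁻¹ * D * (W * (π b' * A' * (π b')⁻¹)) * D⁻¹ := by
                rw [q1.eq, eW]; group
            _ = (A'⁻¹ * D * W) * (g⁻¹ * A') * D⁻¹ := by
                simp only [hg, hA', map_commutatorElement, commutatorElement_def, map_mul, map_inv]; group
            _ = (A'⁻¹ * (D * W)) * A' * (A'⁻¹ * g⁻¹ * A') * D⁻¹ := by group
            _ = D * W * g⁻¹ * D⁻¹ := by
                have q6 : Commute A' g := commute_mk.2 (c.anti (by omega) (c.add (i + 1) (n - 2) (by omega)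
                  (by omega) (Subgroup.commutator_mem_commutator ha'm (c.anti (by omega)
                    (c.add (i + 1) (j - 1) (by omega) (by omega) (Subgroup.commutator_mem_commutator ha'm hb'm))))))
                rw [(q3.mul_right q2).eq, (q6.inv_left.inv_right).eq]; group
            _ = g⁻¹ * W := by
                have q7 : Commute D g := commute_mk.2 (c.anti (by omega) (c.add (n - 3) (n - 2) (by omega)
                  (by omega) (Subgroup.commutator_mem_commutator hd' (c.anti (by omega)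
                    (c.add (i + 1) (j - 1) (by omega) (by omega) (Subgroup.commutator_mem_commutator ha'm hb'm))))))
                rw [mul_assoc D W, (q4.mul_right q7.inv_right).eq, mul_inv_cancel_right, (q5.inv_left).eq]
        rw [map_mul, show π ⁅a, b⁆ = π a * W * (π a)⁻¹ * W⁻¹ by rw [map_commutatorElement, commutatorElement_def],
          k1, mul_inv_cancel_right, inv_mul_cancel]
      have hf' : f (i + 1) = ⁅a', b'⁆ := by
        simp only [hf, ha', hb']
        rw [show n - 2 - (i + 1) = j - 1 by omega]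
      rw [hf']
      have z1 : Commute e (⁅a, b⁆ * ⁅a', b'⁆) := center_comm c hsum e
      have z2 := center_comm c (hφm i hi (by omega))
      refine eq_inv_of_mul_eq_one_right ?_
      rw [← hδ] at z2 ⊢
      calc ⁅e, ⁅a, b⁆⁆ * ⁅e, ⁅a', b'⁆⁆
          = e * ⁅a, b⁆ * e⁻¹ * (⁅a, b⁆⁻¹ * ⁅e, ⁅a', b'⁆⁆) := by
            simp only [commutatorElement_def]; group
        _ = e * (⁅a, b⁆ * ⁅a', b'⁆) * e⁻¹ * (⁅a, b⁆ * ⁅a', b'⁆)⁻¹ := by
            have hz : ⁅e, ⁅a', b'⁆⁆ ∈ T (n - 1) := by rw [← hf']; exact hφm (i + 1) (by omega) (by omega)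
            rw [center_comm c hz ⁅a, b⁆⁻¹]
            simp only [commutatorElement_def]; group
        _ = 1 := by rw [z1.eq]; group
  -- solve the recursion
  have hg1 : ∀ i, 1 ≤ i → i + 1 ≤ m → φ i = φ 1 ^ ((-1 : ℤ) ^ (i + 1)) ∧
      ⁅x i, x (n - 1 - i)⁆ = φ 1 ^ ((-1 : ℤ) ^ i * ((i : ℤ) - 1)) := by
    intro i hi
    induction i, hi using Nat.le_induction with
    | base =>
      intro _
      refine ⟨by simp, ?_⟩
      have hh : ⁅x 1, x (n - 1 - 1)⁆ = 1 := commutatorElement_eq_one_iff_mul_comm.2 (hM _ hu₁ _ (by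
        rw [show n - 1 - 1 = n - 3 + 1 by omega, hxs (n - 3) (by omega), show n - 2 = n - 3 + 1 by omega]
        exact c.mem_step (by omega) (hxm (n - 3) (by omega) (by omega)).1 e))
      rw [hh]
      simp
    | succ i hi ih =>
      intro him
      obtain ⟨hA, hB⟩ := ih (by omega)
      obtain ⟨h1, h2⟩ := hxc i hi (by omega) _ rfl
      refine ⟨(h2.trans (by rw [hA, ← zpow_neg, pow_succ (-1 : ℤ) (i + 1)]; ring_nf)), ?_⟩
      rw [show n - 2 - i + 1 = n - 1 - i by omega, hB, hA, eq_mul_inv_iff_mul_eq,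
        ← eq_inv_mul_iff_mul_eq] at h1
      rw [show n - 1 - (i + 1) = n - 2 - i by omega, h1, ← zpow_neg, ← zpow_add]
      congr 1
      push_cast
      ring
  obtain ⟨hA, hB⟩ := hg1 (m - 1) (by omega) (by omega)
  have hφ1 : φ 1 ≠ 1 := by
    intro h
    have hf1 : f 1 ∈ T (n - 1) := by
      by_contra h'
      refine moves c hT (j := n - 2) (by omega) (by omega) (fun a ha b hb => ?_) he1 (hfm 1 le_rfl (by omega))
        (by rwa [show n - 2 + 1 = n - 1 by omega]) (by rw [show ⁅e, f 1⁆ = 1 from h]; exact one_mem _)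
      rw [commutatorElement_eq_one_iff_mul_comm.2 (hM a ha b hb)]
      exact one_mem _
    refine hbad fun a ha b hb => ?_
    rw [show n - 3 + 2 = n - 1 by omega]
    obtain ⟨k, -, w, hw, rfl⟩ := c.gen (by omega) hu₁ hu₁' ha
    obtain ⟨l, -, z, hz, rfl⟩ := c.gen (by omega) (hxm (n - 3) (by omega) (by omega)).1
      (hxm (n - 3) (by omega) (by omega)).2 hb
    rw [← commute_mk, map_mul, map_mul, map_pow, map_pow]
    have q0 : Commute (π u₁) (π (x (n - 3))) := commute_mk.2 (by
      have : f 1 = ⁅u₁, x (n - 3)⁆ := by simp only [hf, hx]; rw [show n - 2 - 1 = n - 3 by omega]; rfl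
      rwa [← this])
    have q1 : ∀ y ∈ T 2, ∀ v ∈ T (n - 3), Commute (π y) (π v) := fun y hy v hv => commute_mk.2
      (c.anti (by omega) (c.add 2 (n - 3) le_rfl (by omega) (Subgroup.commutator_mem_commutator hy hv)))
    have q2 : ∀ g, Commute (π g) (π z) := fun g => commute_mk.2 (c.anti (by omega) (c.mem_step (by omega) hz g))
    exact (((q0.pow_pow k l).mul_right ((q2 u₁).pow_left k))).mul_left
      (((q1 w hw _ (hxm (n - 3) (by omega) (by omega)).1).pow_right l).mul_right (q2 w))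
  obtain ⟨h1, -⟩ := hxc (m - 1) (by omega) (by omega) _ rfl
  have hend : φ 1 ^ ((m : ℤ) - 1) = 1 := by
    rw [show n - 2 - (m - 1) = m by omega, show m - 1 + 1 = m by omega, commutatorElement_self, inv_one, mul_one,
      show m + 1 = n - 1 - (m - 1) by omega, hB, hA] at h1
    have h2 : φ 1 ^ ((-1 : ℤ) ^ (m - 1) * ((((m - 1 : ℕ) : ℤ)) - 1) - (-1 : ℤ) ^ (m - 1 + 1)) = 1 := by
      rw [zpow_sub, h1, mul_inv_cancel]
    have h3 : (-1 : ℤ) ^ (m - 1) * ((((m - 1 : ℕ) : ℤ)) - 1) - (-1 : ℤ) ^ (m - 1 + 1)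
        = (-1 : ℤ) ^ (m - 1) * ((m : ℤ) - 1) := by
      rw [pow_succ, Nat.cast_sub (show 1 ≤ m by omega)]; push_cast; ring
    rw [h3] at h2
    rcases neg_one_pow_eq_or ℤ (m - 1) with h | h <;> rw [h] at h2
    · rwa [one_mul] at h2
    · rwa [neg_one_mul, zpow_neg, inv_eq_one] at h2
  have ho : orderOf (φ 1) = p := by
    refine (hp.out.eq_one_or_self_of_dvd _ ?_).resolve_left fun e => hφ1 (orderOf_eq_one_iff.1 e)
    have hcard : Nat.card (T (n - 1)) = p := by
      rw [c.card (n - 1) (by omega), show n - (n - 1) = 1 by omega, pow_one]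
    rw [← Subgroup.orderOf_mk (φ 1) (hφm 1 le_rfl (by omega)), ← hcard]
    exact orderOf_dvd_natCard _
  have hdvd := orderOf_dvd_iff_zpow_eq_one.2 hend
  rw [ho] at hdvd
  have := Int.le_of_dvd (by omega) hdvd
  omega

end CfsgLib.PearlFour
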