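import Cfsg.Agent.PearlFour.Setup
import Mathlib

/-!
No second transvection next to the given one; surjectivity and image helpers.
-/

set_option autoImplicit false
set_option linter.style.haveILetI false

open Cfsg
open scoped commutatorElement

namespace CfsgLib.PearlFour

open Cfsg.FusionSystem CfsgLib.Fusion CfsgLib.MaxPearl

universe u

variable {Ω : Type u} [Group Ω] {S : Subgroup Ω} [Finite S] {F : Cfsg.FusionSystem S}
variable {p n : ℕ} [hp : Fact p.Prime] {T : ℕ → Subgroup S} {E : Subgroup Ω}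

theorem AutOn.surj {H : Subgroup S} {f : S → S} (h : AutOn F H f) {K : Subgroup S} (hKH : K ≤ H)
    (hK : ∀ u ∈ K, f u ∈ K) : ∀ y ∈ K, ∃ u ∈ K, f u = y := by
  intro y hy
  obtain ⟨⟨u, hu⟩, he⟩ := (Finite.injective_iff_surjective (f := fun u : K => (⟨f u, hK u u.2⟩ : K))).1
    (fun a b hab => Subtype.ext (h.inj (hKH a.2) (hKH b.2) (congrArg Subtype.val hab))) ⟨y, hy⟩
  exact ⟨u, hu, congrArg Subtype.val he⟩

/-- The image of a subgroup under an automorphism of the system. -/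
theorem AutOn.image {H : Subgroup S} {f : S → S} (h : AutOn F H f) {K : Subgroup S} (hKH : K ≤ H) :
    ∃ Y : Subgroup S, (∀ u ∈ K, f u ∈ Y) ∧ Nat.card Y = Nat.card K ∧ F.IsConj (amb K) (amb Y) := by
  let φ : ↥K →* S := MonoidHom.mk' (fun a => f a) fun a b => h.mul (hKH a.2) (hKH b.2)
  have hc : Nat.card φ.range = Nat.card K := (Nat.card_congr (MonoidHom.ofInjective (f := φ) fun a b hab =>
    Subtype.ext (h.inj (hKH a.2) (hKH b.2) hab)).toEquiv).symm
  exact ⟨φ.range, fun u hu => ⟨⟨u, hu⟩, rfl⟩, hc, h.isConj hKH (fun u hu => ⟨⟨u, hu⟩, rfl⟩) hc.le⟩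

theorem isConj_map (P : Subgroup S) (x : S) :
    F.IsConj (amb P) (amb (P.map (MulAut.conj x).toMonoidHom)) := by
  refine ⟨(MulAut.conj (x : Ω)).toMonoidHom.comp (amb P).subtype, conj_of_eq (amb_le _) x.2 (fun v => rfl), ?_⟩
  rw [MonoidHom.range_comp, Subgroup.range_subtype]
  simp only [amb, Subgroup.map_map]
  congr 1

namespace Ctx

variable (C : Ctx F p n T E)
include C

/-- `E` is not conjugate to a normal subgroup of `S` unless its normalizer is everything. -/
theorem not_conj_normal (hNE : Nat.card (Subgroup.normalizer (E.subgroupOf S : Set S)) ≤ p ^ 4) {Y : Subgroup S}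
    (hY : Y.Normal) (h : F.IsConj E (amb Y)) : False := by
  have h1 := C.hE.2.1.2 _ h
  have h2 : normalizerIn S E = amb (Subgroup.normalizer (E.subgroupOf S : Set S)) := by
    rw [← normalizerIn_amb, amb_subgroupOf C.le]
  rw [normalizerIn_amb, card_amb, Subgroup.normalizer_eq_top_iff.2 hY, Subgroup.card_top, C.c.hG, h2, card_amb] at h1
  have h3 := h1.trans hNE
  rw [Nat.pow_le_pow_iff_right hp.out.one_lt] at h3
  have := C.h5
  omega

/-- Next to a transvection no other element moves `E` into its axis. -/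
theorem rigid {g₀ A c₀ : S} (hg₀ : g₀ ∈ Subgroup.normalizer (E.subgroupOf S : Set S)) (hg₀E : g₀ ∉ E.subgroupOf S)
    (hA : A ∈ E.subgroupOf S) (hgA : g₀ * A = A * g₀) (hdisp : ∀ u ∈ E.subgroupOf S, ⁅g₀, u⁆ ∈ Subgroup.zpowers A)
    (hfix : ∀ u ∈ E.subgroupOf S, g₀ * u = u * g₀ → ∃ i m : ℕ, u = A ^ i * c₀ ^ m) (hc₀ : c₀ ∈ E.subgroupOf S)
    (hgc : g₀ * c₀ = c₀ * g₀)
    {g : S} (hgA' : g * A = A * g) (hgc' : ⁅g, c₀⁆ ∈ Subgroup.zpowers A)
    (hg : ∀ u ∈ E.subgroupOf S, ∃ i m : ℕ, ⁅g, u⁆ = A ^ i * c₀ ^ m) :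
    g ∈ E.subgroupOf S ⊔ Subgroup.zpowers g₀ := by
  classical
  by_contra hcon
  have hdispE : ∀ u ∈ E.subgroupOf S, ⁅g, u⁆ ∈ E.subgroupOf S := fun u hu => by
    obtain ⟨i, m, h⟩ := hg u hu
    rw [h]; exact mul_mem (pow_mem hA i) (pow_mem hc₀ m)
  have hgN := C.norm_of_comm hdispE
  obtain ⟨H, hH⟩ := exists_core C.hS C.hF C.hE C.hab
  obtain ⟨hxa, hxe⟩ := C.transvection hg₀ hA hgA hdisp
  have hx1 := C.cg_ne_one hg₀ hg₀E
  have hxS := C.cg_mem hg₀
  have htA : C.cg hgN ∈ F.autGroup E := autInducedBy_le_autGroup C.le (C.cg_mem hgN)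
  have hta : C.cg hgN ⟨A, hA⟩ = ⟨A, hA⟩ := (C.cg_fix hgN _).2 (commutatorElement_eq_one_iff_mul_comm.2 hgA')
  -- `E`-valued forms
  set a : E := ⟨A, hA⟩ with ha
  set c : E := ⟨c₀, hc₀⟩ with hc
  set x := C.cg hg₀
  set t := C.cg hgN
  have hxc : x c = c := (C.cg_fix hg₀ _).2 (commutatorElement_eq_one_iff_mul_comm.2 hgc)
  have hfix' : ∀ e, x e = e → ∃ i m : ℕ, e = a ^ i * c ^ m := fun e he => by
    obtain ⟨i, m, h⟩ := hfix ⟨e, C.le e.2⟩ e.2 (commutatorElement_eq_one_iff_mul_comm.1 ((C.cg_fix hg₀ e).1 he))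
    refine ⟨i, m, Subtype.ext ?_⟩
    have h' := congrArg (fun z : S => (z : Ω)) h
    simp only [Subgroup.coe_mul, SubmonoidClass.coe_pow] at h' ⊢
    exact h'
  have hte : ∀ e : E, ∃ i m : ℕ, t e = e * (a ^ i * c ^ m) := fun e => by
    obtain ⟨i, m, h⟩ := hg ⟨e, C.le e.2⟩ e.2
    refine ⟨i, m, ?_⟩
    rw [C.hab e]
    apply Subtype.ext
    rw [C.cg_apply hgN, h]
    simp only [Subgroup.coe_mul, SubmonoidClass.coe_pow, ha, hc]
  have ht1 : ∀ e, x e = e → ∃ r : ℕ, t e = e * a ^ r := fun e he => by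
    obtain ⟨i, m, rfl⟩ := hfix' e he
    obtain ⟨r, hr⟩ := C.nat_of_zpowers (C.exp0 hA) hgc'
    have hc' : t c = c * a ^ r := by
      rw [C.hab c]
      apply Subtype.ext
      rw [C.cg_apply hgN, hr]
      simp only [Subgroup.coe_mul, SubmonoidClass.coe_pow, ha, hc]
    refine ⟨r * m, ?_⟩
    rw [map_mul, map_pow, map_pow, hta, hc', (show Commute c (a ^ r) from C.hab _ _).mul_pow, ← pow_mul, mul_assoc]
  have ht2 : ∀ e, x (e⁻¹ * t e) = e⁻¹ * t e := fun e => by
    obtain ⟨i, m, h⟩ := hte e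
    rw [h, inv_mul_cancel_left, map_mul, map_pow, map_pow, hxa, hxc]
  by_cases hall : ∀ e, ∃ r : ℕ, t e = e * a ^ r
  · -- displacement along the centre
    by_cases hmv : ∃ e, x e = e ∧ t e ≠ e
    · exact centre_false C.hab C.hexp hH C.le hxS hx1 hxa hxe htA hta hall hmv
    push Not at hmv
    -- a power of the transvection agrees with `t`
    obtain ⟨b, k, s, w, y, o, -⟩ := exists_opp C.hab C.hexp hH C.le hxS hx1 hxa hxe
    obtain ⟨i, hi⟩ := hall b
    obtain ⟨q, hq⟩ := exists_coeff (p := p) o.kne i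
    have hxq : ∀ e, x e = e → (x ^ q) e = e := fun e he => by
      rw [pow_transvection hxa (show x e = e * a ^ 0 by rw [he, pow_zero, mul_one]) q, zero_mul, pow_zero, mul_one]
    have heq : ∀ e, (x ^ q) (t e) = e := by
      intro e
      obtain ⟨i', l, z, he, hz1, hz2⟩ := o.decomp e
      have hb : (x ^ q) (t b) = b := by
        rw [hi, map_mul, map_pow, pow_transvection hxa o.xb q, hxq a hxa, mul_assoc, ← pow_add,
          pow_dvd_one C.hexp a (show (k * q + i) % p = 0 by rw [add_comm]; exact hq), mul_one]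
      rw [he, map_mul t, map_mul t, map_mul (x ^ q), map_mul (x ^ q), map_pow t, map_pow t, map_pow (x ^ q),
        map_pow (x ^ q), hta, hxq a hxa, hb, hmv z hz1, hxq z hz1]
    refine hcon ?_
    have hh : g₀ ^ q * g ∈ E.subgroupOf S := by
      refine C.self_cent fun v hv => ?_
      have hm : g₀ ^ q * g ∈ Subgroup.normalizer (E.subgroupOf S : Set S) := mul_mem (pow_mem hg₀ q) hgN
      have h1 : C.cg hm ⟨v, hv⟩ = ⟨v, hv⟩ := by
        have : C.cg hm = x ^ q * t := by
          show conjAut E S _ = conjAut E S _ ^ q * conjAut E S _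
          rw [← map_pow, ← map_mul]
          rfl
        rw [this, MulAut.mul_apply]
        exact heq _
      exact commutatorElement_eq_one_iff_mul_comm.1 ((C.cg_fix hm _).1 h1)
    have := Subgroup.mul_mem _ (inv_mem (Subgroup.pow_mem _ (Subgroup.mem_sup_right (S := E.subgroupOf S) (Subgroup.mem_zpowers g₀)) q))
      (Subgroup.mem_sup_left (T := Subgroup.zpowers g₀) hh)
    rwa [inv_mul_cancel_left] at this
  push Not at hall
  by_cases hmv : ∀ e, x e = e → t e = e
  · exact axis_false C.hab C.hexp hH C.le hxS hx1 hxa hxe htA hmv ht2 hall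
  push Not at hmv
  exact regular_false C.hab C.hexp hH C.le hxS hx1 hxa hxe htA hta ht1 ht2 hall hmv hfix'

end Ctx

end CfsgLib.PearlFour
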