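import Cfsg.Agent.Fusion.EssentialPair
import Cfsg.Agent.Fusion.ChainStab
import Mathlib

/-!
Essential abelian subgroups with a transvection: opposite pairs, their involution, and configurations excluded by
strong embedding; extension of automorphisms to the normalizer.
-/

set_option autoImplicit false
set_option linter.style.haveILetI false

open Cfsg

namespace CfsgLib.PearlFour

open Cfsg.FusionSystem CfsgLib.Fusion
open scoped Pointwise

variable {Ω : Type*} [Group Ω] {S : Subgroup Ω} [Finite S] {F : Cfsg.FusionSystem S} {E : Subgroup Ω}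
variable {p : ℕ} [hp : Fact p.Prime]

/-- What the strongly embedded subgroup gives inside `Aut_F(E)`. -/
structure Core (F : Cfsg.FusionSystem S) (p : ℕ) (E : Subgroup Ω) (H : Subgroup (MulAut E)) : Prop where
  proper : ∃ g ∈ F.autGroup E, g ∉ H
  ofS : autInducedBy S E ≤ H
  reach : ∀ q r : MulAut E, q ∈ F.autGroup E → r ∈ F.autGroup E → q ∈ H → q ≠ 1 → q ^ p = 1 → r ^ p = 1 →
    Commute q r → r ∈ H
  back : ∀ q g : MulAut E, q ∈ autInducedBy S E → q ≠ 1 → q ^ p = 1 → g ∈ F.autGroup E → g * q * g⁻¹ ∈ H → g ∈ H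

theorem inn_bot (hab : ∀ x y : E, x * y = y * x) : Cfsg.Inn E = ⊥ := by
  rw [eq_bot_iff]
  rintro _ ⟨g, rfl⟩
  refine Subgroup.mem_bot.2 (MulEquiv.ext fun x => ?_)
  simp [hab g x]

set_option maxHeartbeats 1000000 in
theorem exists_core (hS : IsPGroup p S) (hF : F.IsSaturated p) (hE : F.IsEssential p E)
    (hab : ∀ x y : E, x * y = y * x) : ∃ H : Subgroup (MulAut E), Core F p E H := by
  obtain ⟨hc, hn, hI, K, hdvd, hKne, R, hR⟩ := hE
  haveI := hI
  haveI := finite_mulAut hc.1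
  set A := F.autGroup E
  set π := QuotientGroup.mk' ((Cfsg.Inn E).subgroupOf A) with hπdef
  have hπ : Function.Surjective π := QuotientGroup.mk'_surjective _
  have hinj : ∀ a : A, π a = 1 → a = 1 := fun a h => by
    have h2 := (QuotientGroup.eq_one_iff _).1 h
    rw [Subgroup.mem_subgroupOf, inn_bot hab, Subgroup.mem_bot] at h2
    exact Subtype.ext h2
  obtain ⟨-, T, hT⟩ := fullyAutomized_of_fullyNormalized hS hF hn
  set R₀ : Sylow p (A ⧸ (Cfsg.Inn E).subgroupOf A) := T.mapSurjective hπ with hR₀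
  obtain ⟨x₀, hx₀⟩ := MulAction.exists_smul_eq (A ⧸ (Cfsg.Inn E).subgroupOf A) R R₀
  obtain ⟨c, hc'⟩ := hπ x₀
  -- move the strongly embedded subgroup over the Sylow subgroup induced by `S`
  set K₀ : Subgroup (A ⧸ (Cfsg.Inn E).subgroupOf A) := MulAut.conj x₀ • K with hK₀
  have hR0 : (R₀ : Subgroup (A ⧸ (Cfsg.Inn E).subgroupOf A)) =
      MulAut.conj x₀ • (R : Subgroup (A ⧸ (Cfsg.Inn E).subgroupOf A)) := by
    rw [← hx₀, Sylow.coe_subgroup_smul]
  have hRne : (R : Subgroup (A ⧸ (Cfsg.Inn E).subgroupOf A)) ≠ ⊥ := R.ne_bot_of_dvd_card hdvd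
  have hRK : (R : Subgroup (A ⧸ (Cfsg.Inn E).subgroupOf A)) ≤ K :=
    Subgroup.le_normalizer.trans (normalizer_le_of_core_le hR le_rfl hRne)
  have hmem : ∀ y, y ∈ K₀ ↔ x₀⁻¹ * y * x₀ ∈ K := fun y => by
    rw [hK₀, Subgroup.mem_pointwise_smul_iff_inv_smul_mem]; simp
  have hmemR : ∀ y, y ∈ (R₀ : Subgroup _) ↔ x₀⁻¹ * y * x₀ ∈ (R : Subgroup _) := fun y => by
    rw [hR0, Subgroup.mem_pointwise_smul_iff_inv_smul_mem]; simp
  refine ⟨((K.comap ((MulAut.conj x₀⁻¹).toMonoidHom.comp π))).map A.subtype, ?_, ?_, ?_, ?_⟩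
  · by_contra h
    push Not at h
    refine hKne (eq_top_iff.2 fun y _ => ?_)
    obtain ⟨a, ha⟩ := hπ (x₀ * y * x₀⁻¹)
    obtain ⟨a', ha', e⟩ := h a a.2
    obtain rfl := Subtype.ext e
    have h2 : x₀⁻¹ * π a' * x₀ ∈ K := by simpa using ha'
    rw [ha] at h2
    simpa [mul_assoc] using h2
  · intro t ht
    refine ⟨⟨t, autInducedBy_le_autGroup hc.1 ht⟩, ?_, rfl⟩
    show (MulAut.conj x₀⁻¹).toMonoidHom (π _) ∈ K
    have : π ⟨t, autInducedBy_le_autGroup hc.1 ht⟩ ∈ (R₀ : Subgroup _) := by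
      rw [hR₀, Sylow.coe_mapSurjective, hT]
      exact ⟨_, Subgroup.mem_subgroupOf.2 ht, rfl⟩
    simpa using hRK ((hmemR _).1 this)
  · rintro q r hq hr ⟨q', hqK, rfl⟩ hq1 hqp hrp hcomm
    set P := MulAut.conj x₀⁻¹
    set φ := P.toMonoidHom.comp π with hφ
    have hφinj : ∀ a : A, φ a = 1 → a = 1 := fun a h => hinj a (P.injective (h.trans (map_one P).symm))
    set Q := φ q' with hQ
    set r' : A := ⟨r, hr⟩
    set Rr := φ r' with hRr
    refine ⟨r', ?_, rfl⟩
    show Rr ∈ K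
    have hQK : Q ∈ K := hqK
    have hQ1 : Q ≠ 1 := fun h => hq1 (congrArg Subtype.val (hφinj q' h))
    have hQp : Q ^ p = 1 := by rw [hQ, ← map_pow, show q' ^ p = 1 from Subtype.ext hqp, map_one]
    have hRp : Rr ^ p = 1 := by rw [hRr, ← map_pow, show r' ^ p = 1 from Subtype.ext hrp, map_one]
    have hQR : Commute Q Rr := (show Commute q' r' from Subtype.ext hcomm.eq).map φ
    have hz : ∀ X : A ⧸ (Cfsg.Inn E).subgroupOf A, X ^ p = 1 → IsPGroup p (Subgroup.zpowers X) := fun X hX =>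
      IsPGroup.of_card_dvd_pow (n := 1) (by rw [pow_one, Nat.card_zpowers]; exact orderOf_dvd_of_pow_eq_one hX)
    have hpg : IsPGroup p ↥(Subgroup.zpowers Q ⊔ Subgroup.zpowers Rr) :=
      (hz Q hQp).to_sup_of_normal_right' (hz Rr hRp) (by
        rw [Subgroup.zpowers_le, Subgroup.mem_normalizer_iff]
        intro y
        constructor
        · rintro ⟨i, rfl⟩
          exact ⟨i, by rw [(hQR.zpow_right i).eq, mul_inv_cancel_right]⟩
        · rintro ⟨i, hi⟩
          exact ⟨i, by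
            have : y = Q⁻¹ * Rr ^ i * Q := by rw [show Rr ^ i = Q * y * Q⁻¹ from hi]; group
            rw [this, ((hQR.zpow_right i).inv_left).eq, inv_mul_cancel_right]⟩)
    obtain ⟨R₁, hR₁⟩ := hpg.exists_le_sylow
    obtain ⟨S₁, hS₁⟩ : ∃ S₁ : Sylow p K, Subgroup.zpowers (⟨Q, hQK⟩ : K) ≤ S₁ :=
      IsPGroup.exists_le_sylow (IsPGroup.of_card_dvd_pow (n := 1) (by
        rw [pow_one, Nat.card_zpowers]
        exact orderOf_dvd_of_pow_eq_one (Subtype.ext hQp)))
    obtain ⟨e, he⟩ := MulAction.exists_smul_eq K (R.subtype hRK) S₁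
    have hQe : (e : A ⧸ (Cfsg.Inn E).subgroupOf A)⁻¹ * Q * e ∈ (R : Subgroup _) := by
      have := hS₁ (Subgroup.mem_zpowers _)
      rw [← he, Sylow.coe_subgroup_smul, Subgroup.mem_pointwise_smul_iff_inv_smul_mem,
        Sylow.coe_subtype, Subgroup.mem_subgroupOf] at this
      simpa using this
    set R₂ : Sylow p (A ⧸ (Cfsg.Inn E).subgroupOf A) := (e : A ⧸ (Cfsg.Inn E).subgroupOf A)⁻¹ • R₁
    have hm2 : ∀ y ∈ (R₁ : Subgroup _), (e : A ⧸ (Cfsg.Inn E).subgroupOf A)⁻¹ * y * e ∈ (R₂ : Subgroup _) :=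
      fun y hy => by
        rw [Sylow.coe_subgroup_smul]
        simpa using Subgroup.smul_mem_pointwise_smul y (MulAut.conj (e : A ⧸ (Cfsg.Inn E).subgroupOf A)⁻¹) _ hy
    have hne : (R : Subgroup (A ⧸ (Cfsg.Inn E).subgroupOf A)) ⊓ R₂ ≠ ⊥ := fun h => hQ1 (by
      have : (e : A ⧸ (Cfsg.Inn E).subgroupOf A)⁻¹ * Q * e ∈ (⊥ : Subgroup _) :=
        h ▸ ⟨hQe, hm2 Q (hR₁ (Subgroup.mem_sup_left (Subgroup.mem_zpowers Q)))⟩
      simpa [Subgroup.mem_bot, mul_eq_one_iff_eq_inv] using this)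
    have := sylow_le_of_inf_ne_bot hR R₂ hne (hm2 Rr (hR₁ (Subgroup.mem_sup_right (Subgroup.mem_zpowers Rr))))
    simpa [mul_assoc] using K.mul_mem (K.mul_mem e.2 this) (K.inv_mem e.2)
  · rintro q g hq hq1 hqp hg ⟨y, hy, hyeq⟩
    refine ⟨⟨g, hg⟩, ?_, rfl⟩
    set q' : A := ⟨q, autInducedBy_le_autGroup hc.1 hq⟩
    have hy' : y = ⟨g, hg⟩ * q' * (⟨g, hg⟩ : A)⁻¹ := Subtype.ext hyeq
    set φ := (MulAut.conj x₀⁻¹).toMonoidHom.comp π with hφ
    have hqR : φ q' ∈ (R : Subgroup _) := by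
      have : π q' ∈ (R₀ : Subgroup _) := by
        rw [hR₀, Sylow.coe_mapSurjective, hT]
        exact ⟨_, Subgroup.mem_subgroupOf.2 hq, rfl⟩
      simpa [hφ] using (hmemR _).1 this
    have hgK : φ ⟨g, hg⟩ * φ q' * (φ ⟨g, hg⟩)⁻¹ ∈ K := by
      rw [← map_inv, ← map_mul, ← map_mul, ← hy']; exact hy
    set G' := φ ⟨g, hg⟩
    set X := G' * φ q' * G'⁻¹ with hX
    have hX1 : φ q' ≠ 1 := fun h => hq1 (congrArg Subtype.val (hinj q' ((MulAut.conj x₀⁻¹).injective
      (h.trans (map_one _).symm))))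
    obtain ⟨S₁, hS₁⟩ : ∃ S₁ : Sylow p K, Subgroup.zpowers (⟨X, hgK⟩ : K) ≤ S₁ :=
      IsPGroup.exists_le_sylow (IsPGroup.of_card_dvd_pow (n := 1) (by
        rw [pow_one, Nat.card_zpowers]
        refine orderOf_dvd_of_pow_eq_one (Subtype.ext ?_)
        show X ^ p = 1
        rw [hX, conj_pow, ← map_pow, show q' ^ p = 1 from Subtype.ext hqp, map_one, mul_one, mul_inv_cancel]))
    obtain ⟨e, he⟩ := MulAction.exists_smul_eq K (R.subtype hRK) S₁
    have hXe : (e : A ⧸ (Cfsg.Inn E).subgroupOf A)⁻¹ * X * e ∈ (R : Subgroup _) := by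
      have := hS₁ (Subgroup.mem_zpowers _)
      rw [← he, Sylow.coe_subgroup_smul, Subgroup.mem_pointwise_smul_iff_inv_smul_mem,
        Sylow.coe_subtype, Subgroup.mem_subgroupOf] at this
      simpa using this
    have := mem_of_conj_mem hR (g := (e : A ⧸ (Cfsg.Inn E).subgroupOf A)⁻¹ * G') hqR hX1 (by
      rw [show (e : A ⧸ (Cfsg.Inn E).subgroupOf A)⁻¹ * G' * φ q' * ((e : A ⧸ (Cfsg.Inn E).subgroupOf A)⁻¹ * G')⁻¹ =
        (e : A ⧸ (Cfsg.Inn E).subgroupOf A)⁻¹ * X * e by rw [hX]; group]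
      exact hXe)
    simpa using K.mul_mem e.2 this

/-- The opposite pair attached to a transvection. -/
structure Opp (F : Cfsg.FusionSystem S) (p : ℕ) (E : Subgroup Ω) (x : MulAut E) (a b : E) (k : ℕ)
    (s w y : MulAut E) : Prop where
  xA : x ∈ F.autGroup E
  yA : y ∈ F.autGroup E
  yp : y ^ p = 1
  sA : s ∈ F.autGroup E
  wA : w ∈ F.autGroup E
  xa : x a = a
  xb : x b = b * a ^ k
  kne : ¬ p ∣ k
  sa : ∃ j : ℕ, ¬ p ∣ j ∧ s a = b ^ j
  sb : s b = a ^ k
  sfix : ∀ z : E, x z = z → y z = z → s z = z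
  wfix : ∀ z : E, x z = z → y z = z → w z = z
  wa : w a = a⁻¹
  wb : w b = b⁻¹
  decomp : ∀ e : E, ∃ i l : ℕ, ∃ z : E, e = a ^ i * b ^ l * z ∧ x z = z ∧ y z = z
  s_y : ∀ H : Subgroup (MulAut E), x ∈ H → s ∈ H → y ∈ H

theorem exists_coeff {k : ℕ} (hk : ¬ p ∣ k) (r : ℕ) : ∃ l : ℕ, (r + k * l) % p = 0 := by
  haveI : NeZero p := ⟨hp.out.ne_zero⟩
  refine ⟨((-(r : ZMod p)) / (k : ZMod p)).val, ?_⟩
  have hk' : (k : ZMod p) ≠ 0 := fun h => hk ((ZMod.natCast_eq_zero_iff k p).1 h)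
  have : ((r + k * ((-(r : ZMod p)) / (k : ZMod p)).val : ℕ) : ZMod p) = 0 := by
    push_cast
    rw [ZMod.natCast_zmod_val, mul_div_cancel₀ _ hk']
    ring
  exact Nat.mod_eq_zero_of_dvd ((ZMod.natCast_eq_zero_iff _ p).1 this)

theorem pow_dvd_one (hexp : ∀ e : E, e ^ p = 1) (e : E) {r : ℕ} (h : r % p = 0) : e ^ r = 1 := by
  obtain ⟨t, ht⟩ := Nat.dvd_of_mod_eq_zero h
  rw [ht, pow_mul, hexp, one_pow]

theorem not_dvd_of_ne (hexp : ∀ e : E, e ^ p = 1) {e : E} {r : ℕ} (h : e ^ r ≠ 1) : ¬ p ∣ r :=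
  fun hd => h (pow_dvd_one hexp e (Nat.mod_eq_zero_of_dvd hd))

theorem eq_one_of_pow (hexp : ∀ e : E, e ^ p = 1) {e : E} {r : ℕ} (hr : ¬ p ∣ r) (h : e ^ r = 1) : e = 1 := by
  have h1 : orderOf e ∣ p := orderOf_dvd_of_pow_eq_one (hexp e)
  have h2 : orderOf e ∣ r := orderOf_dvd_of_pow_eq_one h
  rcases (Nat.dvd_prime hp.out).1 h1 with h3 | h3
  · exact orderOf_eq_one_iff.1 h3
  · exact absurd (h3 ▸ h2) hr

theorem pow_transvection {x : MulAut E} {a : E} (hxa : x a = a) {e : E} {r : ℕ} (h : x e = e * a ^ r) :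
    ∀ m : ℕ, (x ^ m) e = e * a ^ (r * m)
  | 0 => by simp
  | m + 1 => by rw [pow_succ', MulAut.mul_apply, pow_transvection hxa h m, map_mul, map_pow, hxa, h, mul_assoc,
      ← pow_add]; ring_nf

theorem transvection_pow_p (hexp : ∀ e : E, e ^ p = 1) {x : MulAut E} {a : E} (hxa : x a = a)
    (hx : ∀ e, ∃ r : ℕ, x e = e * a ^ r) : x ^ p = 1 := by
  refine MulEquiv.ext fun e => ?_
  obtain ⟨r, hr⟩ := hx e
  rw [pow_transvection hxa hr, pow_dvd_one hexp a (Nat.mul_mod_left r p), mul_one]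
  rfl

/-- A transvection induced by `S` has an opposite conjugate. -/
theorem exists_opp (hab : ∀ x y : E, x * y = y * x) (hexp : ∀ e : E, e ^ p = 1) {H : Subgroup (MulAut E)}
    (hH : Core F p E H) (hxS : E ≤ S) {x : MulAut E} (hx : x ∈ autInducedBy S E) (hx1 : x ≠ 1) {a : E}
    (hxa : x a = a) (hxe : ∀ e, ∃ r : ℕ, x e = e * a ^ r) :
    ∃ (b : E) (k : ℕ) (s w y : MulAut E), Opp F p E x a b k s w y ∧ (∃ g ∈ F.autGroup E, y = g * x * g⁻¹ ∧ g ∉ H) := by
  have hxA : x ∈ F.autGroup E := autInducedBy_le_autGroup hxS hx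
  have hxp := transvection_pow_p hexp hxa hxe
  obtain ⟨g, hg, hgH⟩ := hH.proper
  set y := g * x * g⁻¹ with hy
  set b := g a with hb
  have hyA : y ∈ F.autGroup E := mul_mem (mul_mem hg hxA) (inv_mem hg)
  have hyp : y ^ p = 1 := by rw [hy, conj_pow, hxp, mul_one, mul_inv_cancel]
  have hyb : y b = b := by simp [hy, hb, hxa]
  have hye : ∀ e, ∃ r : ℕ, y e = e * b ^ r := fun e => by
    obtain ⟨r, hr⟩ := hxe (g⁻¹ e)
    refine ⟨r, ?_⟩
    show g (x (g⁻¹ e)) = _
    rw [hr, map_mul, map_pow, MulAut.apply_inv_self]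
  obtain ⟨k, hk⟩ := hxe b
  obtain ⟨l, hl⟩ := hye a
  have hyH : y ∉ H := fun h => hgH (hH.back x g hx hx1 hxp hg h)
  have hcom : ∀ u v : E, Commute u v := hab
  have hk1 : a ^ k ≠ 1 := by
    intro h
    rw [h, mul_one] at hk
    by_cases hl1 : b ^ l = 1
    · refine hyH (hH.reach x y hxA hyA (hH.ofS hx) hx1 hxp hyp (MulEquiv.ext fun e => ?_))
      obtain ⟨r, hr⟩ := hxe e
      obtain ⟨q, hq⟩ := hye e
      rw [hl1, mul_one] at hl
      show x (y e) = y (x e)
      rw [hq, hr, map_mul, map_mul, map_pow, map_pow, hk, hl, hr, hq, mul_assoc, mul_assoc, hab (a ^ r) (b ^ q)]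
    · set u := x * y * (y * x)⁻¹ with hu
      have key : ∀ e, ∃ m : ℕ, x (y e) = y (x e) * (b ^ m)⁻¹ ∧ (x e ≠ e → b ^ m ≠ 1) := fun e => by
        obtain ⟨r, hr⟩ := hxe e
        obtain ⟨q, hq⟩ := hye e
        refine ⟨l * r, ?_, fun hne => fun h1 => ?_⟩
        · rw [hq, map_mul, map_pow, hk, hr, map_mul, map_pow, hl, hq, (hcom a (b ^ l)).mul_pow, ← pow_mul,
            mul_assoc e (b ^ q), ← mul_assoc (b ^ q), hab (b ^ q) (a ^ r)]
          group
        · rw [mul_comm, pow_mul] at h1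
          by_cases hd : p ∣ r
          · exact hne (by rw [hr, pow_dvd_one hexp a (Nat.mod_eq_zero_of_dvd hd), mul_one])
          · rw [← pow_mul, mul_comm, pow_mul] at h1
            exact hl1 (eq_one_of_pow hexp hd h1)
      have hua : ∀ c : E, x c = c → y c = c → u c = c := fun c h1 h2 => by
        have : (y * x) c = c := by rw [MulAut.mul_apply, h1, h2]
        show (x * y) ((y * x)⁻¹ c) = c
        conv_lhs => rw [← this, MulAut.inv_apply_self]
        rw [MulAut.mul_apply, h2, h1]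
      have hub : u b = b := hua b hk hyb
      have huv : ∀ v, ∃ m : ℕ, u v = v * b ^ m := fun v => by
        obtain ⟨m, hm, -⟩ := key ((y * x)⁻¹ v)
        refine ⟨(p - 1) * m, ?_⟩
        show (x * y) ((y * x)⁻¹ v) = _
        rw [MulAut.mul_apply, hm, ← MulAut.mul_apply, MulAut.apply_inv_self]
        congr 1
        rw [inv_eq_iff_mul_eq_one, ← pow_add]
        exact pow_dvd_one hexp b (by rw [show m + (p - 1) * m = p * m by
          rw [← one_add_mul, Nat.add_sub_cancel' hp.out.one_lt.le]]; exact Nat.mul_mod_right p m)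
      have hup := transvection_pow_p hexp hub huv
      have huA : u ∈ F.autGroup E := mul_mem (mul_mem hxA hyA) (inv_mem (mul_mem hyA hxA))
      have hu1 : u ≠ 1 := by
        intro h
        obtain ⟨e, he⟩ : ∃ e, x e ≠ e := by
          by_contra h'; push Not at h'; exact hx1 (MulEquiv.ext h')
        obtain ⟨m, hm, hm1⟩ := key e
        have : x * y = y * x := mul_inv_eq_one.1 h
        have h2 := congrArg (fun f : MulAut E => f e) this
        simp only [MulAut.mul_apply] at h2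
        rw [h2, left_eq_mul, inv_eq_one] at hm
        exact hm1 he hm
      have cux : Commute x u := MulEquiv.ext fun e => by
        obtain ⟨r, hr⟩ := hxe e
        obtain ⟨m, hm⟩ := huv e
        have hua' : u a = a := by
          obtain ⟨m', hm', -⟩ := key a
          have : u ((y * x) a) = (x * y) a := by show (x * y) ((y * x)⁻¹ _) = _; rw [MulAut.inv_apply_self]
          simp only [MulAut.mul_apply, hxa, hl, map_mul, map_pow, hub, hk] at this
          exact mul_right_cancel this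
        show x (u e) = u (x e)
        rw [hm, hr, map_mul, map_mul, map_pow, map_pow, hr, hm, hk, hua', mul_assoc, mul_assoc, hab (a ^ r)]
      have cuy : Commute u y := MulEquiv.ext fun e => by
        obtain ⟨r, hr⟩ := hye e
        obtain ⟨m, hm⟩ := huv e
        show u (y e) = y (u e)
        rw [hr, hm, map_mul, map_mul, map_pow, map_pow, hr, hm, hyb, hub, mul_assoc, mul_assoc, hab (b ^ m)]
      have huH := hH.reach x u hxA huA (hH.ofS hx) hx1 hxp hup cux
      exact hyH (hH.reach u y huA hyA huH hu1 hup hyp cuy)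
  have hl1 : b ^ l ≠ 1 := by
    intro h
    rw [h, mul_one] at hl
    set u := y * x * (x * y)⁻¹ with hu
    have key : ∀ e, ∃ m : ℕ, y (x e) = x (y e) * (a ^ m)⁻¹ ∧ (y e ≠ e → a ^ m ≠ 1) := fun e => by
      obtain ⟨r, hr⟩ := hxe e
      obtain ⟨q, hq⟩ := hye e
      refine ⟨k * q, ?_, fun hne => fun h1 => ?_⟩
      · rw [hr, map_mul, map_pow, hl, hq, map_mul, map_pow, hk, hr, (hcom b (a ^ k)).mul_pow, ← pow_mul,
          mul_assoc e (a ^ r), ← mul_assoc (a ^ r), hab (a ^ r) (b ^ q)]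
        group
      · by_cases hd : p ∣ q
        · exact hne (by rw [hq, pow_dvd_one hexp b (Nat.mod_eq_zero_of_dvd hd), mul_one])
        · rw [pow_mul] at h1
          exact hk1 (eq_one_of_pow hexp hd h1)
    have hua : u a = a := by
      have : u ((x * y) a) = (y * x) a := by show (y * x) ((x * y)⁻¹ _) = _; rw [MulAut.inv_apply_self]
      simpa only [MulAut.mul_apply, hxa, hl] using this
    have hub : u b = b := by
      have : u ((x * y) b) = (y * x) b := by show (y * x) ((x * y)⁻¹ _) = _; rw [MulAut.inv_apply_self]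
      simp only [MulAut.mul_apply, hyb, hk, map_mul, map_pow, hua, hl] at this
      exact mul_right_cancel this
    have huv : ∀ v, ∃ m : ℕ, u v = v * a ^ m := fun v => by
      obtain ⟨m, hm, -⟩ := key ((x * y)⁻¹ v)
      refine ⟨(p - 1) * m, ?_⟩
      show (y * x) ((x * y)⁻¹ v) = _
      rw [MulAut.mul_apply, hm, ← MulAut.mul_apply, MulAut.apply_inv_self]
      congr 1
      rw [inv_eq_iff_mul_eq_one, ← pow_add]
      exact pow_dvd_one hexp a (by rw [show m + (p - 1) * m = p * m by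
        rw [← one_add_mul, Nat.add_sub_cancel' hp.out.one_lt.le]]; exact Nat.mul_mod_right p m)
    have hup := transvection_pow_p hexp hua huv
    have huA : u ∈ F.autGroup E := mul_mem (mul_mem hyA hxA) (inv_mem (mul_mem hxA hyA))
    have hu1 : u ≠ 1 := by
      intro h
      obtain ⟨e, he⟩ : ∃ e, y e ≠ e := by
        by_contra h'; push Not at h'; exact hyH (by rw [show y = 1 from MulEquiv.ext h']; exact one_mem H)
      obtain ⟨m, hm, hm1⟩ := key e
      have h2 := congrArg (fun f : MulAut E => f e) (mul_inv_eq_one.1 h)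
      simp only [MulAut.mul_apply] at h2
      rw [h2, left_eq_mul, inv_eq_one] at hm
      exact hm1 he hm
    have cux : Commute x u := MulEquiv.ext fun e => by
      obtain ⟨r, hr⟩ := hxe e
      obtain ⟨m, hm⟩ := huv e
      show x (u e) = u (x e)
      rw [hm, hr, map_mul, map_mul, map_pow, map_pow, hr, hm, hxa, hua, mul_assoc, mul_assoc, hab (a ^ r)]
    have cuy : Commute u y := MulEquiv.ext fun e => by
      obtain ⟨r, hr⟩ := hye e
      obtain ⟨m, hm⟩ := huv e
      show u (y e) = y (u e)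
      rw [hr, hm, map_mul, map_mul, map_pow, map_pow, hr, hm, hl, hub, mul_assoc, mul_assoc, hab (a ^ m)]
    exact hyH (hH.reach u y huA hyA (hH.reach x u hxA huA (hH.ofS hx) hx1 hxp hup cux) hu1 hup hyp cuy)
  have hkd := not_dvd_of_ne hexp hk1
  have hld := not_dvd_of_ne hexp hl1
  obtain ⟨m, hm⟩ := exists_coeff (p := p) (k := k * l) (hp.out.not_dvd_mul hkd hld) 1
  have hmd : ¬ p ∣ l * m := fun hd => hp.out.not_dvd_one ((Nat.dvd_add_left (by
    rw [mul_assoc]; exact dvd_mul_of_dvd_right hd k)).1 (Nat.dvd_of_mod_eq_zero hm))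
  set s := x * y ^ m * x with hs
  have hYa : (y ^ m) a = a * b ^ (l * m) := pow_transvection hyb hl m
  have hYb : (y ^ m) b = b := by
    rw [pow_transvection hyb (show y b = b * b ^ 0 by rw [hyb, pow_zero, mul_one]) m, zero_mul, pow_zero, mul_one]
  have hsa : s a = b ^ (l * m) := by
    show x ((y ^ m) (x a)) = _
    rw [hxa, hYa, map_mul, map_pow, hxa, hk, (hcom b (a ^ k)).mul_pow, ← pow_mul, ← mul_assoc, hab a (b ^ _),
      mul_assoc, ← pow_succ']
    rw [pow_dvd_one hexp a (show (k * (l * m) + 1) % p = 0 by rw [← mul_assoc, add_comm]; exact hm), mul_one]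
  have hsb : s b = a ^ k := by
    show x ((y ^ m) (x b)) = _
    rw [hk, map_mul, map_pow, hYb, hYa, (hcom a (b ^ _)).mul_pow, ← pow_mul, map_mul, map_mul, map_pow, map_pow, hxa, hk]
    rw [(hcom b (a ^ k)).mul_pow, ← pow_mul a, hab b (a ^ k)]
    calc a ^ k * b * (a ^ k * (b ^ (l * m * k) * a ^ (k * (l * m * k))))
        = a ^ k * (b * b ^ (l * m * k)) * (a ^ k * a ^ (k * (l * m * k))) := by
          simp only [mul_assoc]; rw [← mul_assoc (a ^ k) (b ^ _), hab (a ^ k) (b ^ _), mul_assoc]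
      _ = a ^ k := by
          rw [← pow_succ', ← pow_add, pow_dvd_one hexp b (show (l * m * k + 1) % p = 0 by
            rw [← hm]; ring_nf), pow_dvd_one hexp a (show (k + k * (l * m * k)) % p = 0 by
            obtain ⟨t, ht⟩ := Nat.dvd_of_mod_eq_zero hm
            exact Nat.mod_eq_zero_of_dvd ⟨k * t, by rw [show k + k * (l * m * k) = k * (1 + k * l * m) by ring, ht]; ring⟩),
            mul_one, mul_one]
  have hsfix : ∀ z : E, x z = z → y z = z → s z = z := fun z h1 h2 => by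
    have : (y ^ m) z = z := by
      rw [pow_transvection hyb (show y z = z * b ^ 0 by rw [h2, pow_zero, mul_one]) m, zero_mul, pow_zero, mul_one]
    show x ((y ^ m) (x z)) = z
    rw [h1, this, h1]
  refine ⟨b, k, s, s * s, y, ⟨hxA, hyA, hyp, mul_mem (mul_mem hxA (pow_mem hyA m)) hxA, ?_, hxa, hk, hkd,
    ⟨l * m, hmd, hsa⟩, hsb, hsfix, ?_, ?_, ?_, ?_, ?_⟩, g, hg, hy, hgH⟩
  · exact mul_mem (mul_mem (mul_mem hxA (pow_mem hyA m)) hxA) (mul_mem (mul_mem hxA (pow_mem hyA m)) hxA)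
  · intro z h1 h2; show s (s z) = z; rw [hsfix z h1 h2, hsfix z h1 h2]
  · show s (s a) = a⁻¹
    rw [hsa, map_pow, hsb, ← pow_mul, eq_inv_iff_mul_eq_one, ← pow_succ]
    exact pow_dvd_one hexp a (by rw [← mul_assoc, add_comm]; exact hm)
  · show s (s b) = b⁻¹
    rw [hsb, map_pow, hsa, ← pow_mul, eq_inv_iff_mul_eq_one, ← pow_succ]
    exact pow_dvd_one hexp b (by rw [show l * m * k + 1 = 1 + k * l * m by ring]; exact hm)
  · intro e
    obtain ⟨r, hr⟩ := hxe e
    obtain ⟨l', hl'⟩ := exists_coeff (p := p) (k := k) hkd r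
    have hxel : x (e * b ^ l') = e * b ^ l' := by
      rw [map_mul, map_pow, hr, hk, (hcom b (a ^ k)).mul_pow, ← pow_mul, mul_assoc e, ← mul_assoc (a ^ r),
        hab (a ^ r) (b ^ l'), mul_assoc, ← pow_add, pow_dvd_one hexp a hl', mul_one]
    obtain ⟨q, hq⟩ := hye (e * b ^ l')
    obtain ⟨i, hi⟩ := exists_coeff (p := p) (k := l) hld q
    obtain ⟨i', hi'⟩ := exists_coeff (p := p) (k := 1) hp.out.not_dvd_one i
    obtain ⟨l'', hl''⟩ := exists_coeff (p := p) (k := 1) hp.out.not_dvd_one l'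
    rw [one_mul] at hi' hl''
    refine ⟨i', l'', e * b ^ l' * a ^ i, ?_, ?_, ?_⟩
    · letI : CommGroup E := { (inferInstance : Group E) with mul_comm := hab }
      calc e = e * (b ^ (l' + l'') * a ^ (i + i')) := by
            rw [pow_dvd_one hexp a hi', pow_dvd_one hexp b hl'', one_mul, mul_one]
        _ = _ := by rw [pow_add, pow_add]; ac_rfl
    · rw [map_mul, map_pow, hxel, hxa]
    · rw [map_mul, map_pow, hq, hl, (hcom a (b ^ l)).mul_pow, ← pow_mul, mul_assoc (e * b ^ l') (b ^ q), ← mul_assoc (b ^ q),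
        hab (b ^ q) (a ^ i), mul_assoc (a ^ i), ← pow_add, pow_dvd_one hexp b hi, mul_one]
  · intro K hxK hsK
    have h1 : y ^ m ∈ K := by
      have := K.mul_mem (K.mul_mem (K.inv_mem hxK) hsK) (K.inv_mem hxK)
      simpa [hs, mul_assoc] using this
    have hm0 : ¬ p ∣ m := fun hd => hmd (dvd_mul_of_dvd_right hd l)
    obtain ⟨t, ht⟩ := exists_coeff (p := p) (k := m) hm0 (p - 1)
    obtain ⟨c, hc⟩ := Nat.dvd_of_mod_eq_zero ht
    have : y = (y ^ m) ^ t := by
      have h2 : y ^ (p - 1 + m * t) = 1 := by rw [hc, pow_mul, hyp, one_pow]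
      rw [pow_add, pow_mul] at h2
      refine mul_left_cancel (a := y ^ (p - 1)) ?_
      rw [h2, ← pow_succ, Nat.sub_add_cancel hp.out.one_lt.le, hyp]
    rw [this]; exact pow_mem h1 t

end CfsgLib.PearlFour
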