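import Cfsg.Agent.PearlFour.MaxClass
import Mathlib

/-!
Weights of an endomorphism on the layers of a group of maximal class.
-/

set_option autoImplicit false
set_option linter.style.haveILetI false

open scoped commutatorElement

namespace CfsgLib.PearlFour

open CfsgLib.MaxPearl

variable {p n : ℕ} [hp : Fact p.Prime] {G : Type*} [Group G] [Finite G] {T : ℕ → Subgroup G}

/-- `f` acts on the layer `j` as the power `m`. -/
def Weight (T : ℕ → Subgroup G) (f : G → G) (j : ℕ) (m : ℤ) : Prop :=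
  ∀ u ∈ T j, f u * (u ^ m)⁻¹ ∈ T (j + 1)

theorem mk_eq_of (T : ℕ → Subgroup G) {k : ℕ} [(T k).Normal] {a b : G} :
    a * b⁻¹ ∈ T k ↔ QuotientGroup.mk' (T k) a = QuotientGroup.mk' (T k) b := by
  rw [← mul_inv_eq_one (a := QuotientGroup.mk' (T k) a), ← map_inv, ← map_mul]
  exact (QuotientGroup.eq_one_iff _).symm

theorem layer_central (c : Chain p n T) {j : ℕ} [(T (j + 2)).Normal] {x : G} (hx : x ∈ T (j + 1)) (g : G) :
    Commute (QuotientGroup.mk' (T (j + 2)) x) (QuotientGroup.mk' (T (j + 2)) g) :=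
  (commute_mk.2 (c.mem_step (Nat.succ_pos j) hx g)).symm

theorem bracket_pow (c : Chain p n T) {j : ℕ} (hj : 1 ≤ j) [(T (j + 2)).Normal] {u : G} (hu : u ∈ T j) (s : G)
    (k l : ℤ) : QuotientGroup.mk' (T (j + 2)) ⁅s ^ k, u ^ l⁆ = QuotientGroup.mk' (T (j + 2)) ⁅s, u⁆ ^ (k * l) := by
  set π := QuotientGroup.mk' (T (j + 2))
  have hc : ∀ (a : G) (v : G), v ∈ T j → ∀ g, Commute (π ⁅a, v⁆) (π g) := fun a v hv g =>
    layer_central c (c.mem_step hj hv a) g
  let f1 : G →* (G ⧸ T (j + 2)) := MonoidHom.mk' (fun a => π ⁅a, u⁆) fun a b => by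
    rw [show ⁅a * b, u⁆ = a * ⁅b, u⁆ * a⁻¹ * ⁅a, u⁆ by simp only [commutatorElement_def]; group, map_mul, map_mul,
      map_mul, map_inv, ← (hc b u hu a).eq, mul_inv_cancel_right, (hc b u hu _).eq]
  let f2 : ↥(T j) →* (G ⧸ T (j + 2)) := MonoidHom.mk' (fun v => π ⁅s ^ k, (v : G)⁆) fun v v' => by
    rw [Subgroup.coe_mul, show ⁅s ^ k, (v : G) * v'⁆ = ⁅s ^ k, (v : G)⁆ * ((v : G) * ⁅s ^ k, (v' : G)⁆ * (v : G)⁻¹) by
      simp only [commutatorElement_def]; group, map_mul, map_mul, map_mul, map_inv, ← (hc _ _ v'.2 v).eq,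
      mul_inv_cancel_right]
  have h1 : π ⁅s ^ k, u⁆ = π ⁅s, u⁆ ^ k := map_zpow f1 s k
  have h2 : π ⁅s ^ k, u ^ l⁆ = π ⁅s ^ k, u⁆ ^ l := map_zpow f2 ⟨u, hu⟩ l
  rw [h2, h1, ← zpow_mul]

theorem map_pow' {f : G → G} (hf : ∀ u v, f (u * v) = f u * f v) (u : G) (k : ℤ) : f (u ^ k) = f u ^ k :=
  map_zpow (MonoidHom.mk' f hf) u k

theorem weight_of_gen (c : Chain p n T) {f : G → G} (hf : ∀ u v, f (u * v) = f u * f v) {j : ℕ} (hj : 1 ≤ j) (hjn : j < n)
    (hfT : ∀ u ∈ T (j + 1), f u ∈ T (j + 1)) {u : G} (hu : u ∈ T j) (hu' : u ∉ T (j + 1)) {m : ℤ}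
    (hm : f u * (u ^ m)⁻¹ ∈ T (j + 1)) : Weight T f j m := by
  haveI := c.normal (j + 1)
  set π := QuotientGroup.mk' (T (j + 1))
  intro v hv
  obtain ⟨k, -, w, hw, rfl⟩ := c.gen hjn hu hu' hv
  have hm' : π (f u) = π u ^ m := by rw [← map_zpow]; exact (mk_eq_of T).1 hm
  have hw1 : π w = 1 := (QuotientGroup.eq_one_iff _).2 hw
  have hfw : π (f w) = 1 := (QuotientGroup.eq_one_iff _).2 (hfT w hw)
  have hfk : f (u ^ k) = f u ^ k := by simpa using map_pow' hf u (k : ℤ)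
  rw [mk_eq_of, hf, hfk, map_mul, hfw, mul_one, map_pow, hm', map_zpow, map_mul, hw1, mul_one, map_pow,
    ← zpow_natCast, ← zpow_natCast (π u), ← zpow_mul, ← zpow_mul, mul_comm]

theorem weight_exists (c : Chain p n T) {f : G → G} (hf : ∀ u v, f (u * v) = f u * f v) {j : ℕ} (hj : 1 ≤ j) (hjn : j < n)
    (hfT : ∀ u ∈ T j, f u ∈ T j) (hfT' : ∀ u ∈ T (j + 1), f u ∈ T (j + 1)) : ∃ m, Weight T f j m := by
  haveI := c.normal (j + 1)
  obtain ⟨u, hu, hu'⟩ := c.exists_level hjn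
  obtain ⟨k, -, w, hw, hk⟩ := c.gen hjn hu hu' (hfT u hu)
  refine ⟨(k : ℤ), weight_of_gen c hf hj hjn hfT' hu hu' ?_⟩
  rw [hk, zpow_natCast, show u ^ k * w * (u ^ k)⁻¹ = u ^ k * w * (u ^ k)⁻¹ from rfl]
  exact (c.normal (j + 1)).conj_mem w hw _

theorem dvd_of_pow_mem (c : Chain p n T) {j : ℕ} {u : G} (hu : u ∈ T j) (hu' : u ∉ T (j + 1)) {k : ℤ}
    (h : u ^ k ∈ T (j + 1)) : (p : ℤ) ∣ k := by
  haveI := c.normal (j + 1)
  set π := QuotientGroup.mk' (T (j + 1))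
  have h1 : π u ≠ 1 := fun e => hu' ((QuotientGroup.eq_one_iff _).1 e)
  have h2 : π u ^ p = 1 := by rw [← map_pow]; exact (QuotientGroup.eq_one_iff _).2 (c.pow_mem_succ j hu)
  have h3 : π u ^ k = 1 := by rw [← map_zpow]; exact (QuotientGroup.eq_one_iff _).2 h
  have h4 := orderOf_dvd_iff_zpow_eq_one.2 h3
  rwa [(hp.out.eq_one_or_self_of_dvd _ (orderOf_dvd_of_pow_eq_one h2)).resolve_left
    (fun e => h1 (orderOf_eq_one_iff.1 e))] at h4

theorem weight_unique (c : Chain p n T) {f : G → G} {j : ℕ} {m m' : ℤ} (hjn : j < n) (h : Weight T f j m)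
    (h' : Weight T f j m') : (p : ℤ) ∣ m - m' := by
  haveI := c.normal (j + 1)
  obtain ⟨u, hu, hu'⟩ := c.exists_level hjn
  have := ((mk_eq_of T).1 (h u hu)).symm.trans ((mk_eq_of T).1 (h' u hu))
  refine dvd_of_pow_mem c hu hu' ?_
  rw [zpow_sub]
  exact (mk_eq_of T).2 this

/-- Bracketing with `s` multiplies the weight by that of `s`. -/
theorem weight_step (c : Chain p n T) {f : G → G} (hf : ∀ u v, f (u * v) = f u * f v) {j : ℕ} (hj : 1 ≤ j)
    (hjn : j + 1 < n) {u : G} (hu : u ∈ T j) {m : ℤ} (hm : f u * (u ^ m)⁻¹ ∈ T (j + 1)) {s : G} {σ : ℤ}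
    (hs : ∀ x ∈ T j, ⁅f s * (s ^ σ)⁻¹, x⁆ ∈ T (j + 2)) (hfT : ∀ u ∈ T (j + 2), f u ∈ T (j + 2))
    (hsu : ⁅s, u⁆ ∉ T (j + 2)) : Weight T f (j + 1) (σ * m) := by
  haveI := c.normal (j + 2)
  haveI := c.normal (j + 1)
  have hfu : f u ∈ T j := by
    have := (T j).mul_mem (c.anti (Nat.le_succ j) hm) ((T j).zpow_mem hu m)
    rwa [inv_mul_cancel_right] at this
  refine weight_of_gen c hf (Nat.succ_pos j) hjn hfT (c.mem_step hj hu s) hsu ?_
  set π := QuotientGroup.mk' (T (j + 2))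
  rw [mk_eq_of]
  show π (f ⁅s, u⁆) = π (⁅s, u⁆ ^ (σ * m))
  rw [map_zpow, ← bracket_pow c hj hu]
  have e1 : f ⁅s, u⁆ = ⁅f s, f u⁆ := map_commutatorElement (MonoidHom.mk' f hf) s u
  rw [e1]
  set d := f s * (s ^ σ)⁻¹
  set d' := f u * (u ^ m)⁻¹
  have hfs : f s = d * s ^ σ := (inv_mul_cancel_right _ _).symm
  have q1 : Commute (π d) (π (f u)) := commute_mk.2 (hs _ hfu)
  have q2 : Commute (π (s ^ σ)) (π d') := (layer_central c hm _).symm
  have q3 : Commute (π d) (π ⁅s ^ σ, u ^ m⁆) := (layer_central c (c.mem_step hj ((T j).zpow_mem hu m) _) _).symm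
  have hfu' : f u = d' * u ^ m := (inv_mul_cancel_right _ _).symm
  rw [map_commutatorElement]
  have h1 : ⁅π (f s), π (f u)⁆ = ⁅π (s ^ σ), π (f u)⁆ := by
    rw [hfs, map_mul]
    have q4 : Commute (π d) ⁅π (s ^ σ), π (f u)⁆ := by
      rw [← map_commutatorElement]
      exact (layer_central c (c.mem_step hj hfu _) _).symm
    calc ⁅π d * π (s ^ σ), π (f u)⁆ = π d * ⁅π (s ^ σ), π (f u)⁆ * (π d)⁻¹ * ⁅π d, π (f u)⁆ := by
          simp only [commutatorElement_def]; group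
      _ = _ := by rw [q4.eq, commutatorElement_eq_one_iff_mul_comm.2 q1.eq, mul_one, mul_inv_cancel_right]
  rw [h1, hfu', map_mul, map_commutatorElement]
  calc ⁅π (s ^ σ), π d' * π (u ^ m)⁆ = ⁅π (s ^ σ), π d'⁆ * (π d' * ⁅π (s ^ σ), π (u ^ m)⁆ * (π d')⁻¹) := by
        simp only [commutatorElement_def]; group
    _ = _ := by
      rw [commutatorElement_eq_one_iff_mul_comm.2 q2.eq, one_mul]
      have : Commute (π d') ⁅π (s ^ σ), π (u ^ m)⁆ := by
        rw [← map_commutatorElement]; exact layer_central c hm _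
      rw [this.eq, mul_inv_cancel_right]

/-- The lower central series is preserved by every endomorphism. -/
theorem lcs_mapsTo {f : G → G} (hf : ∀ u v, f (u * v) = f u * f v) : ∀ k, ∀ u ∈ (⊤ : Subgroup G).lowerCentralSeries k,
    f u ∈ (⊤ : Subgroup G).lowerCentralSeries k := by
  set φ := MonoidHom.mk' f hf
  intro k
  induction k with
  | zero => intro u _; simp
  | succ k ih =>
    have : (⊤ : Subgroup G).lowerCentralSeries (k + 1) ≤ ((⊤ : Subgroup G).lowerCentralSeries (k + 1)).comap φ := by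
      conv_lhs => rw [Subgroup.lowerCentralSeries_succ]
      rw [Subgroup.commutator_le]
      intro a ha b _
      rw [Subgroup.mem_comap, map_commutatorElement, Subgroup.lowerCentralSeries_succ]
      exact Subgroup.commutator_mem_commutator (ih a ha) (Subgroup.mem_top _)
    exact fun u hu => this hu

end CfsgLib.PearlFour
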