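import Cfsg.Agent.PearlFour.Excl
import Cfsg.Agent.PearlFour.Climb
import Cfsg.Agent.PearlFour.Weights
import Mathlib

/-!
An elementary abelian essential subgroup of order `p³` in a group of maximal class: common set-up.
-/

set_option autoImplicit false
set_option linter.style.haveILetI false

open Cfsg
open scoped commutatorElement

namespace CfsgLib.PearlFour

open scoped Pointwise

open Cfsg.FusionSystem CfsgLib.Fusion CfsgLib.MaxPearl

universe u

variable {Ω : Type u} [Group Ω] {S : Subgroup Ω} [Finite S] {F : Cfsg.FusionSystem S}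
variable {p n : ℕ} [hp : Fact p.Prime] {T : ℕ → Subgroup S} {E : Subgroup Ω}

/-- The standing hypotheses. -/
structure Ctx (F : Cfsg.FusionSystem S) (p n : ℕ) (T : ℕ → Subgroup S) (E : Subgroup Ω) : Prop where
  hp5 : 5 ≤ p
  h5 : 5 ≤ n
  hS : IsPGroup p S
  hF : F.IsSaturated p
  c : Chain p n T
  hT : IsLcs T
  hE : F.IsEssential p E
  hab : ∀ x y : E, x * y = y * x
  hexp : ∀ e : E, e ^ p = 1
  hcard : Nat.card E = p ^ 3

theorem Opp.comm {p : ℕ} {x : MulAut E} {a b : E} {k : ℕ} {s w y : MulAut E} (o : Opp F p E x a b k s w y)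
    (hab : ∀ x y : E, x * y = y * x) : w * x = x * w ∧ ∀ e, x (w e * e) = w e * e := by
  have hlc : ∀ u v r : E, u * (v * r) = v * (u * r) := fun u v r => by rw [← mul_assoc, hab u v, mul_assoc]
  have hmi : ∀ u v : E, (u * v)⁻¹ = u⁻¹ * v⁻¹ := fun u v => by rw [mul_inv_rev, hab]
  have hmp : ∀ (u v : E) (m : ℕ), (u * v) ^ m = u ^ m * v ^ m := fun u v m => (show Commute u v from hab u v).mul_pow m
  refine ⟨MulEquiv.ext fun e => ?_, fun e => ?_⟩
  · obtain ⟨i, l, z, he, hz1, hz2⟩ := o.decomp e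
    show w (x e) = x (w e)
    rw [he]
    simp only [map_mul, map_pow, map_inv, o.xa, o.xb, o.wa, o.wb, o.wfix z hz1 hz2, hz1, hmi, hmp, inv_pow]
  · obtain ⟨i, l, z, he, hz1, hz2⟩ := o.decomp e
    have : w e * e = z * z := by
      rw [he]
      simp only [map_mul, map_pow, o.wa, o.wb, o.wfix z hz1 hz2, inv_pow]
      calc (a ^ i)⁻¹ * (b ^ l)⁻¹ * z * (a ^ i * b ^ l * z) = (a ^ i)⁻¹ * (b ^ l)⁻¹ * (z * (a ^ i * b ^ l)) * z := by group
        _ = z * z := by rw [hab z, hab (a ^ i) (b ^ l)]; group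
    rw [this, map_mul, hz1]

namespace Ctx

variable (C : Ctx F p n T E)
include C

theorem le : E ≤ S := C.hE.1.1

theorem card0 : Nat.card (E.subgroupOf S) = p ^ 3 := by
  rw [Nat.card_congr (Subgroup.subgroupOfEquivOfLe C.le).toEquiv, C.hcard]

theorem comm0 {u v : S} (hu : u ∈ E.subgroupOf S) (hv : v ∈ E.subgroupOf S) : u * v = v * u :=
  Subtype.ext (congrArg (fun z : E => (z : Ω)) (C.hab ⟨u, hu⟩ ⟨v, hv⟩))

theorem exp0 {u : S} (hu : u ∈ E.subgroupOf S) : u ^ p = 1 :=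
  Subtype.ext (congrArg (fun z : E => (z : Ω)) (C.hexp ⟨u, hu⟩))

theorem self_cent {u : S} (h : ∀ v ∈ E.subgroupOf S, u * v = v * u) : u ∈ E.subgroupOf S := by
  refine C.hE.1.2 E (CfsgLib.Fusion.IsConj.refl C.le) ⟨u.2, Subgroup.mem_centralizer_iff.2 fun e he => ?_⟩
  exact (congrArg Subtype.val (h ⟨e, C.le he⟩ he)).symm

theorem center_mem {u : S} (h : ∀ g : S, g * u = u * g) : u ∈ E.subgroupOf S :=
  C.self_cent fun v _ => (h v).symm

theorem cardT {j : ℕ} (hj : j ≤ n) : Nat.card (T j) = p ^ (n - j) := C.c.card j hj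

theorem last_le : T (n - 1) ≤ E.subgroupOf S := fun _ hu => C.center_mem (center_comm C.c hu)

theorem kills {j : ℕ} (hj : 1 ≤ j) (hjn : j + 3 ≤ n) : Kills T j := by
  rcases Nat.lt_or_ge j 2 with h | h
  · rw [show j = 1 by omega]; exact kills_one C.c
  · exact kills_all C.hp5 n C.c C.hT j h hjn

theorem sup_eq {K H : Subgroup S} (hKH : K ≤ H) {v : S} (hv : v ∈ H) (hvK : v ∉ K) [K.Normal]
    (hc : Nat.card H ≤ p * Nat.card K) : K ⊔ Subgroup.zpowers v = H := by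
  have hle : K ⊔ Subgroup.zpowers v ≤ H := sup_le hKH (Subgroup.zpowers_le.2 hv)
  refine Subgroup.eq_of_le_of_card_ge hle ?_
  obtain ⟨a, ha⟩ := IsPGroup.iff_card.1 (C.hS.to_subgroup K)
  obtain ⟨b, hb⟩ := IsPGroup.iff_card.1 (C.hS.to_subgroup (K ⊔ Subgroup.zpowers v))
  have hlt : Nat.card K < Nat.card ↥(K ⊔ Subgroup.zpowers v) := lt_of_le_of_ne (Subgroup.card_le_of_le le_sup_left)
    fun e => hvK ((Subgroup.eq_of_le_of_card_ge le_sup_left e.ge).ge (Subgroup.mem_sup_right (Subgroup.mem_zpowers v)))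
  rw [ha, hb, Nat.pow_lt_pow_iff_right hp.out.one_lt] at hlt
  rw [ha, ← pow_succ'] at hc
  exact hc.trans (hb ▸ Nat.pow_le_pow_right hp.out.pos hlt)

/-- `E` meets `T 1` in at least `p²` elements; with an element outside, it lies in the centralizer of `T (n-2)`. -/
theorem le_one_or_cent : E.subgroupOf S ≤ T 1 ∨ ∀ e ∈ E.subgroupOf S, ∀ b ∈ T (n - 2), e * b = b * e := by
  by_contra h
  push Not at h
  obtain ⟨h1, e, he, b, hb, hne⟩ := h
  obtain ⟨a, ha, ha1⟩ := SetLike.not_le_iff_exists.1 h1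
  obtain ⟨v, hv, hv1, hv2⟩ : ∃ v ∈ E.subgroupOf S, v ∉ T 1 ∧ ¬ ∀ b ∈ T (n - 2), v * b = b * v := by
    by_cases he1 : e ∉ T 1
    · exact ⟨e, he, he1, fun h => hne (h b hb)⟩
    by_cases ha2 : ∀ b ∈ T (n - 2), a * b = b * a
    · refine ⟨a * e, mul_mem ha he, fun hh => ha1 ?_, fun hh => hne ?_⟩
      · exact (Subgroup.mul_mem_cancel_right _ (not_not.1 he1)).1 hh
      · have h3 := hh b hb
        have h4 := ha2 b hb
        calc e * b = a⁻¹ * (a * e * b) := by group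
          _ = a⁻¹ * (b * a) * e := by rw [h3]; group
          _ = b * e := by rw [← h4]; group
    · exact ⟨a, ha, ha1, ha2⟩
  have h4 := C.c.h4
  have d : CfsgLib.MaxPearlC.SeedC p v := CfsgLib.MaxPearlC.seed_of_avoid C.c fun j hj hjn => by
    obtain ⟨u, hu, hu'⟩ := C.c.exists_level (j := j) (by omega)
    refine ⟨u, hu, ?_⟩
    rcases Nat.lt_or_ge (j + 2) n with h | h
    · exact moves C.c C.hT hj hjn (C.kills hj (by omega)) hv1 hu hu'
    · intro hh
      apply hv2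
      intro b' hb'
      obtain ⟨k, -, w, hw, rfl⟩ := C.c.gen (show n - 2 < n by omega) (show u ∈ T (n - 2) by rwa [show n - 2 = j by omega])
        (by rwa [show n - 2 + 1 = j + 1 by omega]) hb'
      rw [show n - 2 + 1 = n - 1 by omega] at hw
      have : Commute v u := commutatorElement_eq_one_iff_mul_comm.1 (C.c.eq_one (by omega) hh)
      exact (this.pow_right k).mul_right (center_comm C.c hw v)
  have hle : E.subgroupOf S ≤ Subgroup.centralizer ({v} : Set S) := fun u hu =>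
    Subgroup.mem_centralizer_singleton_iff.2 (C.comm0 hu hv)
  have := Subgroup.card_le_of_le hle
  rw [C.card0, d.cent, Nat.pow_le_pow_iff_right hp.out.one_lt] at this
  omega

/-- The automorphism of `E` induced by an element normalising it. -/
theorem mem_norm {g : S} (hg : g ∈ Subgroup.normalizer (E.subgroupOf S : Set S)) : (g : Ω) ∈ normalizerIn S E := by
  have : (g : Ω) ∈ amb (Subgroup.normalizer (E.subgroupOf S : Set S)) := ⟨g, hg, rfl⟩
  rwa [← normalizerIn_amb, amb_subgroupOf C.le] at this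

theorem norm_of_comm {g : S} (h : ∀ u ∈ E.subgroupOf S, ⁅g, u⁆ ∈ E.subgroupOf S) :
    g ∈ Subgroup.normalizer (E.subgroupOf S : Set S) := by
  refine Subgroup.mem_normalizer_fintype fun u hu => ?_
  have := (E.subgroupOf S).mul_mem (h u hu) hu
  rwa [commutatorElement_def, inv_mul_cancel_right] at this

/-- `c_g`. -/
noncomputable def cg {g : S} (hg : g ∈ Subgroup.normalizer (E.subgroupOf S : Set S)) : MulAut E :=
  conjAut E S ⟨g, C.mem_norm hg⟩

theorem cg_mem {g : S} (hg : g ∈ Subgroup.normalizer (E.subgroupOf S : Set S)) : C.cg hg ∈ autInducedBy S E := by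
  rw [← range_conjAut]; exact ⟨_, rfl⟩

theorem cg_apply {g : S} (hg : g ∈ Subgroup.normalizer (E.subgroupOf S : Set S)) (e : E) :
    ((C.cg hg e : E) : Ω) = ((⁅g, (⟨e, C.le e.2⟩ : S)⁆ : S) : Ω) * e := by
  show (g : Ω) * e * (g : Ω)⁻¹ = _
  simp only [commutatorElement_def, Subgroup.coe_mul, InvMemClass.coe_inv]
  group

theorem cg_fix {g : S} (hg : g ∈ Subgroup.normalizer (E.subgroupOf S : Set S)) (e : E) :
    C.cg hg e = e ↔ ⁅g, (⟨e, C.le e.2⟩ : S)⁆ = 1 := by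
  rw [← Subtype.coe_inj, C.cg_apply hg, mul_eq_right]
  exact ⟨fun h => Subtype.ext h, fun h => by rw [h]; rfl⟩

theorem nat_of_zpowers {A x : S} (hA : A ^ p = 1) (hx : x ∈ Subgroup.zpowers A) : ∃ r : ℕ, x = A ^ r := by
  obtain ⟨i, rfl⟩ := hx
  refine ⟨(i % (p : ℤ)).toNat, ?_⟩
  rw [← zpow_natCast, Int.toNat_of_nonneg (Int.emod_nonneg i (by exact_mod_cast hp.out.ne_zero))]
  show A ^ i = _
  conv_lhs => rw [← Int.emod_add_mul_ediv i p, zpow_add, zpow_mul, zpow_natCast, hA, one_zpow, mul_one]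

/-- A transvection `c_g` with centre `A`. -/
theorem transvection {g A : S} (hg : g ∈ Subgroup.normalizer (E.subgroupOf S : Set S)) (hA : A ∈ E.subgroupOf S)
    (hgA : g * A = A * g) (hdisp : ∀ u ∈ E.subgroupOf S, ⁅g, u⁆ ∈ Subgroup.zpowers A) :
    C.cg hg ⟨A, hA⟩ = ⟨A, hA⟩ ∧ ∀ e : E, ∃ r : ℕ, C.cg hg e = e * (⟨A, hA⟩ : E) ^ r := by
  refine ⟨(C.cg_fix hg _).2 (commutatorElement_eq_one_iff_mul_comm.2 hgA), fun e => ?_⟩
  obtain ⟨r, hr⟩ := C.nat_of_zpowers (C.exp0 hA) (hdisp ⟨e, C.le e.2⟩ e.2)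
  refine ⟨r, ?_⟩
  rw [C.hab e]
  apply Subtype.ext
  rw [C.cg_apply hg, hr, Subgroup.coe_mul, SubmonoidClass.coe_pow, SubmonoidClass.coe_pow]

theorem cg_ne_one {g : S} (hg : g ∈ Subgroup.normalizer (E.subgroupOf S : Set S)) (h : g ∉ E.subgroupOf S) :
    C.cg hg ≠ 1 := fun he => h (C.self_cent fun v hv => by
  have := (C.cg_fix hg ⟨v, hv⟩).1 (by rw [he]; rfl)
  exact commutatorElement_eq_one_iff_mul_comm.1 this)

/-- When the normalizer is `E⟨g⟩`, an involution of `Aut_F(E)` extends to it. -/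
theorem base {g A : S} (hg : g ∈ Subgroup.normalizer (E.subgroupOf S : Set S)) (hgE : g ∉ E.subgroupOf S)
    (hA : A ∈ E.subgroupOf S) (hgA : g * A = A * g) (hdisp : ∀ u ∈ E.subgroupOf S, ⁅g, u⁆ ∈ Subgroup.zpowers A)
    (hN : Subgroup.normalizer (E.subgroupOf S : Set S) ≤ E.subgroupOf S ⊔ Subgroup.zpowers g) :
    ∃ f, AutOn F (Subgroup.normalizer (E.subgroupOf S : Set S)) f ∧ (∀ u ∈ E.subgroupOf S, f u ∈ E.subgroupOf S) ∧
      f A = A⁻¹ ∧ (∀ u ∈ E.subgroupOf S, g * u = u * g → ∃ m : ℕ, f u = u * A ^ m) ∧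
      (∀ u ∈ E.subgroupOf S, g * (f u * u) = f u * u * g) ∧
      ∃ Z ∈ E.subgroupOf S, Z ≠ 1 ∧ g * Z = Z * g ∧ f Z = Z := by
  classical
  obtain ⟨H, hH⟩ := exists_core C.hS C.hF C.hE C.hab
  obtain ⟨hxa, hxe⟩ := C.transvection hg hA hgA hdisp
  set x := C.cg hg with hxd
  set a : E := ⟨A, hA⟩ with had
  obtain ⟨b, k, s, w, y, o, -⟩ := exists_opp C.hab C.hexp hH C.le (C.cg_mem hg) (C.cg_ne_one hg hgE) hxa hxe
  have hmi : ∀ u v : E, (u * v)⁻¹ = u⁻¹ * v⁻¹ := fun u v => by rw [mul_inv_rev, C.hab]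
  have hmp : ∀ (u v : E) (m : ℕ), (u * v) ^ m = u ^ m * v ^ m := fun u v m => (show Commute u v from C.hab u v).mul_pow m
  haveI : Finite E := finite_of_le C.le
  have hlc : ∀ u v r : E, u * (v * r) = v * (u * r) := fun u v r => by rw [← mul_assoc, C.hab u v, mul_assoc]
  set f₀ : S → S := fun v => if hv : v ∈ E.subgroupOf S then ⟨(w ⟨v, hv⟩ : E), C.le (w _).2⟩ else v
  have hf₀e : ∀ (v : S) (hv : v ∈ E.subgroupOf S), (f₀ v : Ω) = w ⟨v, hv⟩ := fun v hv => by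
    simp only [f₀, dif_pos hv]
  have hEeq : amb (E.subgroupOf S) = E := amb_subgroupOf C.le
  have hwx : w * x = x * w := (o.comm C.hab).1
  have hgen : ∀ β ∈ autInducedBy S E, ∃ i : ℤ, β = x ^ i := by
    intro β hβ
    obtain ⟨h, hh, hhe⟩ := mem_autInducedBy.1 hβ
    have hhn : (⟨h, hh⟩ : S) ∈ Subgroup.normalizer (E.subgroupOf S : Set S) :=
      Subgroup.mem_normalizer_fintype fun u hu => by
        show h * (u : Ω) * h⁻¹ ∈ E
        rw [← hhe ⟨u, hu⟩]; exact (β _).2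
    haveI : ((E.subgroupOf S).subgroupOf (Subgroup.normalizer (E.subgroupOf S : Set S))).Normal :=
      Subgroup.normal_in_normalizer
    have h3 := hN hhn
    rw [← SetLike.mem_coe, Subgroup.coe_mul_of_right_le_normalizer_left _ _ (Subgroup.zpowers_le.2 hg)] at h3
    obtain ⟨e, he, q, ⟨i, rfl⟩, hq⟩ := Set.mem_mul.1 h3
    refine ⟨i, MulEquiv.ext fun v => Subtype.ext ?_⟩
    rw [hhe v, hxd, show C.cg hg = conjAut E S ⟨g, C.mem_norm hg⟩ from rfl, ← map_zpow, conjAut_apply]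
    have h4 : h = (e : Ω) * (g : Ω) ^ i := (congrArg Subtype.val hq).symm
    have h5 : (g : Ω) ^ i * v * ((g : Ω) ^ i)⁻¹ ∈ E :=
      conj_mem_of_normalizer (Subgroup.zpow_mem (Subgroup.normalizer (E : Set Ω)) (C.mem_norm hg).2 i) v.2
    have h6 := congrArg Subtype.val (C.hab ⟨e, he⟩ ⟨_, h5⟩)
    simp only [Subgroup.coe_mul] at h6
    push_cast
    rw [h4]
    calc (e : Ω) * (g : Ω) ^ i * v * ((e : Ω) * (g : Ω) ^ i)⁻¹
        = (e : Ω) * ((g : Ω) ^ i * v * ((g : Ω) ^ i)⁻¹) * (e : Ω)⁻¹ := by group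
      _ = _ := by rw [h6, mul_inv_cancel_right]
  have transfer : ∀ P : Subgroup Ω, P = E → ∀ (γ : MulAut P), (∀ (u : P) (hu : (u : Ω) ∈ E), (γ u : Ω) = w ⟨u, hu⟩) →
      ∀ β ∈ autInducedBy S P, γ * β * γ⁻¹ ∈ autInducedBy S P := by
    rintro P rfl γ hγ β hβ
    rw [show γ = w from MulEquiv.ext fun u => Subtype.ext (hγ u u.2)]
    obtain ⟨i, rfl⟩ := hgen β hβ
    rw [((show Commute w x from hwx).zpow_right i).eq, mul_inv_cancel_right]
    exact zpow_mem (hxd ▸ C.cg_mem hg) i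
  have hon : ∀ P : Subgroup Ω, P = E → ∃ γ : MulAut P, γ ∈ F.autGroup P ∧
      ∀ (u : P) (hu : (u : Ω) ∈ E), (γ u : Ω) = w ⟨u, hu⟩ := by
    rintro P rfl
    exact ⟨w, o.wA, fun u _ => rfl⟩
  obtain ⟨γ, hγ, hγe⟩ := hon _ hEeq
  have hf : AutOn F (E.subgroupOf S) f₀ := ⟨γ, hγ, fun u hu => by rw [hγe ⟨u, mem_amb.2 hu⟩ hu, hf₀e u hu]⟩
  obtain ⟨f, hf', hfe⟩ := extend_of_normalizes C.hS C.hF _ (hEeq.symm ▸ C.hE.2.1) hf
    fun γ' hγ' hγe' => transfer _ hEeq γ' fun u hu => by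
      have := hγe' ⟨u, amb_le _ u.2⟩ hu
      rw [hf₀e _ hu] at this
      exact this
  refine ⟨f, hf', fun u hu => ?_, ?_, fun u hu hgu => ?_, fun u hu => ?_, ?_⟩
  · rw [hfe u hu]; exact hf.mem hu
  · rw [hfe A hA]
    apply Subtype.ext
    rw [hf₀e A hA]
    exact congrArg (fun v : E => (v : Ω)) o.wa
  · obtain ⟨i, l, z, he, hz1, hz2⟩ := o.decomp ⟨u, hu⟩
    have hxu : x ⟨u, hu⟩ = ⟨u, hu⟩ := (C.cg_fix hg _).2 (commutatorElement_eq_one_iff_mul_comm.2 hgu)
    have hl : b ^ l = 1 := by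
      rw [he, map_mul, map_mul, map_pow x a, o.xa, hz1, mul_left_inj, mul_right_inj, map_pow, o.xb, hmp,
        ← pow_mul, mul_eq_left] at hxu
      by_cases hl0 : p ∣ l
      · exact pow_dvd_one C.hexp b (Nat.mod_eq_zero_of_dvd hl0)
      · exact absurd (MulEquiv.ext fun e => by
          obtain ⟨r, hr⟩ := hxe e
          rw [hr, eq_one_of_pow C.hexp (hp.out.not_dvd_mul o.kne hl0) hxu, one_pow, mul_one]; rfl)
          (C.cg_ne_one hg hgE)
    rw [hl, mul_one] at he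
    refine ⟨(p - 2) * i, ?_⟩
    rw [hfe u hu]
    apply Subtype.ext
    rw [hf₀e u hu, he, map_mul, map_pow, o.wa, o.wfix z hz1 hz2]
    have hu' : (u : Ω) = ((a ^ i * z : E) : Ω) := congrArg Subtype.val he
    have key : (a⁻¹) ^ i * z = a ^ i * z * a ^ ((p - 2) * i) := by
      rw [mul_assoc (a ^ i), C.hab z, ← mul_assoc, ← pow_add, inv_pow, inv_eq_of_mul_eq_one_right (a := a ^ i) (b := a ^ (i + (p - 2) * i))]
      rw [← pow_add]
      exact pow_dvd_one C.hexp a (by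
        rw [show i + (i + (p - 2) * i) = (2 + (p - 2)) * i by ring, Nat.add_sub_cancel' hp.out.two_le]
        exact Nat.mul_mod_right p i)
    rw [key, Subgroup.coe_mul, ← hu', Subgroup.coe_mul, SubmonoidClass.coe_pow, SubmonoidClass.coe_pow]
  · obtain ⟨i, l, z, he, hz1, hz2⟩ := o.decomp ⟨u, hu⟩
    have hfx : x (w ⟨u, hu⟩ * ⟨u, hu⟩) = w ⟨u, hu⟩ * ⟨u, hu⟩ := (o.comm C.hab).2 _
    have h7 := (C.cg_fix hg _).1 hfx
    have h8 : (⟨((w ⟨u, hu⟩ * ⟨u, hu⟩ : E) : Ω), C.le (w ⟨u, hu⟩ * ⟨u, hu⟩).2⟩ : S) = f u * u := Subtype.ext (by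
      rw [hfe u hu, Subgroup.coe_mul, Subgroup.coe_mul, hf₀e u hu])
    rw [h8] at h7
    exact commutatorElement_eq_one_iff_mul_comm.1 h7
  · obtain ⟨z, hz, hz1, hz2⟩ : ∃ z : E, z ≠ 1 ∧ x z = z ∧ y z = z := by
      by_contra hcon
      push Not at hcon
      have hsurj : Function.Surjective (fun q : Fin p × Fin p => a ^ (q.1 : ℕ) * b ^ (q.2 : ℕ)) := fun e => by
        obtain ⟨i, l, z, he, hz1, hz2⟩ := o.decomp e
        have hz : z = 1 := by
          by_contra h; exact hcon z h hz1 hz2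
        refine ⟨(⟨i % p, Nat.mod_lt _ hp.out.pos⟩, ⟨l % p, Nat.mod_lt _ hp.out.pos⟩), ?_⟩
        rw [he, hz, mul_one]
        show a ^ (i % p) * b ^ (l % p) = _
        conv_rhs => rw [← Nat.mod_add_div i p, ← Nat.mod_add_div l p, pow_add, pow_add, pow_mul, pow_mul, C.hexp,
          C.hexp, one_pow, one_pow, mul_one, mul_one]
      have := Nat.card_le_card_of_surjective _ hsurj
      rw [C.hcard, Nat.card_prod, Nat.card_fin, ← pow_two, Nat.pow_le_pow_iff_right hp.out.one_lt] at this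
      omega
    have hzS : (⟨z, C.le z.2⟩ : S) ∈ E.subgroupOf S := z.2
    refine ⟨_, hzS, fun h => hz (Subtype.ext (congrArg (fun z : S => (z : Ω)) h)),
      commutatorElement_eq_one_iff_mul_comm.1 ((C.cg_fix hg z).1 hz1), ?_⟩
    rw [hfe _ hzS]
    apply Subtype.ext
    rw [hf₀e _ hzS]
    exact congrArg Subtype.val (o.wfix z hz1 hz2)

/-- Every conjugate of a subgroup above `E` has a normalizer at most `p` times larger. -/
theorem fully {H : Subgroup S} (hEH : E.subgroupOf S ≤ H) {Zc : Subgroup S} (hZE : Zc ≤ E.subgroupOf S)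
    (hZ : Nat.card Zc = p ^ 2) (hZc : ∀ z ∈ Zc, ∀ u ∈ H, z * u = u * z)
    (hNE : Nat.card (Subgroup.normalizer (E.subgroupOf S : Set S)) ≤ p ^ 4) {k : ℕ} (hH : Nat.card H = p ^ (k + 3)) :
    ∀ Q, F.IsConj (amb H) Q → Nat.card (normalizerIn S Q) ≤ p * Nat.card H := by
  intro Q hQ
  have hE' : E = amb (E.subgroupOf S) := (amb_subgroupOf C.le).symm
  have hNE' : Nat.card (normalizerIn S E) ≤ p ^ 4 := by
    rw [hE', normalizerIn_amb, card_amb]; exact hNE
  rw [← card_amb H]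
  refine card_normalizer_conj (E := E) (Z := amb Zc) (hE'.le.trans (Subgroup.map_mono hEH))
    ((Subgroup.map_mono hZE).trans hE'.ge) C.hE.1 C.hcard ((card_amb _).trans hZ) ?_
    (fun R hR => (C.hE.2.1.2 R hR).trans hNE') ((card_amb _).trans hH) C.hS hQ
  rintro _ ⟨z, hz, rfl⟩ _ ⟨u, hu, rfl⟩
  exact congrArg Subtype.val (hZc z hz u hu)

theorem fully_normalized {H : Subgroup S} (h : ∀ Q, F.IsConj (amb H) Q → Nat.card (normalizerIn S Q) ≤ p * Nat.card H)
    (hN : p * Nat.card H ≤ Nat.card (Subgroup.normalizer (H : Set S))) : F.IsFullyNormalized (amb H) :=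
  ⟨amb_le H, fun Q hQ => (h Q hQ).trans (by rw [normalizerIn_amb, card_amb]; exact hN)⟩

end Ctx

end CfsgLib.PearlFour
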